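import Groth.Agent.H12AlgSp.Approx.Step
import Groth.Agent.H13AlgSp.InductionPrinciple

/-!
# Absolute approximation of quasi-compact and quasi-separated algebraic spaces
-/

set_option autoImplicit false
set_option linter.style.haveILetI false
set_option maxHeartbeats 1600000
set_option backward.isDefEq.respectTransparency false
universe u

open CategoryTheory CategoryTheory.Limits AlgebraicGeometry Opposite
open AlgSp Groth.Agent.H13AlgSp

namespace Groth.Agent.H12AlgSp.Approx

variable {S : Scheme.{u}}

/-- A system for a space gives one for an isomorphic space. -/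
noncomputable def Sys.ofIso {X Y : Sp S} (σ : Sys X) (e : X ≅ Y) : Sys Y where
  I := σ.I
  D := σ.D
  π := (Functor.const _).map e.inv ≫ σ.π
  isLimit := σ.isLimit.ofIsoLimit (Cone.ext e fun a => by
    show σ.π.app a = e.hom ≫ e.inv ≫ σ.π.app a
    rw [Iso.hom_inv_id_assoc])
  alg := σ.alg
  affine := σ.affine
  qc := σ.qc
  qs := σ.qs
  lfp := σ.lfp

/-- A space of finite presentation is its own system. -/
theorem exists_sys_of_lfp {X : Sp S} (hX : IsAlgSpace X) (hc : IsQuasiCompactSp X) (hs : IsQuasiSeparatedSp X)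
    (hl : LocP @LocallyOfFinitePresentation (strMap X)) : Nonempty (Sys X) := by
  haveI : IsDirected PUnit.{u + 1} (fun a b => a ≤ b) := ⟨fun _ _ => ⟨PUnit.unit, trivial, trivial⟩⟩
  haveI : CategoryTheory.IsConnected PUnit.{u + 1}ᵒᵖ :=
    haveI := IsFiltered.isConnected PUnit.{u + 1}
    isConnected_op
  exact ⟨{
    I := PUnit.{u + 1}
    D := (Functor.const _).obj X
    π := 𝟙 _
    isLimit := isLimitConstCone _ X
    alg := fun _ => hX
    affine := fun i j φ => isAffineMor_iff.2 (by
      show RepWith @IsAffineHom (𝟙 X)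
      exact repWith_of_isIso _)
    qc := fun _ => hc
    qs := fun _ => hs
    lfp := fun _ => hl }⟩

/-- The empty space has a system. -/
theorem exists_sys_empty [QuasiSeparatedSpace S] {F : Sp S} (hF : IsAlgSpace F) [IsEmpty (Points F)] : Nonempty (Sys F) := by
  obtain ⟨U, u, hue, hus⟩ := hF.atlas
  haveI : IsEmpty U.left := ⟨fun t => isEmptyElim (Points.ofPt u t)⟩
  have huo : RepWith @IsOpenImmersion u := repWith_isOpenImmersion_of_univInjective (IsAlgSpace.yon_obj U) hF
    (isEtaleMor_of_locP (IsAlgSpace.yon_obj U) hF (locP_of_repWith etLocal_etale hue))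
    (isUnivInjectiveMor_of_injective_on_fields fun K _ str a => by
      obtain ⟨a', rfl⟩ := (yon S).map_surjective a
      exact isEmptyElim (a'.left (IsLocalRing.closedPoint K)))
  haveI := TopInv.isIso_of_openImmersion_surjective huo (fun z => isEmptyElim z)
  haveI : CompactSpace U.left := inferInstance
  have hl : LocallyOfFinitePresentation U.hom := inferInstance
  obtain ⟨σ⟩ := exists_sys_of_lfp (IsAlgSpace.yon_obj U) (isQuasiCompactSp_yon_iff.2 inferInstance)
    (isQuasiSeparatedSp_yon inferInstance) (locP_lfp_strMap_yon hl)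
  exact ⟨σ.ofIso (asIso u)⟩

theorem isNoetherian_of_isTerminal (hS : IsTerminal S) : IsAffine S ∧ IsNoetherian S := by
  let e₀ : S ≅ Spec (CommRingCat.of (ULift.{u} ℤ)) := hS.uniqueUpToIso specULiftZIsTerminal
  haveI : IsNoetherianRing (CommRingCat.of (ULift.{u} ℤ)) := H7Lim.Approx.isNoetherianRing_ulift_int
  haveI : IsAffine S := IsAffine.of_isIso e₀.hom
  haveI : IsLocallyNoetherian S := isLocallyNoetherian_of_isOpenImmersion e₀.hom
  exact ⟨inferInstance, ⟨⟩⟩

/-- Absolute approximation. -/
theorem exists_sys (hS : IsTerminal S) {X : Sp S}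
    (hX : IsAlgSpace X) (hXc : IsQuasiCompactSp X) (hXs : IsQuasiSeparatedSp X) : Nonempty (Sys X) := by
  obtain ⟨hSa, hSn⟩ := isNoetherian_of_isTerminal hS
  haveI : QuasiSeparatedSpace S := inferInstance
  haveI : IsLocallyNoetherian S := inferInstance
  have h : Nonempty (Sys (openSub (Set.univ : Set (Points X)))) := by
    refine open_induction hX hXc hXs isOpen_empty isCompact_empty (fun O => Nonempty (Sys (openSub O))) ?_
      fun O O' k A a hO hOc hO' hO'c _ hk hA hsq ⟨σ⟩ => ?_
    · haveI : IsEmpty (Points (openSub (∅ : Set (Points X)))) :=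
        ⟨fun z => (range_openSubι hX (∅ : Set (Points X))).le ⟨z, rfl⟩⟩
      exact exists_sys_empty (isAlgSpace_openSub hX isOpen_empty)
    · refine exists_sys_step hS (isAlgSpace_openSub hX hO') (isQuasiSeparatedSp_of_mono hXs (openSubι O'))
        (isAlgSpace_openSub hX hO) ?_ hsq σ
      refine isQuasiCompactSp_of_isCompact_range (isAlgSpace_openSub hX hO) (repWith_openSubι hO) ?_
      rwa [range_openSubι hX]
  obtain ⟨σ⟩ := h
  haveI := TopInv.isIso_of_openImmersion_surjective (repWith_openSubι (isOpen_univ (X := Points X)))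
    (fun z => (range_openSubι hX _).ge (Set.mem_univ z))
  exact ⟨σ.ofIso (asIso (openSubι Set.univ))⟩

end Groth.Agent.H12AlgSp.Approx
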