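import Groth.Agent.H12AlgSp.Approx.FiniteStage

/-!
# Integral and finite morphisms as limits of finite morphisms of finite presentation
-/

set_option autoImplicit false
set_option linter.style.haveILetI false
set_option maxHeartbeats 800000
set_option backward.isDefEq.respectTransparency false
universe u

open CategoryTheory CategoryTheory.Limits AlgebraicGeometry Opposite
open AlgSp Groth.Agent.H13AlgSp

namespace Groth.Agent.H12AlgSp.Approx

variable {S : Scheme.{u}}

theorem isFinitePresentationMor_comp_closed {W D Y : Sp S} (hW : IsAlgSpace W) (hD : IsAlgSpace D)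
    (hY : IsAlgSpace Y) {w : W ⟶ D} {t : D ⟶ Y} (hw : IsFinitePresentationMor w)
    (ht : IsFinitePresentationMor t) (hf : IsFiniteMor (w ≫ t)) : IsFinitePresentationMor (w ≫ t) :=
  ⟨locP_comp etLocal_lfp hW hD hY hw.1 ht.1,
    isQuasiCompactMor_of_repWith hW hY
      (repWith_le (fun _ _ k (_ : IsFinite k) => inferInstanceAs (QuasiCompact k)) (isFiniteMor_iff.1 hf)),
    isQuasiSeparatedMor_of_isSeparatedMor (isSeparatedMor_of_repWith
      (repWith_le (fun _ _ k (_ : IsFinite k) => inferInstanceAs (IsSeparated k)) (isFiniteMor_iff.1 hf)))⟩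

theorem exists_fp_map_unique {A B D : Sp S} {a : A ⟶ D} {b : B ⟶ D} (hb : RepWith @IsClosedImmersion b)
    {k k' : A ⟶ B} (h : k ≫ b = a) (h' : k' ≫ b = a) : k = k' :=
  haveI := mono_of_closedImmersion hb
  (cancel_mono b).1 (h.trans h'.symm)

section

variable {X Y : Sp S} {f : X ⟶ Y} (Φ : SysOver f)

/-- Finite closed subspaces of the stages, compatible with the given morphism. -/
structure FinData where
  /-- The index sets of the closed subspaces. -/
  L : Φ.I → Type u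
  [preorder : ∀ i, Preorder (L i)]
  [directed : ∀ i, IsDirected (L i) (fun a b => a ≤ b)]
  [nonempty : ∀ i, Nonempty (L i)]
  /-- The closed subspaces. -/
  W : ∀ i, (L i)ᵒᵖ ⥤ Sp S
  /-- The inclusions. -/
  w : ∀ i, W i ⟶ (Functor.const (L i)ᵒᵖ).obj (Φ.D.obj (op i))
  /-- Their limit. -/
  c : ∀ i, Cone (W i)
  isLimit : ∀ i, IsLimit (c i)
  /-- The inclusion of the limit. -/
  z : ∀ i, (c i).pt ⟶ Φ.D.obj (op i)
  /-- A finite stage. -/
  l₀ : ∀ i, (L i)ᵒᵖ
  image : ∀ i, IsSchImage (Φ.π.app (op i)) (z i)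
  c_w : ∀ i l, (c i).π.app l ≫ (w i).app l = z i
  alg : ∀ i l, IsAlgSpace ((W i).obj l)
  closed_map : ∀ i (l m : (L i)ᵒᵖ) (φ : l ⟶ m), RepWith @IsClosedImmersion ((W i).map φ)
  closed : ∀ i l, RepWith @IsClosedImmersion ((w i).app l) ∧ IsFinitePresentationMor ((w i).app l)
  finite : ∀ i l, (l ⟶ l₀ i) → IsFiniteMor ((w i).app l ≫ Φ.t.app (op i))

attribute [instance] FinData.preorder FinData.directed FinData.nonempty

variable {Φ} (F : FinData Φ)

/-- The index set. -/
structure FinIdx : Type u where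
  /-- The stage. -/
  i : Φ.I
  /-- The closed subspace. -/
  l : F.L i
  le_l : (F.l₀ i).unop ≤ l

variable {F}

/-- The closed subspace of an index. -/
abbrev FinIdx.obj (p : FinIdx F) : Sp S := (F.W p.i).obj (op p.l)

/-- Its inclusion. -/
abbrev FinIdx.incl (p : FinIdx F) : p.obj ⟶ Φ.D.obj (op p.i) := (F.w p.i).app (op p.l)

/-- The map from the source. -/
noncomputable def FinIdx.proj (p : FinIdx F) : X ⟶ p.obj := (F.image p.i).2.1.choose ≫ (F.c p.i).π.app (op p.l)

theorem FinIdx.proj_incl (p : FinIdx F) : p.proj ≫ p.incl = Φ.π.app (op p.i) := by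
  rw [FinIdx.proj, Category.assoc, F.c_w, (F.image p.i).2.1.choose_spec]

/-- The order. -/
def FinLE (p q : FinIdx F) : Prop :=
  ∃ h : p.i ≤ q.i, ∃ k : q.obj ⟶ p.obj, k ≫ p.incl = q.incl ≫ Φ.D.map (homOfLE h).op

instance : Preorder (FinIdx F) where
  le := FinLE
  le_refl p := ⟨le_rfl, 𝟙 _, by rw [Category.id_comp, show (homOfLE (le_refl p.i)).op = 𝟙 (op p.i) from rfl,
    Φ.D.map_id, Category.comp_id]⟩
  le_trans p q r := fun ⟨h₁, k₁, e₁⟩ ⟨h₂, k₂, e₂⟩ => ⟨h₁.trans h₂, k₂ ≫ k₁, by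
    rw [Category.assoc, e₁, reassoc_of% e₂, ← Φ.D.map_comp]
    rfl⟩

/-- Above two indices there is a third. -/
theorem FinIdx.exists_ge [QuasiSeparatedSpace S] (hYc : IsQuasiCompactSp Y) (hYs : IsQuasiSeparatedSp Y)
    (hY : IsAlgSpace Y) (ht : ∀ i, IsAffineMor (Φ.t.app i)) (p q : FinIdx F) :
    ∃ r, p ≤ r ∧ q ≤ r := by
  obtain ⟨k, hp, hq⟩ := Φ.directed.directed p.i q.i
  have key : ∀ (p : FinIdx F) (h : p.i ≤ k) (l : F.L k), ∃ (m : F.L k), l ≤ m ∧
      ∃ u : (F.W k).obj (op m) ⟶ p.obj, u ≫ p.incl = (F.w k).app (op m) ≫ Φ.D.map (homOfLE h).op := by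
    intro p h l
    let g := Φ.D.map (homOfLE h).op
    let P := pullback p.incl g
    let pr : P ⟶ Φ.D.obj (op k) := pullback.snd p.incl g
    have hpr : RepWith @IsClosedImmersion pr := repWith_of_isPullback (IsPullback.of_hasPullback _ _) (F.closed _ _).1
    have hP : IsAlgSpace P := isAlgSpace_pullback (Φ.alg _).diag (F.alg _ _) (Φ.alg _) _ _
    have hlfp : LocP @LocallyOfFinitePresentation pr :=
      locP_of_isPullback etLocal_lfp (IsPullback.of_hasPullback p.incl g) (F.alg _ _) (Φ.alg _) (Φ.alg _)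
        (F.closed _ _).2.1
    haveI := mono_of_closedImmersion hpr
    haveI := mono_of_closedImmersion (F.closed p.i (op p.l)).1
    obtain ⟨y, hy⟩ : ∃ y : (F.c k).pt ⟶ P, y ≫ pr = F.z k :=
      (F.image k).2.2 pr hP hpr ⟨pullback.lift p.proj (Φ.π.app (op k)) (by
        rw [p.proj_incl]
        exact ((Cone.mk X Φ.π).w (homOfLE h).op).symm), pullback.lift_snd _ _ _⟩
    obtain ⟨j, φ, u, hu, -⟩ := exists_lift_stage_of_relLP (relLP_of_locP_lfp hP (Φ.alg _) hlfp) (F.alg k)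
      (fun a b φ => isAffineMor_iff.2 (repWith_le (fun _ _ k (_ : IsClosedImmersion k) => inferInstanceAs (IsAffineHom k))
        (F.closed_map k a b φ)))
      (F.isLimit k)
      (fun a => (qc_qs_of_isAffineMor (F.alg k a) (Φ.alg _) (isAffineMor_iff.2 (repWith_le
        (fun _ _ k (_ : IsClosedImmersion k) => inferInstanceAs (IsAffineHom k)) (F.closed k a).1))
        (Φ.qc _) (Φ.qs _)).1)
      (fun a => (qc_qs_of_isAffineMor (F.alg k a) (Φ.alg _) (isAffineMor_iff.2 (repWith_le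
        (fun _ _ k (_ : IsClosedImmersion k) => inferInstanceAs (IsAffineHom k)) (F.closed k a).1))
        (Φ.qc _) (Φ.qs _)).2)
      (op l) y ((F.w k).app (op l)) (by rw [hy, F.c_w])
    refine ⟨j.unop, leOfHom φ.unop, u ≫ pullback.fst _ _, ?_⟩
    rw [Category.assoc, pullback.condition, ← Category.assoc, hu, (F.w k).naturality φ]
    simp [g]
  obtain ⟨m₁, hm₁, u, hu⟩ := key p hp (F.l₀ k).unop
  obtain ⟨m₂, hm₂, v, hv⟩ := key q hq m₁
  refine ⟨⟨k, m₂, hm₁.trans hm₂⟩, ⟨hp, (F.W k).map (homOfLE hm₂).op ≫ u, ?_⟩, hq, v, hv⟩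
  rw [Category.assoc, hu, ← Category.assoc, (F.w k).naturality]
  simp

end

/-- The limit of the finite closed subspaces, with a property of the chosen ones. -/
theorem FinData.exists_sys [QuasiSeparatedSpace S] {X Y : Sp S} {f : X ⟶ Y} {Φ : SysOver f}
    (hΦ : ∀ i, IsAffineMor (Φ.t.app i)) (F : FinData Φ) (hY : IsAlgSpace Y) (hYc : IsQuasiCompactSp Y)
    (hYs : IsQuasiSeparatedSp Y) (P : ∀ Z : Sp S, (X ⟶ Z) → (Z ⟶ Y) → Prop)
    (hP : ∀ p : FinIdx F, P p.obj p.proj (p.incl ≫ Φ.t.app (op p.i))) :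
    ∃ Ψ : SysOver f, ∀ i, IsFiniteMor (Ψ.t.app i) ∧ P (Ψ.D.obj i) (Ψ.π.app i) (Ψ.t.app i) := by
  haveI : Nonempty (FinIdx F) := ⟨⟨Φ.nonempty.some, (F.l₀ _).unop, le_rfl⟩⟩
  haveI : IsDirected (FinIdx F) (fun a b => a ≤ b) := ⟨fun p q => FinIdx.exists_ge hYc hYs hY hΦ p q⟩
  haveI : IsDirectedOrder (FinIdx F) := ⟨fun a b => directed_of (fun a b : FinIdx F => a ≤ b) a b⟩
  let ι : FinIdx F →o Φ.I := ⟨fun p => p.i, fun _ _ h => h.1⟩
  haveI : Functor.Final ι.monotone.functor := ι.monotone.final_functor_iff.2 fun i =>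
    ⟨⟨i, (F.l₀ i).unop, le_rfl⟩, le_rfl⟩
  haveI : ∀ p : FinIdx F, Mono p.incl := fun p => mono_of_closedImmersion (F.closed _ _).1
  let β : (FinIdx F)ᵒᵖ ⥤ Φ.Iᵒᵖ := ι.monotone.functor.op
  have hm : ∀ {p q : (FinIdx F)ᵒᵖ} (φ : p ⟶ q), ∃ k : p.unop.obj ⟶ q.unop.obj,
      k ≫ q.unop.incl = p.unop.incl ≫ Φ.D.map (β.map φ) := fun φ => φ.unop.le.2
  choose m hm using @hm
  let D : (FinIdx F)ᵒᵖ ⥤ Sp S :=
    { obj := fun p => p.unop.obj
      map := fun φ => m φ
      map_id := fun p => by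
        rw [← cancel_mono p.unop.incl, hm, β.map_id]
        exact (congrArg (p.unop.incl ≫ ·) (Φ.D.map_id _)).trans
          ((Category.comp_id _).trans (Category.id_comp _).symm)
      map_comp := fun {p q r} φ ψ => by
        rw [← cancel_mono r.unop.incl, Category.assoc, hm, hm, reassoc_of% (hm φ), β.map_comp, Φ.D.map_comp] }
  let inc : D ⟶ β ⋙ Φ.D :=
    { app := fun p => p.unop.incl
      naturality := fun p q φ => hm φ }
  let π : (Functor.const (FinIdx F)ᵒᵖ).obj X ⟶ D :=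
    { app := fun p => p.unop.proj
      naturality := fun p q φ => (Category.id_comp _).trans (by
        rw [← cancel_mono q.unop.incl, Category.assoc, show D.map φ ≫ q.unop.incl = _ from hm φ,
          reassoc_of% (p.unop.proj_incl), q.unop.proj_incl]
        exact ((Cone.mk X Φ.π).w (β.map φ)).symm) }
  let hl' := (Functor.Initial.isLimitWhiskerEquiv β (Cone.mk X Φ.π)).symm Φ.isLimit
  have hl : IsLimit (Cone.mk X π) :=
    { lift := fun s => hl'.lift ((Cone.postcompose inc).obj s)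
      fac := fun s p => by
        rw [← cancel_mono p.unop.incl, Category.assoc, show π.app p ≫ p.unop.incl = _ from p.unop.proj_incl]
        exact hl'.fac _ p
      uniq := fun s k hk => hl'.hom_ext fun p => by
        rw [hl'.fac]
        show k ≫ Φ.π.app _ = s.π.app p ≫ p.unop.incl
        rw [← hk p, Category.assoc]
        exact congrArg (k ≫ ·) p.unop.proj_incl.symm }
  let t : D ⟶ (Functor.const (FinIdx F)ᵒᵖ).obj Y := inc ≫ Functor.whiskerLeft β Φ.t
  have htf : ∀ p, IsFiniteMor (t.app p) := fun p =>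
    F.finite p.unop.i (op p.unop.l) (homOfLE p.unop.le_l).op
  exact ⟨{
    I := FinIdx F
    D := D
    t := t
    π := π
    isLimit := hl
    alg := fun p => F.alg _ _
    affine := fun p q φ => isAffineMor_iff.2 (repWith_of_comp_separated
      (fun _ _ k (_ : IsClosedImmersion k) => inferInstanceAs (IsAffineHom k))
      (g := q.unop.incl) (isSeparatedMor_of_repWith (repWith_le
        (fun _ _ k (_ : IsClosedImmersion k) => inferInstanceAs (IsSeparated k)) (F.closed _ _).1)) (by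
        rw [show D.map φ ≫ q.unop.incl = _ from hm φ]
        exact repWith_comp (repWith_le (fun _ _ k (_ : IsClosedImmersion k) => inferInstanceAs (IsAffineHom k))
          (F.closed _ _).1) (isAffineMor_iff.1 (Φ.affine _ _ _))))
    fp := fun p => isFinitePresentationMor_comp_closed (F.alg _ _) (Φ.alg _) hY (F.closed _ _).2 (Φ.fp _) (htf p)
    qc := fun p => (qc_qs_of_isAffineMor (F.alg _ _) hY
      (isIntegralMor_iff_affine_univClosed.1 (isFiniteMor_isIntegralMor (htf p))).1 hYc hYs).1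
    qs := fun p => (qc_qs_of_isAffineMor (F.alg _ _) hY
      (isIntegralMor_iff_affine_univClosed.1 (isFiniteMor_isIntegralMor (htf p))).1 hYc hYs).2
    fac := fun p => by
      show p.unop.proj ≫ p.unop.incl ≫ Φ.t.app _ = f
      rw [reassoc_of% (p.unop.proj_incl)]
      exact Φ.fac _ }, fun p => ⟨htf p, hP p.unop⟩⟩

/-- An integral morphism is a limit of finite morphisms of finite presentation. -/
theorem exists_limit_finite [QuasiSeparatedSpace S] {X Y : Sp S} {f : X ⟶ Y} (hX : IsAlgSpace X) (hY : IsAlgSpace Y)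
    (hf : IsIntegralMor f) (hYc : IsQuasiCompactSp Y) (hYs : IsQuasiSeparatedSp Y) :
    ∃ Ψ : SysOver f, ∀ i, IsFiniteMor (Ψ.t.app i) := by
  obtain ⟨Φ, hΦ⟩ := exists_sysOver_affine hX hY (isIntegralMor_iff_affine_univClosed.1 hf).1 hYc hYs
  have hlft : ∀ i, LocP @LocallyOfFiniteType (Φ.t.app i) := fun i U V a b k ha hb w =>
    haveI := (Φ.fp i).1 a b k ha hb w
    inferInstance
  choose L hL₁ hL₂ hL₃ W w c hc z l₀ himg hcw hWa hWm hw hfin using fun i : Φ.I =>
    exists_finite_ftLimit hX (Φ.alg (op i)) hY hYc hYs (Φ.π.app (op i)) (Φ.t.app (op i)) (hΦ _) (hlft _)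
      (by rw [Φ.fac]; exact hf)
  let F : FinData Φ :=
    { L := L, preorder := hL₁, directed := hL₂, nonempty := hL₃, W := W, w := w, c := c, isLimit := hc, z := z
      l₀ := l₀, image := himg, c_w := hcw, alg := hWa, closed_map := hWm, closed := hw, finite := hfin }
  obtain ⟨Ψ, hΨ⟩ := F.exists_sys hΦ hY hYc hYs (fun _ _ _ => True) (fun _ => trivial)
  exact ⟨Ψ, fun i => (hΨ i).1⟩

/-- A finite morphism is a limit of finite morphisms of finite presentation with closed transitions. -/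
theorem exists_limit_finite_closed [QuasiSeparatedSpace S] {X Y : Sp S} {f : X ⟶ Y} (hX : IsAlgSpace X)
    (hY : IsAlgSpace Y) (hf : IsFiniteMor f) (hYc : IsQuasiCompactSp Y) (hYs : IsQuasiSeparatedSp Y) :
    ∃ Ψ : SysOver f, (∀ i, IsFiniteMor (Ψ.t.app i)) ∧
      ∀ (i j : Ψ.Iᵒᵖ) (φ : i ⟶ j), RepWith @IsClosedImmersion (Ψ.D.map φ) := by
  have hfl : LocP @LocallyOfFiniteType f :=
    locP_of_repWith etLocal_lft
      (repWith_le (fun _ _ k (_ : IsFinite k) => inferInstanceAs (LocallyOfFiniteType k)) (isFiniteMor_iff.1 hf))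
  have hfi := isFiniteMor_isIntegralMor hf
  obtain ⟨Φ, hΦ⟩ := exists_sysOver_affine hX hY (isIntegralMor_iff_affine_univClosed.1 hfi).1 hYc hYs
  obtain ⟨i₀, hi₀⟩ := Φ.eventually_closedImmersion hX hY hfl
  obtain ⟨L, _, _, _, W, w, c, hc, e, hWa, hWt, hw, hfac⟩ :=
    SubExt.exists_ftLimit (Φ.alg i₀) hX (Φ.qc i₀) (Φ.qs i₀) (hi₀ i₀ (𝟙 _))
  let t : W ⟶ (Functor.const Lᵒᵖ).obj Y := w ≫ (Functor.const Lᵒᵖ).map (Φ.t.app i₀)
  let c' : Cone W := Cone.mk X ((Functor.const Lᵒᵖ).map e.inv ≫ c.π)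
  have hc' : IsLimit c' := hc.ofIsoLimit (Cone.ext e fun l => by
    show c.π.app l = e.hom ≫ e.inv ≫ c.π.app l
    rw [Iso.hom_inv_id_assoc])
  have hfac' : ∀ l, c'.π.app l ≫ t.app l = f := fun l => by
    show (e.inv ≫ c.π.app l) ≫ w.app l ≫ Φ.t.app i₀ = f
    rw [Category.assoc, reassoc_of% (hfac l), Φ.fac]
  have hta : ∀ l, IsAffineMor (t.app l) := fun l => isAffineMor_iff.2 (repWith_comp
    (repWith_le (fun _ _ k (_ : IsClosedImmersion k) => inferInstanceAs (IsAffineHom k)) (hw l).1)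
    (isAffineMor_iff.1 (hΦ i₀)))
  have htl : ∀ l, LocP @LocallyOfFinitePresentation (t.app l) := fun l =>
    locP_comp etLocal_lfp (hWa l) (Φ.alg _) hY (hw l).2.1 (Φ.fp _).1
  obtain ⟨l₀, hl₀⟩ := eventually_finite hWa hWt hc' hY hYc t hta (fun l U V a b k ha hb w =>
    haveI := htl l a b k ha hb w
    inferInstance) (f := f) hfac' hfi
  let T := {l : L // l₀.unop ≤ l}
  haveI : Nonempty T := ⟨⟨l₀.unop, le_rfl⟩⟩
  haveI hd : IsDirected T (fun a b => a ≤ b) := ⟨fun a b => by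
    obtain ⟨l, ha, hb⟩ := directed_of (fun a b : L => a ≤ b) a.1 b.1
    exact ⟨⟨l, a.2.trans ha⟩, ha, hb⟩⟩
  let ι : T →o L := ⟨fun a => a.1, fun a b h => h⟩
  haveI : IsDirectedOrder T := hd
  haveI : Functor.Final ι.monotone.functor := ι.monotone.final_functor_iff.2 fun l => by
    obtain ⟨m, hm₁, hm₂⟩ := directed_of (fun a b : L => a ≤ b) l₀.unop l
    exact ⟨⟨m, hm₁⟩, hm₂⟩
  let β : Tᵒᵖ ⥤ Lᵒᵖ := ι.monotone.functor.op
  exact ⟨{
    I := T
    D := β ⋙ W
    t := Functor.whiskerLeft β t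
    π := Functor.whiskerLeft β c'.π
    isLimit := (Functor.Initial.isLimitWhiskerEquiv β c').symm hc'
    alg := fun _ => hWa _
    affine := fun _ _ _ => isAffineMor_iff.2
      (repWith_le (fun _ _ k (_ : IsClosedImmersion k) => inferInstanceAs (IsAffineHom k)) (hWt _ _ _))
    fp := fun l => ⟨htl _, isQuasiCompactMor_of_repWith (hWa _) hY
      (repWith_le (fun _ _ k (_ : IsAffineHom k) => inferInstanceAs (QuasiCompact k)) (isAffineMor_iff.1 (hta _))),
      isQuasiSeparatedMor_of_isAffineMor (hta _)⟩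
    qc := fun l => (qc_qs_of_isAffineMor (hWa _) hY (hta _) hYc hYs).1
    qs := fun l => (qc_qs_of_isAffineMor (hWa _) hY (hta _) hYc hYs).2
    fac := fun _ => hfac' _ },
    fun l => hl₀ (β.obj l) (homOfLE l.unop.2).op, fun _ _ _ => hWt _ _ _⟩

end Groth.Agent.H12AlgSp.Approx
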