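import Groth.Agent.H12AlgSp.Approx.Descend
import Groth.Agent.H12AlgSp.Approx.IntegralLimit
import Groth.Agent.H12AlgSp.UnivClosedQC
import Groth.Agent.H12AlgSp.SepAbsolute
import Groth.Agent.H12AlgSp.DecentSeparated
import Groth.Agent.H12AlgSp.AbsInt.Base
import Groth.Agent.H13Serre.Chevalley
import Groth.Agent.S10015
import Groth.Agent.S10018

/-!
# Targets of surjective universally closed morphisms from affine schemes are affine (Chevalley)
-/

set_option autoImplicit false
set_option linter.style.haveILetI false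
set_option maxHeartbeats 800000
set_option backward.isDefEq.respectTransparency false
universe u

open CategoryTheory CategoryTheory.Limits AlgebraicGeometry Opposite
open AlgSp Groth.Agent.H13AlgSp Groth.Agent.H12AlgSp.Shriek

attribute [local instance] CategoryTheory.isConnected_of_hasTerminal

namespace Groth.Agent.H12AlgSp.Approx

variable {S : Scheme.{u}}

/-- The source of an affine morphism to an affine scheme is affine. -/
theorem exists_affine_iso_of_isAffineMor {X : Sp S} {Y : Sp S} {f : X ⟶ Y} (hf : IsAffineMor f) {V : Over S}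
    (hV : IsAffine V.left) (e : (yon S).obj V ≅ Y) :
    ∃ T : Over S, IsAffine T.left ∧ Nonempty ((yon S).obj T ≅ X) := by
  obtain ⟨W, i, fst, sq, hW⟩ := hf hV e.hom
  haveI := sq.isIso_fst_of_isIso
  exact ⟨W, hW, ⟨asIso fst⟩⟩

theorem surjective_map_of_isPullback {X Y Z P : Sp S} {fst : P ⟶ X} {snd : P ⟶ Y} {f : X ⟶ Z} {g : Y ⟶ Z}
    (sq : IsPullback fst snd f g) (h : Function.Surjective (Points.map f)) :
    Function.Surjective (Points.map snd) := fun y => by
  obtain ⟨x, hx⟩ := h (Points.map g y)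
  obtain ⟨p, -, hp⟩ := exists_point_of_isPullback sq x y hx
  exact ⟨p, hp⟩

/-- Over a terminal base, a space receiving a finite surjection of finite presentation from an affine scheme
is affine. -/
theorem exists_affine_of_finite_fp_surjective [QuasiSeparatedSpace S] (hS : IsTerminal S) {T : Over S}
    (hT : IsAffine T.left) {Y : Sp S} (hY : IsAlgSpace Y) (hYc : IsQuasiCompactSp Y) (hYs : IsQuasiSeparatedSp Y)
    (f : (yon S).obj T ⟶ Y) (hfin : IsFiniteMor f) (hfp : IsFinitePresentationMor f)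
    (hsurj : Function.Surjective (Points.map f)) :
    ∃ T' : Over S, IsAffine T'.left ∧ Nonempty ((yon S).obj T' ≅ Y) := by
  obtain ⟨τ⟩ := exists_sys hS hY hYc hYs
  obtain ⟨i, Z, f₀, pX, hZ, hf₀, hZc, hZs, sq⟩ := exists_descend_fp hS (IsAlgSpace.yon_obj T) hY τ f hfp
  have hπ : ∀ i, IsAffineMor (τ.π.app i) := (isAlgSpace_limit_and_affine τ.affine τ.isLimit τ.alg).2
  let D' : τ.Iᵒᵖ ⥤ Sp S := τ.D
  have hsq₀ : IsPullback (τ.π.app i) (𝟙 Y) (𝟙 (τ.D.obj i)) (τ.π.app i) :=
    IsPullback.of_id_snd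
  obtain ⟨j₁, φ₁, h₁⟩ := S10018.result S τ.D τ.alg τ.affine (Cone.mk Y τ.π) τ.isLimit i (τ.qc i) (τ.qs i)
    ⟨Z, hZ⟩ ⟨τ.D.obj i, τ.alg i⟩ f₀ (𝟙 _) hZc hZs (τ.qc i) (τ.qs i) ((yon S).obj T) Y f (τ.π.app i) (𝟙 Y)
    hsq₀ pX sq hfin
    (locP_mono (fun _ _ l (_ : LocallyOfFinitePresentation l) => inferInstanceAs (LocallyOfFiniteType l)) hf₀.1)
  obtain ⟨j₂, φ₂, h₂⟩ := S10015.result S τ.D τ.alg τ.affine (Cone.mk Y τ.π) τ.isLimit i (τ.qc i) (τ.qs i)
    ⟨Z, hZ⟩ ⟨τ.D.obj i, τ.alg i⟩ f₀ (𝟙 _) hZc hZs (τ.qc i) (τ.qs i) ((yon S).obj T) Y f (τ.π.app i) (𝟙 Y)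
    hsq₀ pX sq hsurj hf₀.1
  let E : Over i ⥤ Sp S :=
    { obj := fun l => pullback f₀ (τ.D.map l.hom)
      map := fun {l l'} u => pullback.map _ _ _ _ (𝟙 Z) (τ.D.map u.left) (𝟙 _) (by simp)
        (by rw [Category.comp_id, ← Functor.map_comp, Over.w])
      map_id := fun l => by apply pullback.hom_ext <;> simp
      map_comp := fun u v => by apply pullback.hom_ext <;> simp }
  let α : E ⟶ Over.forget i ⋙ τ.D :=
    { app := fun l => pullback.snd _ _
      naturality := fun l l' u => pullback.lift_snd _ _ _ }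
  have hπl : ∀ l : Over i, τ.π.app l.left ≫ τ.D.map l.hom = τ.π.app i := fun l =>
    (τ.π.naturality l.hom).symm.trans (Category.id_comp _)
  have hEsq : ∀ l : Over i, IsPullback (pullback.fst f₀ (τ.D.map l.hom)) (α.app l) f₀ (τ.D.map l.hom) :=
    fun l => IsPullback.of_hasPullback _ _
  have hEm : ∀ {l l' : Over i} (u : l ⟶ l'), IsPullback (E.map u) (α.app l) (α.app l') (τ.D.map u.left) :=
    fun {l l'} u => by
      refine IsPullback.of_right ?_ (α.naturality u) (hEsq l')
      rw [← Functor.map_comp, Over.w, show E.map u ≫ pullback.fst f₀ (τ.D.map l'.hom) = pullback.fst f₀ (τ.D.map l.hom)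
        from (pullback.lift_fst _ _ _).trans (Category.comp_id _)]
      exact hEsq l
  let cE : Cone E :=
    { pt := (yon S).obj T
      π := { app := fun l => pullback.lift pX (f ≫ τ.π.app l.left) (by rw [Category.assoc, hπl, sq.w])
             naturality := fun l l' u => by
               refine (Category.id_comp _).trans (pullback.hom_ext ?_ ?_)
               · simp [E]
               · simp only [E, Category.assoc, pullback.lift_snd, pullback.lift_snd_assoc]
                 exact congrArg (f ≫ ·) ((Category.id_comp _).symm.trans (τ.π.naturality u.left)) } }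
  have hcE : ∀ l, IsPullback (cE.π.app l) f (α.app l) (τ.π.app l.left) := fun l => by
    refine IsPullback.of_right ?_ (pullback.lift_snd _ _ _) (hEsq l)
    rw [hπl, show cE.π.app l ≫ pullback.fst f₀ (τ.D.map l.hom) = pX from pullback.lift_fst _ _ _]
    exact sq
  let cY : Cone (Over.forget i ⋙ τ.D) := (Cone.mk Y τ.π).whisker (Over.forget i)
  have hcY : IsLimit cY := (Functor.Initial.isLimitWhiskerEquiv (Over.forget i) _).symm τ.isLimit
  have hlim : IsLimit cE := isLimitOfIsPullbackOfIsConnected α cE cY { hom := f, w := fun l => (hcE l).w.symm } hcE hcY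
  have hEa : ∀ l, IsAlgSpace (E.obj l) := fun l => isAlgSpace_pullback (τ.alg i).diag hZ (τ.alg _) _ _
  have hEc : ∀ l, IsQuasiCompactSp (E.obj l) := fun l =>
    isQuasiCompactSp_of_mor (H12AlgSp.isQuasiCompactMor_of_isPullback (hEsq l) hf₀.2.1) (τ.alg _) (τ.qc _)
  have hEs : ∀ l, IsQuasiSeparatedSp (E.obj l) := fun l =>
    isQuasiSeparatedSp_of_mor (NormSp.isQuasiSeparatedMor_of_isPullback (hEsq l) hf₀.2.2) (τ.qs _)
  obtain ⟨l₀, hl₀⟩ := exists_affine_of_affine_limit hEa
    (fun l l' u => isAffineMor_iff.2 (repWith_of_isPullback (hEm u).flip (isAffineMor_iff.1 (τ.affine _ _ u.left))))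
    hlim hEc hEs hT (Iso.refl _)
  let l₁ : Over i := IsCofiltered.min (Over.mk φ₁) (Over.mk φ₂)
  let l : Over i := IsCofiltered.min l₀ l₁
  obtain ⟨T', hT', ⟨e⟩⟩ := hl₀ l (IsCofiltered.minToLeft _ _)
  let u₁ : l ⟶ Over.mk φ₁ := IsCofiltered.minToRight _ _ ≫ IsCofiltered.minToLeft _ _
  let u₂ : l ⟶ Over.mk φ₂ := IsCofiltered.minToRight _ _ ≫ IsCofiltered.minToRight _ _
  have hfin₁ : IsFiniteMor (α.app (Over.mk φ₁)) :=
    h₁ _ _ (α.app (Over.mk φ₁)) (τ.D.map φ₁) (𝟙 _) (IsPullback.of_vert_isIso ⟨by simp⟩) _ (hEsq (Over.mk φ₁))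
  have hsurj₂ : IsSurjectiveMor (α.app (Over.mk φ₂)) :=
    h₂ _ _ (α.app (Over.mk φ₂)) (τ.D.map φ₂) (𝟙 _) (IsPullback.of_vert_isIso ⟨by simp⟩) _ (hEsq (Over.mk φ₂))
  have hfin' : IsFiniteMor (e.hom ≫ α.app l) :=
    isFiniteMor_iff.2 (MorphismProperty.RespectsIso.precomp (RepWith @IsFinite) _ _
      (repWith_of_isPullback (hEm u₁) (isFiniteMor_iff.1 hfin₁)))
  have hsurj' : Function.Surjective (Points.map (e.hom ≫ α.app l)) := fun y => by
    obtain ⟨x, rfl⟩ := surjective_map_of_isPullback (hEm u₂) hsurj₂ y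
    exact ⟨Points.map e.inv x, by rw [← Points.map_comp, Iso.inv_hom_id_assoc]⟩
  obtain ⟨V, hV, ⟨eV⟩⟩ := H13Serre.isAffSp_of_finite_surjective (X := ⟨τ.D.obj l.left, τ.alg _⟩) (τ.qc _) (τ.qs _)
    (τ.isLocNoethSp hS _) hT' hfin' hsurj'
  exact exists_affine_iso_of_isAffineMor (hπ l.left) hV eV

/-- Over a terminal base, a space receiving a universally closed surjection from an affine scheme is affine. -/
theorem exists_affine_of_univClosed_surjective_terminal [QuasiSeparatedSpace S] (hS : IsTerminal S) {T : Over S}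
    (hT : IsAffine T.left) {Y : Sp S} (hY : IsAlgSpace Y) (f : (yon S).obj T ⟶ Y)
    (hsurj : Function.Surjective (Points.map f)) (hc : IsUnivClosedMor f) :
    ∃ T' : Over S, IsAffine T'.left ∧ Nonempty ((yon S).obj T' ≅ Y) := by
  haveI : IsAffine S := (isNoetherian_of_isTerminal hS).1
  haveI := hT
  haveI : S.IsSeparated := inferInstance
  have hTs : IsSeparatedSp ((yon S).obj T) := isSeparatedSp_yon_affine
  have hTc : IsQuasiCompactSp ((yon S).obj T) := isQuasiCompactSp_yon_iff.2 inferInstance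
  have hYc : IsQuasiCompactSp Y := isQuasiCompactSp_of_surjective hY f hsurj hTc
  have hq : IsSeparatedMor (strMap Y) :=
    (separation_of_surjective_univClosed (IsAlgSpace.yon_obj T) hY (IsAlgSpace.yon_obj _) (q := strMap Y) hsurj hc).2
      (AbsInt.isSeparatedMor_of_isSeparatedSp _ hTs)
  have hYsep : IsSeparatedSp Y :=
    isSeparatedSp_of_mor (strMap Y) hq (isSeparatedSp_yon (A := Over.mk (𝟙 S)) (inferInstanceAs (IsSeparated (𝟙 S))))
  have hYs : IsQuasiSeparatedSp Y :=
    repWith_le (fun _ _ l (_ : IsClosedImmersion l) => inferInstanceAs (QuasiCompact l)) hYsep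
  have haff : IsAffineMor f := fun V hV g => by
    obtain ⟨W, i, fst, sq⟩ := hY.representable_from_yon f g
    obtain ⟨fst', rfl⟩ := (yon S).map_surjective fst
    haveI := hV
    exact ⟨W, i, (yon S).map fst', sq, (isAffine_and_surjective_of_isSeparatedSp hYsep sq).1⟩
  have hint : IsIntegralMor f := isIntegralMor_iff_affine_univClosed.2 ⟨haff, hc⟩
  obtain ⟨Ψ, hΨ⟩ := exists_limit_finite (IsAlgSpace.yon_obj T) hY hint hYc hYs
  obtain ⟨i₀, hi₀⟩ := exists_affine_of_affine_limit Ψ.alg Ψ.affine Ψ.isLimit Ψ.qc Ψ.qs hT (Iso.refl _)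
  obtain ⟨T', hT', ⟨e⟩⟩ := hi₀ i₀ (𝟙 _)
  refine exists_affine_of_finite_fp_surjective hS hT' hY hYc hYs (e.hom ≫ Ψ.t.app i₀)
    (isFiniteMor_iff.2 (MorphismProperty.RespectsIso.precomp (RepWith @IsFinite) _ _ (isFiniteMor_iff.1 (hΨ i₀))))
    ?_ fun y => ?_
  · obtain ⟨h1, -, -⟩ := Ψ.fp i₀
    have hF := isFiniteMor_iff.1 (isFiniteMor_iff.2
      (MorphismProperty.RespectsIso.precomp (RepWith @IsFinite) e.hom _ (isFiniteMor_iff.1 (hΨ i₀))))
    exact ⟨locP_comp etLocal_lfp (IsAlgSpace.yon_obj T') (Ψ.alg i₀) hY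
        (locP_of_repWith etLocal_lfp (repWith_of_isIso _)) h1,
      isQuasiCompactMor_of_repWith (IsAlgSpace.yon_obj T') hY
        (repWith_le (fun _ _ k (_ : IsFinite k) => inferInstanceAs (QuasiCompact k)) hF),
      isQuasiSeparatedMor_of_isSeparatedMor (isSeparatedMor_of_repWith
        (repWith_le (fun _ _ k (_ : IsFinite k) => inferInstanceAs (IsSeparated k)) hF))⟩
  · obtain ⟨x, rfl⟩ := hsurj y
    refine ⟨Points.map e.inv (Points.map (Ψ.π.app i₀) x), ?_⟩
    rw [← Points.map_comp, ← Points.map_comp, Iso.inv_hom_id_assoc, Ψ.fac]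

/-- A space receiving a universally closed surjection from an affine scheme is affine. -/
theorem exists_affine_of_univClosed_surjective {T : Over S} (hT : IsAffine T.left) {Y : Sp S} (hY : IsAlgSpace Y)
    (f : (yon S).obj T ⟶ Y) (hsurj : Function.Surjective (Points.map f)) (hc : IsUnivClosedMor f) :
    ∃ T' : Over S, IsAffine T'.left ∧ Nonempty ((yon S).obj T' ≅ Y) := by
  let S₀ : Scheme.{u} := Spec (CommRingCat.of (ULift.{u} ℤ))
  let g : S ⟶ S₀ := specULiftZIsTerminal.from S
  let f' : (yon S₀).obj ((Over.map g).obj T) ⟶ (shr g).obj Y := (yonIso g T).inv ≫ (shr g).map f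
  have hrep : Representable f := hY.representable_from_yon f
  have h1 : RepWith @UniversallyClosed f' := MorphismProperty.RespectsIso.precomp _ _ _
    ((repWith_shr_iff g @UniversallyClosed f).2 ((repWith_universallyClosed_iff hrep).2 hc))
  have h2 : RepWith @Surjective f' := MorphismProperty.RespectsIso.precomp _ _ _
    ((repWith_shr_iff g @Surjective f).2 (repWith_surjective_of_map hrep hsurj))
  obtain ⟨M', hM', ⟨e⟩⟩ := exists_affine_of_univClosed_surjective_terminal (S := S₀) specULiftZIsTerminal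
    (show IsAffine ((Over.map g).obj T).left from hT) (isAlgSpace_shr hY) f'
    (surjective_map_of_repWith le_rfl h2) ((repWith_universallyClosed_iff h1.1).1 h1)
  obtain ⟨M, eM, t, ht⟩ := exists_presentation e.hom
  have : IsIso ((shr g).map t) := by
    rw [show (shr g).map t = ((yon _).mapIso eM ≪≫ (yonIso g M).symm).inv ≫ e.hom by rw [ht]; simp]
    infer_instance
  obtain ⟨r, hr⟩ := exists_map (inv ((shr g).map t)) (by rw [IsIso.inv_comp_eq, toBase_naturality])
  have : IsIso t := ⟨r, (shr g).map_injective (by rw [Functor.map_comp, hr, IsIso.hom_inv_id, CategoryTheory.Functor.map_id]),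
    (shr g).map_injective (by rw [Functor.map_comp, hr, IsIso.inv_hom_id, CategoryTheory.Functor.map_id])⟩
  refine ⟨M, ?_, ⟨asIso t⟩⟩
  haveI := hM'
  have : IsIso eM.inv.left := inferInstanceAs (IsIso ((Over.forget _).map eM.inv))
  have : IsAffine ((Over.map g).obj M).left := .of_isIso eM.inv.left
  exact this

end Groth.Agent.H12AlgSp.Approx
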