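import Groth.Agent.H12AlgSp.LimitSchemeStage
import Groth.Agent.H12AlgSp.LimitBaseChange
import Groth.Agent.H12AlgSp.LimitPresSpace
import Groth.Agent.H12AlgSp.LimitPresSystems
import Groth.Agent.H12AlgSp.LimitDescendAffine
import Groth.Agent.H12AlgSp.QSApps

/-!
# Basic facts for the approximation of algebraic spaces
-/

set_option autoImplicit false
set_option linter.style.haveILetI false
set_option backward.isDefEq.respectTransparency false
universe u

open CategoryTheory CategoryTheory.Limits AlgebraicGeometry Opposite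
open AlgSp Groth.Agent.H13AlgSp

namespace Groth.Agent.H12AlgSp.Approx

variable {S : Scheme.{u}}

/-- The base is terminal among sheaves over it. -/
noncomputable def baseTerminal : IsTerminal ((yon S).obj (Over.mk (𝟙 S))) :=
  IsTerminal.isTerminalObj (yon S) _ Over.mkIdTerminal

/-- The structure map of a sheaf over the base. -/
noncomputable def strMap (F : Sp S) : F ⟶ (yon S).obj (Over.mk (𝟙 S)) := baseTerminal.from F

theorem strMap_ext {F : Sp S} (a b : F ⟶ (yon S).obj (Over.mk (𝟙 S))) : a = b := baseTerminal.hom_ext a b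

theorem locP_yon_iff {P : MorphismProperty Scheme.{u}} (hP : EtLocal P) [P.IsStableUnderBaseChange]
    {V W : Over S} (g : V ⟶ W) : LocP P ((yon S).map g) ↔ P g.left :=
  ⟨fun h => h (𝟙 _) (𝟙 _) g (repWith_of_isIso _) (repWith_of_isIso _) (by simp),
    fun h => locP_of_repWith hP ((repWith_yon_map_iff P g).2 h)⟩

theorem locP_lfp_strMap_yon {W : Over S} (h : LocallyOfFinitePresentation W.hom) :
    LocP @LocallyOfFinitePresentation (strMap ((yon S).obj W)) := by
  rw [strMap_ext (strMap _) ((yon S).map (Over.homMk W.hom (Category.comp_id _) : W ⟶ Over.mk (𝟙 S)))]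
  exact (locP_yon_iff etLocal_lfp _).2 h

theorem lfp_hom_of_locP {W : Over S} (h : LocP @LocallyOfFinitePresentation (strMap ((yon S).obj W))) :
    LocallyOfFinitePresentation W.hom := by
  rw [strMap_ext (strMap _) ((yon S).map (Over.homMk W.hom (Category.comp_id _) : W ⟶ Over.mk (𝟙 S)))] at h
  exact (locP_yon_iff etLocal_lfp _).1 h

theorem relLP_strMap {F : Sp S} (hF : IsAlgSpace F) (h : LocP @LocallyOfFinitePresentation (strMap F)) :
    RelLP (strMap F).hom :=
  relLP_of_locP_lfp hF (IsAlgSpace.yon_obj _) h

/-- A quasi-compact scheme over the base mapping to a space of finite presentation factors through a stage of any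
affine system of schemes of which it is the limit. -/
theorem exists_factor_scheme [QuasiSeparatedSpace S] {F : Sp S} (hF : IsAlgSpace F)
    (hlfp : LocP @LocallyOfFinitePresentation (strMap F)) {J : Type u} [SmallCategory J] [IsCofiltered J]
    (K : J ⥤ Over S) (cK : Cone K) (hcK : IsLimit cK) (haff : ∀ (i j : J) (a : i ⟶ j), IsAffineHom (K.map a).left)
    (hqc : ∀ j, CompactSpace (K.obj j).left) (hqs : ∀ j, QuasiSeparatedSpace (K.obj j).left)
    (x : (yon S).obj cK.pt ⟶ F) :
    ∃ (j : J) (z : (yon S).obj (K.obj j) ⟶ F), (yon S).map (cK.π.app j) ≫ z = x := by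
  obtain ⟨j, -, z, -, hz⟩ := exists_lift_stage_of_relLP (relLP_strMap hF hlfp) (D := K ⋙ yon S)
    (fun _ => IsAlgSpace.yon_obj _)
    (fun i j a => isAffineMor_iff.2 ((repWith_yon_map_iff @IsAffineHom (K.map a)).2 (haff i j a)))
    (c := (yon S).mapCone cK) (isLimitOfPreserves (yon S) hcK)
    (fun j => isQuasiCompactSp_yon_iff.2 (hqc j)) (fun j => isQuasiSeparatedSp_yon (hqs j))
    IsCofiltered.nonempty.some x (strMap _) (strMap_ext _ _)
  exact ⟨j, z, hz⟩

/-- An affine system with a scheme as first term is an affine system of schemes, with limit a scheme. -/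
theorem exists_scheme_limit {I : Type u} [SmallCategory I] [IsCofiltered I] {D : I ⥤ Sp S}
    (hDa : ∀ (i j : I) (φ : i ⟶ j), IsAffineMor (D.map φ)) {c : Cone D} (hc : IsLimit c) {n : I} {Z : Over S}
    (eZ : (yon S).obj Z ≅ D.obj n) :
    ∃ (K : Over n ⥤ Over S) (cK : Cone K) (_ : IsLimit cK) (μ : K ⋙ yon S ≅ Over.forget n ⋙ D)
      (e : (yon S).obj cK.pt ≅ c.pt),
      (∀ (j k : Over n) (φ : j ⟶ k), IsAffineHom (K.map φ).left) ∧
      ∀ j, e.hom ≫ c.π.app j.left = (yon S).map (cK.π.app j) ≫ μ.hom.app j := by
  obtain ⟨K, hKa, ⟨μ⟩⟩ := exists_scheme_system hDa eZ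
  have hc' : IsLimit (c.whisker (Over.forget n)) := (Functor.Initial.isLimitWhiskerEquiv (Over.forget n) c).symm hc
  have hπ : IsAffineMor (c.π.app n) := fun _ hW g => exists_pullback_proj hDa hc n hW g
  obtain ⟨T, ⟨e⟩⟩ := exists_iso_yon_of_representable (f := c.π.app n ≫ eZ.inv)
    (MorphismProperty.RespectsIso.postcomp _ eZ.inv _ (isAffineMor_iff.1 hπ)).1
  let cK : Cone K :=
    { pt := T
      π := { app := fun j => (yon S).preimage (e.hom ≫ c.π.app j.left ≫ μ.inv.app j)
             naturality := fun j k φ => (yon S).map_injective (by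
               simp only [Functor.const_obj_map, Category.id_comp, Functor.map_comp, Functor.map_preimage,
                 Category.assoc]
               have h₁ := μ.inv.naturality φ
               simp only [Functor.comp_map, Over.forget_map] at h₁
               rw [← h₁, ← c.w φ.left]
               simp) } }
  have hyK : IsLimit ((yon S).mapCone cK) := by
    refine IsLimit.ofIsoLimit ((IsLimit.postcomposeHomEquiv μ.symm _).symm hc') (Cone.ext e.symm fun j => ?_)
    change c.π.app j.left ≫ μ.inv.app j = e.inv ≫ (yon S).map ((yon S).preimage _)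
    simp
  exact ⟨K, cK, isLimitOfReflects (yon S) hyK, μ, e, hKa, fun j => by simp [cK]⟩

end Groth.Agent.H12AlgSp.Approx
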