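import Groth.Agent.H7Lim.Approx.RelOpen.Main
import Groth.Agent.H7Lim.Approx.OverSystem

/-!
# Approximation relative to an open with cofinal indices

This is `H7Lim.Approx.RelOpen.exists_approximation`, with the additional information that the map of indices is
cofinal.
-/

set_option autoImplicit false
set_option linter.style.haveILetI false
set_option backward.isDefEq.respectTransparency false
set_option backward.defeqAttrib.useBackward true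
universe u

open AlgebraicGeometry CategoryTheory CategoryTheory.Limits Opposite TopologicalSpace
open Groth.Agent.H7Lim.Approx Groth.Agent.H7Lim.Approx.RelOpen

namespace Groth.Agent.H12AlgSp.Approx

section

variable {S Y : Scheme.{u}} [CompactSpace S] [QuasiSeparatedSpace S] [CompactSpace Y]
  [LocallyOfFiniteType (toZ Y)] {I : Type u} [Preorder I] [IsDirected I (fun a b => a ≤ b)] [Nonempty I]

/-- Approximation relative to an open. -/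
theorem exists_cofinal_approximation [QuasiSeparatedSpace Y] (X : Setup S Y I) (V : S.Opens) (hWV : X.f ⁻¹ᵁ X.W = V)
    (e : X.c.pt ≅ (V : Scheme.{u})) (he : X.emb = e.hom ≫ V.ι) :
    ∃ (J : Type u) (_ : Preorder J) (_ : IsDirected J (fun a b => a ≤ b)) (_ : Nonempty J)
      (DS : Jᵒᵖ ⥤ Scheme.{u}) (cS : Cone DS) (_ : IsLimit cS) (eS : cS.pt ≅ S)
      (α : J →o I) (V' : ∀ j : J, (DS.obj (op j)).Opens)
      (φ : ∀ j : J, (V' j : Scheme.{u}) ≅ X.D.obj (op (α j))),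
      (∀ (j j' : Jᵒᵖ) (a : j ⟶ j'), IsAffineHom (DS.map a)) ∧
      (∀ j, CompactSpace (DS.obj j) ∧ LocallyOfFiniteType (toZ (DS.obj j))) ∧
      (∀ (j j' : J) (h : j' ≤ j), (DS.map (homOfLE h).op) ⁻¹ᵁ (V' j') = V' j) ∧
      (∀ j : J, (eS.inv ≫ cS.π.app (op j)) ⁻¹ᵁ (V' j) = V) ∧
      (∀ i : I, ∃ j : J, i ≤ α j) ∧
      (∀ j : J, ∃ ρ : (V : Scheme.{u}) ⟶ (V' j : Scheme.{u}),
        ρ ≫ (V' j).ι = V.ι ≫ eS.inv ≫ cS.π.app (op j) ∧ ρ ≫ (φ j).hom = e.inv ≫ X.c.π.app (op (α j))) ∧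
      (∀ (j j' : J) (h : j' ≤ j), ∃ τ : (V' j : Scheme.{u}) ⟶ (V' j' : Scheme.{u}),
        τ ≫ (V' j').ι = (V' j).ι ≫ DS.map (homOfLE h).op ∧
        (φ j).hom ≫ X.D.map (homOfLE (α.mono h)).op = τ ≫ (φ j').hom) := by
  obtain ⟨hL⟩ := X.nonempty_isLimit_cS
  let α : X.Idx →o I := ⟨fun a => a.i.1, fun a b h => h.1⟩
  let V' : ∀ a : X.Idx, (X.DS.obj (op a)).Opens := fun a => a.proj ⁻¹ᵁ X.W
  let σ : ∀ a : X.Idx, X.E a.i ⟶ a.spec := fun a => coprod.inr ≫ a.toSpec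
  have hσ : ∀ a, ∃ _ : IsOpenImmersion (σ a), (σ a).opensRange = a.proj ⁻¹ᵁ X.W := fun a =>
    isOpenImmersion_inr_toSpec (X.v_q a.i) X.hW a.good a.fgSub.isSpec (X.q_mem a.i) (X.aff_q a.i)
  haveI : ∀ a, IsOpenImmersion (σ a) := fun a => (hσ a).1
  have hrange : ∀ a : X.Idx, Set.range (a.proj ⁻¹ᵁ X.W).ι = Set.range (σ a) := fun a => by
    obtain ⟨_, h⟩ := hσ a
    rw [Scheme.Opens.range_ι, ← h]; rfl
  let φ : ∀ a : X.Idx, (a.proj ⁻¹ᵁ X.W).toScheme ≅ X.E a.i := fun a =>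
    IsOpenImmersion.isoOfRangeEq (a.proj ⁻¹ᵁ X.W).ι (σ a) (hrange a)
  have hφ : ∀ a, (φ a).hom ≫ σ a = (a.proj ⁻¹ᵁ X.W).ι := fun a => IsOpenImmersion.isoOfRangeEq_hom_fac _ _ _
  have hv : ∀ a : X.Idx, X.emb ≫ a.fromS = X.v a.i ≫ σ a := fun a =>
    comp_toSpec_eq (X.v_q a.i) a.good.le a.fgSub.isSpec
  refine ⟨X.Idx, inferInstance, inferInstance, inferInstance, X.DS, X.cS, hL, Iso.refl _, α, V', φ,
    fun j j' a => inferInstanceAs (IsAffineHom (Setup.Idx.map a.unop.le)), fun a => ⟨?_, ?_⟩, fun j j' h => ?_,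
    fun j => ?_, fun i => ?_, fun j => ?_, fun j j' h => ?_⟩
  · exact QuasiCompact.compactSpace_of_compactSpace a.unop.proj
  · show LocallyOfFiniteType (toZ a.unop.spec)
    rw [← toZ_eq (a.unop.proj ≫ toZ Y)]; infer_instance
  · show Setup.Idx.map h ⁻¹ᵁ (j'.proj ⁻¹ᵁ X.W) = j.proj ⁻¹ᵁ X.W
    rw [← Scheme.Hom.comp_preimage, Setup.Idx.map_proj]
  · show (𝟙 S ≫ j.fromS) ⁻¹ᵁ (j.proj ⁻¹ᵁ X.W) = V
    rw [Category.id_comp, ← Scheme.Hom.comp_preimage, Setup.Idx.fromS_proj, hWV]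
  · obtain ⟨a⟩ : Nonempty X.Idx := inferInstance
    obtain ⟨k, hk₁, hk₂⟩ := directed_of (fun a b => a ≤ b) a.i.1 i
    obtain ⟨J, hJ, -⟩ := Setup.Idx.exists_at a (k := ⟨k, a.i.2.trans hk₁⟩) hk₁
    exact ⟨⟨⟨k, a.i.2.trans hk₁⟩, J, hJ⟩, hk₂⟩
  · refine ⟨e.inv ≫ X.v j.i ≫ (φ j).inv, ?_, by simp only [Category.assoc, Iso.inv_hom_id, Category.comp_id]; rfl⟩
    have : (φ j).inv ≫ (V' j).ι = σ j := (Iso.inv_comp_eq _).2 (hφ j).symm
    show (e.inv ≫ X.v j.i ≫ (φ j).inv) ≫ (V' j).ι = V.ι ≫ 𝟙 S ≫ j.fromS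
    simp only [Category.assoc, Category.id_comp]
    rw [this, ← hv, he, Category.assoc, Iso.inv_hom_id_assoc]
  · refine ⟨(φ j).hom ≫ X.m h.1 ≫ (φ j').inv, ?_, by simp only [Category.assoc, Iso.inv_hom_id, Category.comp_id]; rfl⟩
    have h' : (φ j').inv ≫ (V' j').ι = σ j' := (Iso.inv_comp_eq _).2 (hφ j').symm
    show ((φ j).hom ≫ X.m h.1 ≫ (φ j').inv) ≫ (V' j').ι = (V' j).ι ≫ Setup.Idx.map h
    rw [← hφ j]
    simp only [Category.assoc, σ] at h' ⊢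
    rw [h', Setup.Idx.toSpec_map, coprod.inr_map_assoc]

end

/-- Noetherian approximation relative to a quasi-compact open, with cofinal indices. -/
theorem exists_relative_approximation (S : Scheme.{u}) [CompactSpace S] [QuasiSeparatedSpace S]
    (V : S.Opens) (hV : IsCompact (V : Set S)) (I : Type u) [Preorder I] [IsDirected I (fun a b => a ≤ b)] [Nonempty I]
    (DV : Iᵒᵖ ⥤ Scheme.{u}) (haff : ∀ (i i' : Iᵒᵖ) (a : i ⟶ i'), IsAffineHom (DV.map a))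
    (hft : ∀ i, CompactSpace (DV.obj i) ∧ LocallyOfFiniteType (Limits.IsTerminal.from specULiftZIsTerminal (DV.obj i)))
    (cV : Limits.Cone DV) (hcV : Limits.IsLimit cV) (eV : cV.pt ≅ (V : Scheme.{u})) :
    ∃ (J : Type u) (_ : Preorder J) (_ : IsDirected J (fun a b => a ≤ b)) (_ : Nonempty J)
      (DS : Jᵒᵖ ⥤ Scheme.{u}) (cS : Limits.Cone DS) (_ : Limits.IsLimit cS) (eS : cS.pt ≅ S)
      (α : J →o I) (V' : ∀ j : J, (DS.obj (op j)).Opens)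
      (φ : ∀ j : J, (V' j : Scheme.{u}) ≅ DV.obj (op (α j))),
      (∀ (j j' : Jᵒᵖ) (a : j ⟶ j'), IsAffineHom (DS.map a)) ∧
      (∀ j, CompactSpace (DS.obj j) ∧ LocallyOfFiniteType (Limits.IsTerminal.from specULiftZIsTerminal (DS.obj j))) ∧
      (∀ (j j' : J) (h : j' ≤ j), (DS.map (homOfLE h).op) ⁻¹ᵁ (V' j') = V' j) ∧
      (∀ j : J, (eS.inv ≫ cS.π.app (op j)) ⁻¹ᵁ (V' j) = V) ∧
      (∀ i : I, ∃ j : J, i ≤ α j) ∧
      (∀ j : J, ∃ ρ : (V : Scheme.{u}) ⟶ (V' j : Scheme.{u}),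
        ρ ≫ (V' j).ι = V.ι ≫ eS.inv ≫ cS.π.app (op j) ∧ ρ ≫ (φ j).hom = eV.inv ≫ cV.π.app (op (α j))) ∧
      (∀ (j j' : J) (h : j' ≤ j), ∃ τ : (V' j : Scheme.{u}) ⟶ (V' j' : Scheme.{u}),
        τ ≫ (V' j').ι = (V' j).ι ≫ DS.map (homOfLE h).op ∧
        (φ j).hom ≫ DV.map (homOfLE (α.mono h)).op = τ ≫ (φ j').hom) := by
  haveI : ∀ i, CompactSpace (DV.obj i) := fun i => (hft i).1
  obtain ⟨Y, hY, hYt, X, hD, hc, hWV, hemb⟩ := exists_setup S V hV I DV haff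
    (fun i => (hft i).1) (fun i => (hft i).2) cV hcV eV
  haveI := quasiSeparatedSpace_of_toZ Y
  subst hD
  obtain rfl := eq_of_heq hc
  exact exists_cofinal_approximation X V hWV eV (eq_of_heq hemb)

end Groth.Agent.H12AlgSp.Approx
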