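import Groth.Agent.H12AlgSp.Approx.GoodDiagram
import Groth.Agent.H12AlgSp.Approx.Absolute
import Groth.Agent.H12AlgSp.SchImageLimit.Main
import Groth.Agent.H12AlgSp.LimitClosedIso
import Groth.Agent.H13AlgSp.FibreSpaces
import Groth.Agent.H13AlgSp.EtaleLocally

/-!
# Morphisms of finite presentation descend to a stage of an absolute Noetherian approximation
-/

set_option autoImplicit false
set_option linter.style.haveILetI false
set_option maxHeartbeats 800000
set_option backward.isDefEq.respectTransparency false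
universe u

open CategoryTheory CategoryTheory.Limits AlgebraicGeometry Opposite
open AlgSp Groth.Agent.H13AlgSp

attribute [local instance] CategoryTheory.isConnected_of_hasTerminal

namespace Groth.Agent.H12AlgSp.Approx

variable {S : Scheme.{u}}

/-- The stages of an approximation over a terminal base are locally Noetherian. -/
theorem Sys.isLocNoethSp (hS : IsTerminal S) {X : Sp S} (σ : Sys X) (i : σ.Iᵒᵖ) : IsLocNoethSp (σ.D.obj i) := by
  haveI := (isNoetherian_of_isTerminal hS).2
  haveI : IsLocallyNoetherian (Over.mk (𝟙 S)).left := inferInstanceAs (IsLocallyNoetherian S)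
  exact H13AlgSp.isLocNoethSp_of_lft (σ.alg i)
    (locP_mono (fun _ _ k (_ : LocallyOfFinitePresentation k) => inferInstanceAs (LocallyOfFiniteType k)) (σ.lfp i))

/-- Morphisms locally of finite type to locally Noetherian spaces are locally of finite presentation. -/
theorem locP_lfp_of_lft {F G : Sp S} {f : F ⟶ G} (hG : IsAlgSpace G) (hN : IsLocNoethSp G)
    (hf : LocP @LocallyOfFiniteType f) : LocP @LocallyOfFinitePresentation f := by
  intro U V a b h ha hb e
  haveI : IsLocallyNoetherian V.left := etaleLocally_chart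
    (fun g hg hB => @isLocallyNoetherian_of_etale _ _ g hg hB)
    (fun g hg hs hA => @isLocallyNoetherian_of_flat_lfp_surjective _ _ g
      inferInstance inferInstance hs hA) hG hN hb
  haveI := hf a b h ha hb e
  exact lfp_of_lft_of_isLocallyNoetherian h.left

/-- A morphism of finite presentation to the limit of an approximation descends to a stage. -/
theorem exists_descend_fp [QuasiSeparatedSpace S] (hS : IsTerminal S) {T Y : Sp S} (hT : IsAlgSpace T)
    (hY : IsAlgSpace Y) (τ : Sys Y) (a : T ⟶ Y) (ha : IsFinitePresentationMor a) :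
    ∃ (i : τ.Iᵒᵖ) (Z : Sp S) (f₀ : Z ⟶ τ.D.obj i) (pX : T ⟶ Z), IsAlgSpace Z ∧
      IsFinitePresentationMor f₀ ∧ IsQuasiCompactSp Z ∧ IsQuasiSeparatedSp Z ∧
      IsPullback pX a f₀ (τ.π.app i) := by
  obtain ⟨i₀⟩ : Nonempty τ.Iᵒᵖ := inferInstance
  have hπ : ∀ i, IsAffineMor (τ.π.app i) := (isAlgSpace_limit_and_affine τ.affine τ.isLimit τ.alg).2
  obtain ⟨hYc, hYs⟩ := qc_qs_of_isAffineMor hY (τ.alg i₀) (hπ i₀) (τ.qc i₀) (τ.qs i₀)
  have hal : LocP @LocallyOfFiniteType a :=
    locP_mono (fun _ _ k (_ : LocallyOfFinitePresentation k) => inferInstanceAs (LocallyOfFiniteType k)) ha.1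
  obtain ⟨W, w, b, hW, hw, hb, hci⟩ := exists_good_diagram hT hY (τ.alg i₀) (τ.π.app i₀) (hπ i₀) hYc hYs
    (τ.qc i₀) (τ.qs i₀) a ha.2.2 ha.2.1 hal
  let DP : Over i₀ ⥤ Sp S :=
    { obj := fun i' => pullback (τ.D.map i'.hom) w
      map := fun {i' j'} φ => pullback.map _ _ _ _ (τ.D.map φ.left) (𝟙 W) (𝟙 _) (by
          rw [Category.comp_id, ← Functor.map_comp, Over.w]) (by simp)
      map_id := fun i' => by apply pullback.hom_ext <;> simp
      map_comp := fun φ ψ => by apply pullback.hom_ext <;> simp }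
  let π₁ : DP ⟶ Over.forget i₀ ⋙ τ.D :=
    { app := fun i' => pullback.fst _ _
      naturality := fun i' j' φ => pullback.lift_fst _ _ _ }
  let π₂ : DP ⟶ (Functor.const (Over i₀)).obj W :=
    { app := fun i' => pullback.snd _ _
      naturality := fun i' j' φ => by simp [DP] }
  have hDP : ∀ i', IsAlgSpace (DP.obj i') := fun i' =>
    isAlgSpace_pullback (τ.alg i₀).diag (τ.alg _) hW _ _
  have hπw : ∀ i' : Over i₀, τ.π.app i'.left ≫ τ.D.map i'.hom = τ.π.app i₀ := fun i' =>
    (τ.π.naturality i'.hom).symm.trans (Category.id_comp _)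
  let kk : ∀ i' : Over i₀, T ⟶ DP.obj i' := fun i' => pullback.lift (a ≫ τ.π.app i'.left) b (by
    rw [Category.assoc, hπw, hb])
  have hkk : ∀ {i' j' : Over i₀} (φ : i' ⟶ j'), kk i' ≫ DP.map φ = kk j' := fun {i' j'} φ => by
    refine pullback.hom_ext ?_ ?_
    · simp only [kk, DP, Category.assoc, pullback.lift_fst, pullback.lift_fst_assoc]
      exact congrArg (a ≫ ·) ((τ.π.naturality φ.left).symm.trans (Category.id_comp _))
    · simp [kk, DP]
  choose Z z hZ hz using fun i' => exists_isSchImage hT (hDP i') (kk i')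
  choose ξ₀ hξ₀ using fun i' => (hz i').2.1
  have hmono : ∀ i', Mono (z i') := fun i' =>
    mono_of_repWith (fun _ _ l (_ : IsClosedImmersion l) => inferInstanceAs (Mono l)) (hz i').1
  have hex : ∀ {i' j' : Over i₀} (φ : i' ⟶ j'), ∃ m : Z i' ⟶ Z j', m ≫ z j' = z i' ≫ DP.map φ := by
    intro i' j' φ
    have hcl : RepWith @IsClosedImmersion (pullback.snd (z j') (DP.map φ)) :=
      repWith_of_isPullback (IsPullback.of_hasPullback _ _) (hz j').1
    obtain ⟨k, hk⟩ := (hz i').2.2 (pullback.snd (z j') (DP.map φ))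
      (isAlgSpace_pullback (hDP j').diag (hZ j') (hDP i') _ _) hcl
      ⟨pullback.lift (ξ₀ j') (kk i') (by rw [hξ₀, hkk]), pullback.lift_snd _ _ _⟩
    exact ⟨k ≫ pullback.fst _ _, by rw [Category.assoc, pullback.condition, ← Category.assoc, hk]⟩
  let m : ∀ {i' j' : Over i₀} (φ : i' ⟶ j'), Z i' ⟶ Z j' := fun φ => (hex φ).choose
  have hm : ∀ {i' j' : Over i₀} (φ : i' ⟶ j'), m φ ≫ z j' = z i' ≫ DP.map φ := fun φ => (hex φ).choose_spec
  let DX : Over i₀ ⥤ Sp S :=
    { obj := Z
      map := fun {i' j'} φ => m φ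
      map_id := fun i' => (hmono i').right_cancellation _ _ (by
        rw [hm, CategoryTheory.Functor.map_id, Category.comp_id, Category.id_comp])
      map_comp := fun {i' j' k'} φ ψ => (hmono k').right_cancellation _ _ (by
        rw [hm, Functor.map_comp, Category.assoc, hm, ← Category.assoc, ← Category.assoc, hm]) }
  let ε : DX ⟶ DP := { app := z, naturality := fun i' j' φ => hm φ }
  let ξ : (Functor.const (Over i₀)).obj T ⟶ DX :=
    { app := ξ₀
      naturality := fun i' j' φ => (hmono j').right_cancellation _ _ (by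
        change (𝟙 T ≫ ξ₀ j') ≫ z j' = (ξ₀ i' ≫ m φ) ≫ z j'
        rw [Category.id_comp, hξ₀, Category.assoc, hm, ← Category.assoc, hξ₀, hkk]) }
  obtain ⟨hlim⟩ := SchImageLimit.main (a := a) τ.alg τ.affine τ.qc τ.isLimit hW hw.2.1 hb hci
    (π₁ := π₁) (π₂ := π₂) (fun i' => IsPullback.of_hasPullback _ _) DX hZ ε ξ
    (fun i' => ⟨by rw [← Category.assoc]; change (ξ₀ i' ≫ z i') ≫ _ = _; rw [hξ₀]; exact pullback.lift_fst _ _ _,
      by rw [← Category.assoc]; change (ξ₀ i' ≫ z i') ≫ _ = _; rw [hξ₀]; exact pullback.lift_snd _ _ _⟩)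
    (fun i' => by
      change IsSchImage (ξ₀ i' ≫ z i') (z i')
      rw [hξ₀]
      exact hz i')
  let P := pullback (τ.π.app i₀) w
  have hP : IsAlgSpace P := isAlgSpace_pullback (τ.alg i₀).diag hY hW _ _
  let k : T ⟶ P := pullback.lift a b hb.symm
  let p : ∀ i' : Over i₀, P ⟶ DP.obj i' := fun i' =>
    pullback.lift (pullback.fst _ _ ≫ τ.π.app i'.left) (pullback.snd _ _) (by
      rw [Category.assoc, hπw]
      exact pullback.condition)
  have hp : ∀ {i' j' : Over i₀} (φ : i' ⟶ j'), p i' ≫ DP.map φ = p j' := fun {i' j'} φ => by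
    refine pullback.hom_ext ?_ ?_
    · simp only [p, DP, Category.assoc, pullback.lift_fst, pullback.lift_fst_assoc]
      exact congrArg (pullback.fst (τ.π.app i₀) w ≫ ·)
        ((τ.π.naturality φ.left).symm.trans (Category.id_comp _))
    · simp [p, DP]
  have hkp : ∀ i', k ≫ p i' = kk i' := fun i' => by
    refine pullback.hom_ext ?_ ?_ <;> simp [k, p, kk]
  let DQ : Over i₀ ⥤ Sp S :=
    { obj := fun i' => pullback (z i') (p i')
      map := fun {i' j'} φ => pullback.map _ _ _ _ (m φ) (𝟙 P) (DP.map φ) (hm φ).symm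
        (by rw [Category.id_comp, hp])
      map_id := fun i' => by
        apply pullback.hom_ext
        · simp only [pullback.lift_fst, Category.id_comp]
          rw [show m (𝟙 i') = 𝟙 _ from DX.map_id i', Category.comp_id]
        · simp
      map_comp := fun {i' j' k'} φ ψ => by
        apply pullback.hom_ext
        · simp only [pullback.lift_fst, pullback.lift_fst_assoc, Category.assoc]
          rw [show m (φ ≫ ψ) = m φ ≫ m ψ from DX.map_comp φ ψ]
        · simp }
  let q : (Functor.const (Over i₀)).obj T ⟶ DQ :=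
    { app := fun i' => pullback.lift (ξ₀ i') k (by rw [hξ₀, hkp])
      naturality := fun i' j' φ => by
        refine (Category.id_comp _).trans (pullback.hom_ext ?_ ?_)
        · simp only [DQ, Category.assoc, pullback.lift_fst, pullback.lift_fst_assoc]
          exact (Category.id_comp _).symm.trans (ξ.naturality φ)
        · simp [DQ] }
  let o : Over i₀ := Over.mk (𝟙 i₀)
  have hQ : IsLimit (Cone.mk T q) := by
    have hsnd : ∀ (s : Cone DQ) (i' : Over i₀),
        s.π.app i' ≫ pullback.snd (z i') (p i') = s.π.app o ≫ pullback.snd (z o) (p o) := fun s i' => by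
      rw [← s.w (Over.homMk i'.hom (Category.comp_id _) : i' ⟶ o)]
      simp [DQ]
    let mk : Cone DQ → Cone DX := fun s =>
      { pt := s.pt
        π := { app := fun i' => s.π.app i' ≫ pullback.fst (z i') (p i')
               naturality := fun i' j' φ => by
                 refine (Category.id_comp _).trans ?_
                 rw [← s.w φ]
                 simp [DQ, DX] } }
    have hfac : ∀ (s : Cone DQ) (i' : Over i₀),
        hlim.lift (mk s) ≫ ξ₀ i' = s.π.app i' ≫ pullback.fst (z i') (p i') := fun s i' => hlim.fac (mk s) i'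
    have hk' : ∀ s : Cone DQ, hlim.lift (mk s) ≫ k = s.π.app o ≫ pullback.snd (z o) (p o) := fun s => by
      have h1 : ∀ i' : Over i₀, hlim.lift (mk s) ≫ kk i' =
          (s.π.app o ≫ pullback.snd (z o) (p o)) ≫ p i' := fun i' => by
        rw [← hξ₀, ← Category.assoc, hfac, Category.assoc, pullback.condition, ← Category.assoc, hsnd]
      refine pullback.hom_ext (τ.isLimit.hom_ext fun j => ?_) ?_
      · let l := IsCofiltered.min j i₀
        have h2 := congrArg (· ≫ pullback.fst _ _) (h1 (Over.mk (IsCofiltered.minToRight j i₀)))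
        simp only [kk, p, Category.assoc, pullback.lift_fst] at h2
        have e : τ.π.app l ≫ τ.D.map (IsCofiltered.minToLeft j i₀) = τ.π.app j :=
          (τ.π.naturality (IsCofiltered.minToLeft j i₀)).symm.trans (Category.id_comp _)
        have h3 := congrArg (· ≫ τ.D.map (IsCofiltered.minToLeft j i₀)) h2
        have e' : ∀ {A : Sp S} (g : A ⟶ Y), g ≫ τ.π.app l ≫ τ.D.map (IsCofiltered.minToLeft j i₀) = g ≫ τ.π.app j :=
          fun g => congrArg (g ≫ ·) e
        simp only [Category.assoc, Over.mk_left] at h3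
        erw [e', e'] at h3
        simpa [k, p] using h3
      · have h2 := congrArg (· ≫ pullback.snd _ _) (h1 o)
        simp only [kk, p, Category.assoc, pullback.lift_snd] at h2
        simpa [k] using h2
    exact
      { lift := fun s => hlim.lift (mk s)
        fac := fun s i' => by
          refine pullback.hom_ext ?_ ?_
          · change (hlim.lift (mk s) ≫ pullback.lift (ξ₀ i') k _) ≫ _ = _
            rw [Category.assoc, pullback.lift_fst, hfac]
          · change (hlim.lift (mk s) ≫ pullback.lift (ξ₀ i') k _) ≫ _ = _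
            rw [Category.assoc, pullback.lift_snd, hk']
            exact (hsnd s i').symm
        uniq := fun s t ht => hlim.uniq (mk s) t fun i' => by
          change t ≫ ξ₀ i' = s.π.app i' ≫ pullback.fst (z i') (p i')
          rw [← ht i']
          change _ = (t ≫ pullback.lift (ξ₀ i') k _) ≫ _
          rw [Category.assoc, pullback.lift_fst] }
  have hsq : ∀ i', RepWith @IsClosedImmersion (pullback.snd (z i') (p i')) := fun i' =>
    repWith_of_isPullback (IsPullback.of_hasPullback _ _) (hz i').1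
  have hQm : ∀ (i' j' : Over i₀) (φ : i' ⟶ j'), RepWith @IsClosedImmersion (DQ.map φ) := fun i' j' φ => by
    refine repWith_of_comp_separated (P := @IsClosedImmersion) le_rfl (g := pullback.snd (z j') (p j')) ?_ ?_
    · exact isSeparatedMor_of_repWith (repWith_le
        (fun _ _ l (_ : IsClosedImmersion l) => inferInstanceAs (IsSeparated l)) (hsq j'))
    · rw [show DQ.map φ ≫ pullback.snd (z j') (p j') = pullback.snd (z i') (p i') by simp [DQ]]
      exact hsq i'
  have hQa : ∀ i', IsAlgSpace (DQ.obj i') := fun i' =>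
    isAlgSpace_pullback (hDP i').diag (hZ i') hP _ _
  have hPf : IsFinitePresentationMor w := hw
  have hPc : IsQuasiCompactSp P :=
    isQuasiCompactSp_of_mor (H12AlgSp.isQuasiCompactMor_of_isPullback (IsPullback.of_hasPullback _ _).flip hw.2.1) hY hYc
  have hPs : IsQuasiSeparatedSp P :=
    isQuasiSeparatedSp_of_mor (NormSp.isQuasiSeparatedMor_of_isPullback (IsPullback.of_hasPullback _ _).flip hw.2.2) hYs
  have hlft : LocP @LocallyOfFiniteType (pullback.fst (τ.π.app i₀) w) :=
    locP_of_isPullback etLocal_lft (IsPullback.of_hasPullback (τ.π.app i₀) w).flip hW (τ.alg i₀) hY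
      (locP_mono (fun _ _ l (_ : LocallyOfFinitePresentation l) => inferInstanceAs (LocallyOfFiniteType l)) hw.1)
  have hclA : ∀ {F G : Sp S} {g : F ⟶ G}, RepWith @IsClosedImmersion g → IsAffineMor g := fun h =>
    isAffineMor_iff.2 (repWith_le (fun _ _ l (_ : IsClosedImmersion l) => inferInstanceAs (IsAffineHom l)) h)
  obtain ⟨o', ho'⟩ := eventually_isIso_π hQa hQm hQ (i₁ := o)
    (qc_qs_of_isAffineMor (hQa o) hP (hclA (hsq o)) hPc hPs).1 hY
    (pullback.snd (z o) (p o) ≫ pullback.fst (τ.π.app i₀) w)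
    (locP_comp etLocal_lft (hQa o) hP hY (locP_of_repWith etLocal_lft
      (repWith_le (fun _ _ l (_ : IsClosedImmersion l) => inferInstanceAs (LocallyOfFiniteType l)) (hsq o))) hlft)
    (by
      change LocP _ (pullback.lift (ξ₀ o) k _ ≫ pullback.snd (z o) (p o) ≫ pullback.fst (τ.π.app i₀) w)
      rw [pullback.lift_snd_assoc, show k ≫ pullback.fst (τ.π.app i₀) w = a from pullback.lift_fst _ _ _]
      exact ha.1)
  haveI := ho' o' (𝟙 _)
  have sq₁ : IsPullback (ξ₀ o') k (z o') (p o') :=
    IsPullback.of_iso (IsPullback.of_hasPullback (z o') (p o')) (asIso ((Cone.mk T q).π.app o')).symm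
      (Iso.refl _) (Iso.refl _) (Iso.refl _)
      (by
        simp only [Iso.symm_hom, asIso_inv, Iso.refl_hom, Category.comp_id, IsIso.eq_inv_comp]
        exact pullback.lift_fst _ _ _)
      (by
        simp only [Iso.symm_hom, asIso_inv, Iso.refl_hom, Category.comp_id, IsIso.eq_inv_comp]
        exact pullback.lift_snd _ _ _)
      (by simp) (by simp)
  have sq₂ : IsPullback (p o') (pullback.fst (τ.π.app i₀) w) (π₁.app o') (τ.π.app o'.left) := by
    refine IsPullback.of_right (h₁₂ := pullback.snd (τ.D.map o'.hom) w) (v₁₃ := w) (h₂₂ := τ.D.map o'.hom) ?_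
      (pullback.lift_fst _ _ _) (IsPullback.of_hasPullback _ _).flip
    rw [hπw, show p o' ≫ pullback.snd (τ.D.map o'.hom) w = pullback.snd (τ.π.app i₀) w from pullback.lift_snd _ _ _]
    exact (IsPullback.of_hasPullback _ _).flip
  have hsqP := IsPullback.of_hasPullback (τ.D.map o'.hom) w
  have hDc : IsQuasiCompactSp (DP.obj o') :=
    isQuasiCompactSp_of_mor (H12AlgSp.isQuasiCompactMor_of_isPullback hsqP.flip hw.2.1) (τ.alg _) (τ.qc _)
  have hDs : IsQuasiSeparatedSp (DP.obj o') :=
    isQuasiSeparatedSp_of_mor (NormSp.isQuasiSeparatedMor_of_isPullback hsqP.flip hw.2.2) (τ.qs _)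
  obtain ⟨hZc, hZs⟩ := qc_qs_of_isAffineMor (hZ o') (hDP o') (hclA (hz o').1) hDc hDs
  have hfl : LocP @LocallyOfFiniteType (z o' ≫ π₁.app o') :=
    locP_comp etLocal_lft (hZ o') (hDP o') (τ.alg _) (locP_of_repWith etLocal_lft
      (repWith_le (fun _ _ l (_ : IsClosedImmersion l) => inferInstanceAs (LocallyOfFiniteType l)) (hz o').1))
      (locP_of_isPullback etLocal_lft hsqP.flip hW (τ.alg i₀) (τ.alg _)
        (locP_mono (fun _ _ l (_ : LocallyOfFinitePresentation l) => inferInstanceAs (LocallyOfFiniteType l)) hw.1))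
  refine ⟨o'.left, Z o', z o' ≫ π₁.app o', ξ₀ o', hZ o',
    ⟨locP_lfp_of_lft (τ.alg _) (τ.isLocNoethSp hS _) hfl,
      isQuasiCompactMor_of_qc_qs (hZ o') (τ.alg _) _ hZc (τ.qs _),
      isQuasiSeparatedMor_of_isQuasiSeparatedSp _ hZs⟩, hZc, hZs, ?_⟩
  have h := sq₁.paste_vert sq₂
  rwa [show k ≫ pullback.fst (τ.π.app i₀) w = a from pullback.lift_fst _ _ _] at h

end Groth.Agent.H12AlgSp.Approx
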