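import Groth.Agent.H13AlgSp.TopInv
import Groth.Agent.H13AlgSp.DistSq
import Groth.Agent.H13AlgSp.EtaleSmoothMk
import Groth.Agent.H12AlgSp.UnivInj

/-!
# Morphisms of elementary distinguished squares
-/

set_option autoImplicit false
set_option linter.style.haveILetI false
set_option maxHeartbeats 800000
set_option backward.isDefEq.respectTransparency false
universe u

open CategoryTheory CategoryTheory.Limits AlgebraicGeometry Opposite
open AlgSp Groth.Agent.H13AlgSp

namespace Groth.Agent.H12AlgSp.Approx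

variable {S : Scheme.{u}}

/-- A field valued point lies over the open part or outside of it. -/
theorem field_range {F G : Sp S} (j : G ⟶ F) {K : Type u} [Field K] {str : Spec (CommRingCat.of K) ⟶ S}
    (x : (yon S).obj (Over.mk str) ⟶ F) :
    Set.range (Points.map x) ⊆ Set.range (Points.map j) ∨ Set.range (Points.map x) ⊆ (Set.range (Points.map j))ᶜ := by
  haveI : Subsingleton (Over.mk str).left := inferInstanceAs (Subsingleton (PrimeSpectrum K))
  rw [range_map_yon]
  by_cases h : Points.ofPt x (IsLocalRing.closedPoint K) ∈ Set.range (Points.map j)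
  · left
    rintro _ ⟨t, rfl⟩
    rwa [Subsingleton.elim t (IsLocalRing.closedPoint K : (Over.mk str).left)]
  · right
    rintro _ ⟨t, rfl⟩
    rwa [Subsingleton.elim t (IsLocalRing.closedPoint K : (Over.mk str).left)]

variable {U V W P : Sp S} {j : U ⟶ W} {f : V ⟶ W}

/-- A field valued point outside of the open part lifts to the etale part. -/
theorem exists_lift_of_not_mem_range (hsq : IsElemDistSq j f) {A : Over S} [IsReduced A.left]
    (x : (yon S).obj A ⟶ W) (h : Set.range (Points.map x) ⊆ (Set.range (Points.map j))ᶜ) :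
    ∃ v : (yon S).obj A ⟶ V, v ≫ f = x := by
  obtain ⟨-, -, T, Q, i, p₁, p₂, ⟨hi, hT, -⟩, sq, hiso⟩ := hsq
  obtain ⟨z, hz⟩ := exists_factor_closed hi isReducedSp_yon x (h.trans hT.ge)
  exact ⟨z ≫ inv p₁ ≫ p₂, by rw [Category.assoc, Category.assoc, ← sq.w, IsIso.inv_hom_id_assoc, hz]⟩

/-- A morphism of elementary distinguished squares which is cartesian on the open parts and on the overlaps
is cartesian on the etale parts. -/
theorem isPullback_of_elemDistSq_map (hsq : IsElemDistSq j f) {U' V' W' P' : Sp S} {j' : U' ⟶ W'} {f' : V' ⟶ W'}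
    (hsq' : IsElemDistSq j' f') (hW : IsAlgSpace W) (hV : IsAlgSpace V) (hW' : IsAlgSpace W') (hV' : IsAlgSpace V')
    {p : P ⟶ U} {q : P ⟶ V} (hP : IsPullback p q j f) {p' : P' ⟶ U'} {q' : P' ⟶ V'} (hP' : IsPullback p' q' j' f')
    {h : W ⟶ W'} {hU : U ⟶ U'} {hv : V ⟶ V'} {hp : P ⟶ P'} (eU : IsPullback j hU h j')
    (eP : IsPullback hp p p' hU) (ev : hv ≫ f' = f ≫ h) (eq : hp ≫ q' = q ≫ hv) :
    IsPullback hv f f' h := by
  have sqQ := IsPullback.of_hasPullback f' h
  let κ : V ⟶ pullback f' h := pullback.lift hv f ev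
  have hκ₁ : κ ≫ pullback.fst f' h = hv := pullback.lift_fst _ _ _
  have hκ₂ : κ ≫ pullback.snd f' h = f := pullback.lift_snd _ _ _
  have hQ : IsAlgSpace (pullback f' h) := isAlgSpace_pullback hW'.diag hV' hW f' h
  have hκe : IsEtaleMor κ := by
    refine isEtaleMor_of_locP hV hQ ?_
    refine locP_of_postcomp (g := pullback.snd f' h) etLocal_etale
      (fun _ _ _ a b (hab : Etale (a ≫ b)) (_ : Etale b) => Etale.of_comp a b) hW ?_
      (locP_etale_of_isEtaleMor (TopInv.isEtaleMor_snd hV' hW' hW hQ sqQ hsq'.2.1))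
    rw [hκ₂]
    exact locP_etale_of_isEtaleMor hsq.2.1
  have hj' := mono_of_openImmersion hsq'.1
  have hj := mono_of_openImmersion hsq.1
  have heq : ∀ {A : Over S} (a : (yon S).obj A ⟶ W), Set.range (Points.map a) ⊆ (Set.range (Points.map j))ᶜ →
      Set.range (Points.map (a ≫ h)) ⊆ (Set.range (Points.map j'))ᶜ := by
    rintro A a ha _ ⟨z, rfl⟩ ⟨w, hw⟩
    rw [Points.map_comp] at hw
    obtain ⟨r, -, hr⟩ := exists_point_of_isPullback eU.flip w (Points.map a z) hw
    exact ha ⟨z, rfl⟩ ⟨r, hr⟩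
  have hbij : ∀ (K : Type u) [Field K] (str : Spec (CommRingCat.of K) ⟶ S),
      Function.Bijective (fun a : (yon S).obj (Over.mk str) ⟶ V => a ≫ κ) := by
    intro K _ str
    haveI : IsReduced (Over.mk str).left := inferInstanceAs (IsReduced (Spec (CommRingCat.of K)))
    refine ⟨fun a b e => ?_, fun y => ?_⟩
    · have e₁ : a ≫ hv = b ≫ hv := by simpa [hκ₁] using e =≫ pullback.fst f' h
      have e₂ : a ≫ f = b ≫ f := by simpa [hκ₂] using e =≫ pullback.snd f' h
      rcases field_range j (a ≫ f) with hr | hr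
      · obtain ⟨u, hu⟩ := exists_factor_open hsq.1 _ hr
        obtain ⟨la, ha₁, ha₂⟩ := hP.exists_lift u a hu
        obtain ⟨lb, hb₁, hb₂⟩ := hP.exists_lift u b (hu.trans e₂)
        have hab : la = lb := by
          refine eP.hom_ext (hP'.hom_ext ?_ ?_) (ha₁.trans hb₁.symm)
          · rw [Category.assoc, Category.assoc, eP.w, reassoc_of% ha₁, reassoc_of% hb₁]
          · rw [Category.assoc, Category.assoc, eq, reassoc_of% ha₂, reassoc_of% hb₂, e₁]
        rw [← ha₂, ← hb₂, hab]
      · exact eq_of_not_mem_range hsq a b e₂ hr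
    · obtain ⟨y₁, hy₁⟩ : ∃ y₁, y ≫ pullback.fst f' h = y₁ := ⟨_, rfl⟩
      obtain ⟨x, hx⟩ : ∃ x, y ≫ pullback.snd f' h = x := ⟨_, rfl⟩
      have hxy : y₁ ≫ f' = x ≫ h := by rw [← hy₁, ← hx, Category.assoc, Category.assoc, pullback.condition]
      suffices ∃ v, v ≫ f = x ∧ v ≫ hv = y₁ by
        obtain ⟨v, hv₁, hv₂⟩ := this
        exact ⟨v, pullback.hom_ext (by rw [Category.assoc, hκ₁, hv₂, hy₁])
          (by rw [Category.assoc, hκ₂, hv₁, hx])⟩
      rcases field_range j x with hr | hr
      · obtain ⟨u, hu⟩ := exists_factor_open hsq.1 _ hr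
        obtain ⟨l', hl'₁, hl'₂⟩ := hP'.exists_lift (u ≫ hU) y₁ (by rw [hxy, ← hu, Category.assoc, Category.assoc, eU.w])
        obtain ⟨l, hl₁, hl₂⟩ := eP.exists_lift l' u hl'₁
        refine ⟨l ≫ q, ?_, ?_⟩
        · rw [Category.assoc, ← hP.w, reassoc_of% hl₂, hu]
        · rw [Category.assoc, ← eq, reassoc_of% hl₁, hl'₂]
      · obtain ⟨v, hv₁⟩ := exists_lift_of_not_mem_range hsq x hr
        refine ⟨v, hv₁, eq_of_not_mem_range hsq' _ _ (by rw [Category.assoc, ev, reassoc_of% hv₁, hxy]) ?_⟩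
        rw [Category.assoc, ev, reassoc_of% hv₁]
        exact heq x hr
  have hop : RepWith @IsOpenImmersion κ := repWith_isOpenImmersion_of_univInjective hV hQ hκe
    (isUnivInjectiveMor_of_injective_on_fields fun K _ str => (hbij K str).1)
  have hs : Function.Surjective (Points.map κ) := by
    intro z
    induction z using Points.ind with | h r =>
    obtain ⟨v, hv'⟩ := (hbij r.K r.pt.hom).2 r.toHom
    refine ⟨Points.ofPt v (IsLocalRing.closedPoint r.K), ?_⟩
    rw [Points.map_ofPt]
    exact (congrArg (fun t => Points.ofPt t _) hv').trans (Points.ofPt_toHom r _)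
  haveI := TopInv.isIso_of_openImmersion_surjective hop hs
  exact sqQ.of_iso (asIso κ).symm (Iso.refl _) (Iso.refl _) (Iso.refl _)
    (by simp [← hκ₁]) (by simp [← hκ₂]) (by simp) (by simp)

end Groth.Agent.H12AlgSp.Approx
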