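import Groth.Agent.H12AlgSp.Approx.RelBase
import Groth.Agent.H12AlgSp.LimitAffineStage
import Groth.Agent.H12AlgSp.EventuallyClosed
import Groth.Agent.H12AlgSp.LimitSeparatedMor
import Groth.Agent.H12AlgSp.QuasiAffineMor
import Groth.Agent.H13AlgSp.AffineLocal

/-!
# Properties inherited by late stages of a relative approximation
-/

set_option autoImplicit false
set_option linter.style.haveILetI false
set_option maxHeartbeats 800000
set_option backward.isDefEq.respectTransparency false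
universe u

open CategoryTheory CategoryTheory.Limits AlgebraicGeometry Opposite
open AlgSp Groth.Agent.H13AlgSp

namespace Groth.Agent.H12AlgSp.Approx

variable {S : Scheme.{u}} {X Y : Sp S} {f : X ⟶ Y}

theorem isQuasiCompactSp_of_mor {F G : Sp S} {g : F ⟶ G} (h : IsQuasiCompactMor g) (hG : IsAlgSpace G)
    (hGc : IsQuasiCompactSp G) : IsQuasiCompactSp F :=
  h hG hGc (𝟙 G) (𝟙 F) g (IsPullback.of_horiz_isIso ⟨by simp⟩)

theorem isQuasiSeparatedMor_of_isAffineMor {F G : Sp S} {g : F ⟶ G} (h : IsAffineMor g) : IsQuasiSeparatedMor g :=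
  isQuasiSeparatedMor_of_isSeparatedMor (isSeparatedMor_of_repWith
    (repWith_le (fun _ _ k (_ : IsAffineHom k) => inferInstanceAs (IsSeparated k)) (isAffineMor_iff.1 h)))

theorem qc_qs_of_isAffineMor {F G : Sp S} {g : F ⟶ G} (hF : IsAlgSpace F) (hG : IsAlgSpace G) (h : IsAffineMor g)
    (hGc : IsQuasiCompactSp G) (hGs : IsQuasiSeparatedSp G) : IsQuasiCompactSp F ∧ IsQuasiSeparatedSp F :=
  ⟨isQuasiCompactSp_of_mor (isQuasiCompactMor_of_repWith hF hG
      (repWith_le (fun _ _ k (_ : IsAffineHom k) => inferInstanceAs (QuasiCompact k)) (isAffineMor_iff.1 h))) hG hGc,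
    isQuasiSeparatedSp_of_mor (isQuasiSeparatedMor_of_isAffineMor h) hGs⟩

theorem qc_qs_of_isQuasiAffineMor {F G : Sp S} {g : F ⟶ G} (hF : IsAlgSpace F) (hG : IsAlgSpace G)
    (h : IsQuasiAffineMor g) : IsQuasiCompactMor g ∧ IsSeparatedMor g := by
  refine ⟨isQuasiCompactMor_of_repWith hF hG (repWith_of_affine_base fun Z hZ b => ?_),
    isSeparatedMor_of_repWith (repWith_of_affine_base fun Z hZ b => ?_)⟩
  · obtain ⟨W, i, fst, sq, hW⟩ := h hZ b
    haveI : CompactSpace W.left := inferInstance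
    refine ⟨W, i, fst, sq, ?_⟩
    haveI : QuasiCompact (i.left ≫ terminal.from Z.left) := by
      rw [Subsingleton.elim (i.left ≫ terminal.from Z.left) (terminal.from W.left)]
      infer_instance
    exact QuasiCompact.of_comp _ (terminal.from Z.left)
  · obtain ⟨W, i, fst, sq, hW⟩ := h hZ b
    refine ⟨W, i, fst, sq, ?_⟩
    haveI : IsSeparated (i.left ≫ terminal.from Z.left) := by
      rw [Subsingleton.elim (i.left ≫ terminal.from Z.left) (terminal.from W.left)]
      exact Scheme.IsSeparated.isSeparated_terminal_from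
    exact IsSeparated.of_comp _ (terminal.from Z.left)

/-- The tail of an approximation. -/
theorem SysOver.exists_tail (Φ : SysOver f) (P : Φ.Iᵒᵖ → Prop) (i₀ : Φ.Iᵒᵖ)
    (h : ∀ i, (i ⟶ i₀) → P i) :
    ∃ Ψ : SysOver f, ∀ (j : Ψ.Iᵒᵖ), ∃ (i : Φ.Iᵒᵖ) (_ : P i) (e : Ψ.D.obj j ≅ Φ.D.obj i),
      e.hom ≫ Φ.t.app i = Ψ.t.app j := by
  let T := {l : Φ.I // i₀.unop ≤ l}
  haveI : Nonempty T := ⟨⟨i₀.unop, le_rfl⟩⟩
  haveI : IsDirected T (fun a b => a ≤ b) := ⟨fun a b => by
    obtain ⟨l, ha, hb⟩ := Φ.directed.directed a.1 b.1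
    exact ⟨⟨l, a.2.trans ha⟩, ha, hb⟩⟩
  let ι : T →o Φ.I := ⟨fun a => a.1, fun a b h => h⟩
  haveI : IsDirectedOrder T := ⟨fun a b => directed_of (fun a b : T => a ≤ b) a b⟩
  haveI : Functor.Final ι.monotone.functor := ι.monotone.final_functor_iff.2 fun l => by
    obtain ⟨m, hm₁, hm₂⟩ := Φ.directed.directed i₀.unop l
    exact ⟨⟨m, hm₁⟩, hm₂⟩
  let β : Tᵒᵖ ⥤ Φ.Iᵒᵖ := ι.monotone.functor.op
  refine ⟨{
    I := T
    D := β ⋙ Φ.D
    t := Functor.whiskerLeft β Φ.t
    π := Functor.whiskerLeft β Φ.π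
    isLimit := (Functor.Initial.isLimitWhiskerEquiv β (Cone.mk X Φ.π)).symm Φ.isLimit
    alg := fun _ => Φ.alg _
    affine := fun _ _ _ => Φ.affine _ _ _
    fp := fun _ => Φ.fp _
    qc := fun _ => Φ.qc _
    qs := fun _ => Φ.qs _
    fac := fun _ => Φ.fac _ }, fun j => ?_⟩
  exact ⟨op j.unop.1, h _ (homOfLE j.unop.2).op, Iso.refl _, Category.id_comp _⟩

/-- A morphism of finite type between qcqs spaces is a closed immersion into a stage. -/
theorem SysOver.eventually_closedImmersion (Φ : SysOver f) (hX : IsAlgSpace X) (hY : IsAlgSpace Y)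
    (hf : LocP @LocallyOfFiniteType f) :
    ∃ i₀ : Φ.Iᵒᵖ, ∀ i (_ : i ⟶ i₀), RepWith @IsClosedImmersion (Φ.π.app i) := by
  obtain ⟨i₁⟩ : Nonempty Φ.Iᵒᵖ := inferInstance
  have hid : RepWith @IsClosedImmersion (𝟙 (Cone.mk X Φ.π).pt) :=
    haveI : MorphismProperty.ContainsIdentities (@IsClosedImmersion : MorphismProperty Scheme.{u}) :=
      ⟨fun _ => inferInstance⟩
    repWith_of_isIso _
  obtain ⟨i₀, hi₀⟩ := H12AlgSp.eventually_closedImmersion (fun i => Φ.alg i) Φ.affine Φ.isLimit i₁ (Φ.qc i₁) hX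
    (𝟙 (Cone.mk X Φ.π).pt) hid hY (Φ.t.app i₁) (by rw [Category.id_comp, Φ.fac]; exact hf)
  exact ⟨i₀, fun i φ => by simpa using hi₀ i φ⟩

/-- Closed immersions into spaces of finite presentation. -/
theorem exists_closedImmersion_fp [QuasiSeparatedSpace S] (hX : IsAlgSpace X) (hY : IsAlgSpace Y)
    (hf : LocP @LocallyOfFiniteType f) (hXc : IsQuasiCompactSp X) (hXs : IsQuasiSeparatedSp X)
    (hYs : IsQuasiSeparatedSp Y) :
    ∃ (X' : Sp S) (i : X ⟶ X') (t : X' ⟶ Y), i ≫ t = f ∧ IsAlgSpace X' ∧ RepWith @IsClosedImmersion i ∧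
      IsFinitePresentationMor t := by
  obtain ⟨Φ⟩ := exists_limit_fp_over f hX hY hXc hXs hYs
  obtain ⟨i₀, hi₀⟩ := Φ.eventually_closedImmersion hX hY hf
  exact ⟨_, Φ.π.app i₀, Φ.t.app i₀, Φ.fac i₀, Φ.alg i₀, hi₀ i₀ (𝟙 _), Φ.fp i₀⟩

/-- Closed immersions into separated spaces of finite presentation. -/
theorem exists_closedImmersion_separated_fp [QuasiSeparatedSpace S] (hX : IsAlgSpace X) (hY : IsAlgSpace Y)
    (hf : LocP @LocallyOfFiniteType f) (hfs : IsSeparatedMor f) (hXc : IsQuasiCompactSp X)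
    (hXs : IsQuasiSeparatedSp X) (hYs : IsQuasiSeparatedSp Y) :
    ∃ (X' : Sp S) (i : X ⟶ X') (t : X' ⟶ Y), i ≫ t = f ∧ IsAlgSpace X' ∧ RepWith @IsClosedImmersion i ∧
      IsFinitePresentationMor t ∧ IsSeparatedMor t := by
  obtain ⟨Φ⟩ := exists_limit_fp_over f hX hY hXc hXs hYs
  obtain ⟨i₀, hi₀⟩ := Φ.eventually_closedImmersion hX hY hf
  obtain ⟨l₀, hl₀⟩ := eventually_isSeparatedMor (fun i => Φ.alg i) Φ.affine Φ.isLimit hY hYs (Φ.t.app i₀)
    (Φ.qc i₀) (Φ.qs i₀) (by rw [Φ.fac]; exact hfs)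
  refine ⟨_, Φ.π.app l₀.left, Φ.t.app l₀.left, Φ.fac _, Φ.alg _, hi₀ _ l₀.hom, Φ.fp _, ?_⟩
  have h := hl₀ l₀.left (𝟙 _)
  rw [Category.id_comp, Φ.t.naturality] at h
  simpa using h

/-- An approximation of an affine morphism is affine from some stage on. -/
theorem SysOver.eventually_affine [QuasiSeparatedSpace S] (Φ : SysOver f) (hX : IsAlgSpace X) (hY : IsAlgSpace Y)
    (hf : IsAffineMor f) (hYc : IsQuasiCompactSp Y) :
    ∃ i₀ : Φ.Iᵒᵖ, ∀ i (_ : i ⟶ i₀), IsAffineMor (Φ.t.app i) := by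
  haveI := compactSpace_points_of_isQuasiCompactSp hYc
  obtain ⟨V, b, hV, hb, hbs⟩ := exists_affine_atlas hY
  obtain ⟨T, p, q, sqT, hT⟩ := hf hV b
  haveI : CategoryTheory.IsConnected Φ.Iᵒᵖ :=
    haveI := IsFiltered.isConnected Φ.I
    isConnected_op
  have hnat : ∀ {i j : Φ.Iᵒᵖ} (u : i ⟶ j), Φ.D.map u ≫ Φ.t.app j = Φ.t.app i := fun u =>
    (Φ.t.naturality u).trans (Category.comp_id _)
  let E : Φ.Iᵒᵖ ⥤ Sp S :=
    { obj := fun i => pullback (Φ.t.app i) b
      map := fun {i j} u => pullback.map _ _ _ _ (Φ.D.map u) (𝟙 _) (𝟙 _) (by rw [Category.comp_id, hnat])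
        (by simp)
      map_id := fun i => by apply pullback.hom_ext <;> simp
      map_comp := fun u v => by apply pullback.hom_ext <;> simp }
  let α : E ⟶ Φ.D :=
    { app := fun i => pullback.fst _ _
      naturality := fun i j u => pullback.lift_fst _ _ _ }
  have hsq : ∀ {i j : Φ.Iᵒᵖ} (u : i ⟶ j), IsPullback (E.map u) (α.app i) (α.app j) (Φ.D.map u) := fun {i j} u => by
    refine IsPullback.of_right (h₁₂ := pullback.snd (Φ.t.app j) b) (v₁₃ := b) (h₂₂ := Φ.t.app j) ?_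
      (α.naturality u) (IsPullback.of_hasPullback (Φ.t.app j) b).flip
    rw [hnat, show E.map u ≫ pullback.snd (Φ.t.app j) b = pullback.snd (Φ.t.app i) b from
      (pullback.lift_snd _ _ _).trans (Category.comp_id _)]
    exact (IsPullback.of_hasPullback (Φ.t.app i) b).flip
  let cE : Cone E :=
    { pt := (yon S).obj T
      π := { app := fun i => pullback.lift (q ≫ Φ.π.app i) ((yon S).map p) (by
               rw [Category.assoc, Φ.fac]
               exact sqT.w)
             naturality := fun i j u => by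
               refine (Category.id_comp _).trans (pullback.hom_ext ?_ ?_)
               · simp only [E, Category.assoc, pullback.lift_fst, pullback.lift_fst_assoc]
                 exact congrArg (q ≫ ·) ((Category.id_comp _).symm.trans (Φ.π.naturality u))
               · simp [E] } }
  have hπ : ∀ i, IsPullback (cE.π.app i) q (α.app i) (Φ.π.app i) := fun i => by
    refine IsPullback.of_right (h₁₂ := pullback.snd (Φ.t.app i) b) (v₁₃ := b) (h₂₂ := Φ.t.app i) ?_
      (pullback.lift_fst _ _ _) (IsPullback.of_hasPullback (Φ.t.app i) b).flip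
    rw [Φ.fac, show cE.π.app i ≫ pullback.snd (Φ.t.app i) b = (yon S).map p from pullback.lift_snd _ _ _]
    exact sqT.flip
  have hl : IsLimit cE := isLimitOfIsPullbackOfIsConnected α cE (Cone.mk X Φ.π)
    { hom := q, w := fun i => (hπ i).w.symm } hπ Φ.isLimit
  have hE : ∀ i, IsAlgSpace (E.obj i) := fun i => isAlgSpace_pullback hY.diag (Φ.alg i) (IsAlgSpace.yon_obj V) _ _
  have hVc : IsQuasiCompactSp ((yon S).obj V) := haveI := hV; isQuasiCompactSp_yon_iff.2 inferInstance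
  have hVs : IsQuasiSeparatedSp ((yon S).obj V) := haveI := hV; isQuasiSeparatedSp_yon inferInstance
  obtain ⟨i₀, hi₀⟩ := exists_affine_of_affine_limit hE
    (fun i j u => isAffineMor_iff.2 (repWith_of_isPullback (hsq u).flip (isAffineMor_iff.1 (Φ.affine i j u))))
    hl (fun i => isQuasiCompactSp_of_mor
      (H12AlgSp.isQuasiCompactMor_of_isPullback (IsPullback.of_hasPullback _ _) (Φ.fp i).2.1)
      (IsAlgSpace.yon_obj V) hVc)
    (fun i => isQuasiSeparatedSp_of_mor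
      (NormSp.isQuasiSeparatedMor_of_isPullback (IsPullback.of_hasPullback _ _) (Φ.fp i).2.2) hVs)
    hT (Iso.refl _)
  refine ⟨i₀, fun i φ => ?_⟩
  obtain ⟨T', hT', ⟨e⟩⟩ := hi₀ i φ
  obtain ⟨m, hm⟩ := (yon S).map_surjective (e.hom ≫ pullback.snd (Φ.t.app i) b)
  haveI := hT'
  haveI := hV
  have hsnd : RepWith @IsAffineHom (pullback.snd (Φ.t.app i) b) := by
    have hm' : RepWith @IsAffineHom ((yon S).map m) :=
      (repWith_yon_map_iff @IsAffineHom m).2 (isAffineHom_of_isAffine m.left)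
    rw [hm] at hm'
    exact (MorphismProperty.cancel_left_of_respectsIso _ e.hom _).1 hm'
  exact isAffineMor_iff.2 (repWith_of_fpqc (fun _ _ k hk => hk) (Φ.alg i) hY
    (Gi := fun _ : PUnit.{u + 1} => (yon S).obj V) (g := fun _ => b)
    (isFpqcCover_of_etale_family (fun _ => hb) fun y => ⟨PUnit.unit, by
      obtain ⟨z, hz⟩ := surjective_map_of_repWith le_rfl hbs y
      exact ⟨z, hz⟩⟩)
    (Fi := fun _ : PUnit.{u + 1} => E.obj i) (p := fun _ => pullback.snd _ _) (q := fun _ => pullback.fst _ _)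
    (fun _ => IsPullback.of_hasPullback _ _) (fun _ => hsnd))

/-- An affine morphism is a limit of affine morphisms of finite presentation. -/
theorem exists_sysOver_affine [QuasiSeparatedSpace S] (hX : IsAlgSpace X) (hY : IsAlgSpace Y) (hf : IsAffineMor f)
    (hYc : IsQuasiCompactSp Y) (hYs : IsQuasiSeparatedSp Y) :
    ∃ Φ : SysOver f, ∀ i, IsAffineMor (Φ.t.app i) := by
  obtain ⟨hXc, hXs⟩ := qc_qs_of_isAffineMor hX hY hf hYc hYs
  obtain ⟨Φ⟩ := exists_limit_fp_over f hX hY hXc hXs hYs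
  obtain ⟨i₀, hi₀⟩ := Φ.eventually_affine hX hY hf hYc
  obtain ⟨Ψ, hΨ⟩ := Φ.exists_tail (fun i => IsAffineMor (Φ.t.app i)) i₀ (fun i φ => hi₀ i φ)
  refine ⟨Ψ, fun j => ?_⟩
  obtain ⟨i, hi, e, he⟩ := hΨ j
  rw [← he]
  exact isAffineMor_iff.2 (MorphismProperty.RespectsIso.precomp _ _ _ (isAffineMor_iff.1 hi))

end Groth.Agent.H12AlgSp.Approx
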