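import Groth.Agent.H12AlgSp.Approx.Eventually
import Groth.Agent.H12AlgSp.SchImage
import Groth.Agent.H12AlgSp.SubExt.FTLimit

/-!
# Finite stages of systems of closed subspaces
-/

set_option autoImplicit false
set_option linter.style.haveILetI false
set_option maxHeartbeats 800000
set_option backward.isDefEq.respectTransparency false
universe u

open CategoryTheory CategoryTheory.Limits AlgebraicGeometry Opposite
open AlgSp Groth.Agent.H13AlgSp

namespace Groth.Agent.H12AlgSp.Approx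

section scheme

theorem appTop_injective_toImage {W U : Scheme.{u}} [IsAffine U] (w : W ⟶ U) [QuasiCompact w] :
    Function.Injective w.toImage.appTop := by
  have h := w.toImage_app_injective ⟨⊤, isAffineOpen_top U⟩
  exact h

/-- A schematic image inside an affine scheme of an integral scheme is integral. -/
theorem isIntegralHom_image {W U V : Scheme.{u}} [IsAffine U] [IsAffine V] (w : W ⟶ U) (m : U ⟶ V)
    [h : IsIntegralHom (w ≫ m)] [QuasiCompact w] : IsIntegralHom (w.imageι ≫ m) := by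
  haveI : IsAffineHom (w ≫ m) := inferInstance
  haveI : IsAffine W := isAffine_of_isAffineHom (w ≫ m)
  haveI : IsAffine w.image := isAffine_of_isAffineHom w.imageι
  rw [HasAffineProperty.iff_of_isAffine (P := @IsIntegralHom)] at h ⊢
  refine ⟨inferInstance, RingHom.IsIntegral.tower_bot _ w.toImage.appTop.hom (appTop_injective_toImage w) ?_⟩
  rw [← CommRingCat.hom_comp, ← Scheme.Hom.comp_appTop, ← Category.assoc, Scheme.Hom.toImage_imageι]
  exact h.2

/-- A system of closed subschemes with integral limit is finite from some stage on. -/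
theorem exists_stage_isFinite {J : Type u} [SmallCategory J] [IsCofiltered J] (D : J ⥤ Scheme.{u})
    (c : Cone D) (hc : IsLimit c) [∀ j, IsAffine (D.obj j)] [IsAffine c.pt]
    [∀ (j k : J) (φ : j ⟶ k), IsClosedImmersion (D.map φ)] {U : Scheme.{u}} [IsAffine U] (p : ∀ j, D.obj j ⟶ U)
    (hp : ∀ {j k : J} (φ : j ⟶ k), D.map φ ≫ p k = p j) [∀ j, LocallyOfFiniteType (p j)]
    (h : ∀ j, IsIntegralHom (c.π.app j ≫ p j)) :
    ∃ j, ∀ l (_ : l ⟶ j), IsFinite (p l) := by
  classical
  obtain ⟨e⟩ : Nonempty J := IsCofiltered.nonempty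
  have hft : (p e).appTop.hom.FiniteType := HasRingHomProperty.appTop @LocallyOfFiniteType (p e) inferInstance
  let _ : Algebra Γ(U, ⊤) Γ(D.obj e, ⊤) := (p e).appTop.hom.toAlgebra
  have : Algebra.FiniteType Γ(U, ⊤) Γ(D.obj e, ⊤) := hft
  obtain ⟨G, hG⟩ := Algebra.FiniteType.out (R := Γ(U, ⊤)) (A := Γ(D.obj e, ⊤))
  have hint : (c.π.app e ≫ p e).appTop.hom.IsIntegral := by
    have h' := h e
    rw [HasAffineProperty.iff_of_isAffine (P := @IsIntegralHom)] at h'
    exact h'.2
  have hex : ∀ g : Γ(D.obj e, ⊤), ∃ (j : J) (φ : j ⟶ e), ∀ (l : J) (ψ : l ⟶ j),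
      (p l).appTop.hom.IsIntegralElem ((D.map (ψ ≫ φ)).appTop g) := fun g => by
    obtain ⟨P, hPm, hP⟩ := hint ((c.π.app e).appTop g)
    have hz : (c.π.app e).appTop (Polynomial.eval₂ (p e).appTop.hom g P) = 0 := by
      rw [Polynomial.hom_eval₂, ← CommRingCat.hom_comp, ← Scheme.Hom.comp_appTop]
      exact hP
    obtain ⟨j, φ, hj⟩ := exists_appTop_map_eq_zero_of_isAffine_of_isLimit D c hc e _ hz
    refine ⟨j, φ, fun l ψ => ⟨P, hPm, ?_⟩⟩
    have h' := congrArg (D.map ψ).appTop hj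
    rw [map_zero] at h'
    rw [← h', Functor.map_comp, Scheme.Hom.comp_appTop, CommRingCat.comp_apply,
      Polynomial.hom_eval₂ _ _ (D.map φ).appTop.hom, Polynomial.hom_eval₂ _ _ (D.map ψ).appTop.hom,
      ← CommRingCat.hom_comp, ← CommRingCat.hom_comp, ← Scheme.Hom.comp_appTop, ← Scheme.Hom.comp_appTop, hp, hp]
  choose js φs hjs using hex
  obtain ⟨i, φ, ψ, hψ⟩ := IsCofiltered.wideCospan (fun a : Fin G.card => φs (G.equivFin.symm a))
  refine ⟨i, fun l χ => ?_⟩
  have hsurj : Function.Surjective (D.map (χ ≫ φ)).appTop :=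
    (IsClosedImmersion.isAffine_surjective_of_isAffine (D.map (χ ≫ φ))).2
  rw [HasAffineProperty.iff_of_isAffine (P := @IsFinite)]
  refine ⟨inferInstance, RingHom.IsIntegral.to_finite ?_
    (HasRingHomProperty.appTop @LocallyOfFiniteType (p l) inferInstance)⟩
  let _ : Algebra Γ(U, ⊤) Γ(D.obj l, ⊤) := (p l).appTop.hom.toAlgebra
  intro x
  obtain ⟨y, rfl⟩ := hsurj x
  let π : Γ(D.obj e, ⊤) →ₐ[Γ(U, ⊤)] Γ(D.obj l, ⊤) :=
    { (D.map (χ ≫ φ)).appTop.hom with
      commutes' := fun r => by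
        show ((p e).appTop ≫ (D.map (χ ≫ φ)).appTop) r = (p l).appTop r
        rw [← Scheme.Hom.comp_appTop, hp] }
  suffices ⊤ ≤ (integralClosure Γ(U, ⊤) Γ(D.obj l, ⊤)).comap π from this (Algebra.mem_top (x := y))
  rw [← hG]
  refine Algebra.adjoin_le fun a ha => ?_
  obtain ⟨b, rfl⟩ : ∃ b, (G.equivFin.symm b : Γ(D.obj e, ⊤)) = a := ⟨G.equivFin ⟨a, ha⟩, by
    rw [Equiv.symm_apply_apply]⟩
  show (p l).appTop.hom.IsIntegralElem ((D.map (χ ≫ φ)).appTop _)
  rw [← hψ b, ← Category.assoc]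
  exact hjs _ l (χ ≫ ψ b)

end scheme

variable {S : Scheme.{u}}

/-- Base change of a system affine over a space to an affine scheme. -/
theorem exists_affine_bc_system {I : Type u} [SmallCategory I] [IsCofiltered I] {D : I ⥤ Sp S} {Y : Sp S}
    (t : D ⟶ (Functor.const I).obj Y) (ht : ∀ i, IsAffineMor (t.app i)) {c : Cone D} (hc : IsLimit c)
    {f : c.pt ⟶ Y} (hf : ∀ i, c.π.app i ≫ t.app i = f) {V T : Over S} [IsAffine V.left]
    {b : (yon S).obj V ⟶ Y} {q : (yon S).obj T ⟶ c.pt} {p : T ⟶ V} (sq : IsPullback q ((yon S).map p) f b) :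
    ∃ (K : I ⥤ Over S) (α : K ⋙ yon S ⟶ D) (cK : Cone K) (_ : IsLimit cK) (eT : cK.pt ≅ T) (pK : ∀ i, K.obj i ⟶ V),
      (∀ i, IsAffine (K.obj i).left) ∧
      (∀ i, IsPullback (α.app i) ((yon S).map (pK i)) (t.app i) b) ∧
      (∀ {i j : I} (u : i ⟶ j), IsPullback ((yon S).map (K.map u)) (α.app i) (α.app j) (D.map u)) ∧
      (∀ {i j : I} (u : i ⟶ j), K.map u ≫ pK j = pK i) ∧
      (∀ i, cK.π.app i ≫ pK i = eT.hom ≫ p) := by
  haveI : CategoryTheory.IsConnected I := IsCofiltered.isConnected I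
  choose W pK fst sqW hWa using fun i => ht i ‹IsAffine V.left› b
  have hnat : ∀ {i j : I} (u : i ⟶ j), D.map u ≫ t.app j = t.app i := fun u =>
    (t.naturality u).trans (Category.comp_id _)
  have hm : ∀ {i j : I} (u : i ⟶ j), ∃ k : W i ⟶ W j, (yon S).map k ≫ fst j = fst i ≫ D.map u ∧ k ≫ pK j = pK i := by
    intro i j u
    obtain ⟨k', h₁, h₂⟩ := (sqW j).exists_lift (fst i ≫ D.map u) ((yon S).map (pK i))
      (by rw [Category.assoc, hnat]; exact (sqW i).w)
    obtain ⟨k, rfl⟩ := (yon S).map_surjective k'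
    exact ⟨k, h₁, (yon S).map_injective (by rw [Functor.map_comp]; exact h₂)⟩
  choose k hk₁ hk₂ using @hm
  let K : I ⥤ Over S :=
    { obj := W
      map := fun {i j} u => k u
      map_id := fun i => (yon S).map_injective ((sqW i).hom_ext (by simp [hk₁]) (by
        rw [← Functor.map_comp, hk₂]
        simp))
      map_comp := fun {i j l} u v => (yon S).map_injective ((sqW l).hom_ext
        (by rw [Functor.map_comp (yon S), Category.assoc, hk₁, hk₁, reassoc_of% (hk₁ u), D.map_comp])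
        (by rw [← Functor.map_comp, ← Functor.map_comp, hk₂, Category.assoc, hk₂, hk₂])) }
  let α : K ⋙ yon S ⟶ D :=
    { app := fst
      naturality := fun i j u => hk₁ u }
  have hsq : ∀ {i j : I} (u : i ⟶ j), IsPullback ((yon S).map (K.map u)) (α.app i) (α.app j) (D.map u) :=
    fun {i j} u => by
      refine IsPullback.of_right (h₁₂ := (yon S).map (pK j)) (v₁₃ := b) (h₂₂ := t.app j) ?_
        (α.naturality u) (sqW j).flip
      rw [hnat, ← Functor.map_comp]
      rw [show K.map u ≫ pK j = pK i from hk₂ u]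
      exact (sqW i).flip
  have hπ : ∀ i, ∃ π : T ⟶ W i, (yon S).map π ≫ fst i = q ≫ c.π.app i ∧ π ≫ pK i = p := fun i => by
    obtain ⟨π', h₁, h₂⟩ := (sqW i).exists_lift (q ≫ c.π.app i) ((yon S).map p)
      (by rw [Category.assoc, hf]; exact sq.w)
    obtain ⟨π, rfl⟩ := (yon S).map_surjective π'
    exact ⟨π, h₁, (yon S).map_injective (by rw [Functor.map_comp]; exact h₂)⟩
  choose π hπ₁ hπ₂ using hπ
  let cK : Cone K :=
    { pt := T
      π := { app := π
             naturality := fun i j u => by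
               refine (Category.id_comp _).trans ((yon S).map_injective ((sqW j).hom_ext ?_ ?_))
               · rw [Functor.map_comp, Category.assoc, hπ₁, show (yon S).map (K.map u) ≫ fst j = _ from hk₁ u,
                   reassoc_of% (hπ₁ i), c.w]
               · rw [← Functor.map_comp, ← Functor.map_comp, hπ₂, Category.assoc,
                   show K.map u ≫ pK j = pK i from hk₂ u, hπ₂] } }
  have hsqπ : ∀ i, IsPullback (((yon S).mapCone cK).π.app i) q (α.app i) (c.π.app i) := fun i => by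
    refine IsPullback.of_right (h₁₂ := (yon S).map (pK i)) (v₁₃ := b) (h₂₂ := t.app i) ?_
      (hπ₁ i) (sqW i).flip
    rw [hf]
    show IsPullback ((yon S).map (π i) ≫ (yon S).map (pK i)) q b f
    rw [← Functor.map_comp, hπ₂]
    exact sq.flip
  have hl : IsLimit ((yon S).mapCone cK) := isLimitOfIsPullbackOfIsConnected α ((yon S).mapCone cK) c
    { hom := q, w := fun i => (hsqπ i).w.symm } hsqπ hc
  exact ⟨K, α, cK, isLimitOfReflects (yon S) hl, Iso.refl _, pK, hWa, sqW, hsq, fun u => hk₂ u,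
    fun i => (hπ₂ i).trans (Category.id_comp _).symm⟩

/-- A system of closed subspaces with integral limit is finite from some stage on. -/
theorem eventually_finite {I : Type u} [SmallCategory I] [IsCofiltered I] {D : I ⥤ Sp S}
    (hD : ∀ i, IsAlgSpace (D.obj i)) (hDc : ∀ (i j : I) (φ : i ⟶ j), RepWith @IsClosedImmersion (D.map φ))
    {c : Cone D} (hc : IsLimit c) {Y : Sp S} (hY : IsAlgSpace Y) (hYc : IsQuasiCompactSp Y)
    (t : D ⟶ (Functor.const I).obj Y) (ht : ∀ i, IsAffineMor (t.app i))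
    (htl : ∀ i, LocP @LocallyOfFiniteType (t.app i)) {f : c.pt ⟶ Y} (hf : ∀ i, c.π.app i ≫ t.app i = f)
    (hint : IsIntegralMor f) : ∃ i₀ : I, ∀ i (_ : i ⟶ i₀), IsFiniteMor (t.app i) := by
  haveI := compactSpace_points_of_isQuasiCompactSp hYc
  obtain ⟨V, b, hV, hb, hbs⟩ := exists_affine_atlas hY
  haveI := hV
  obtain ⟨T, p, q, sqT, hT, hp⟩ := hint hV b
  obtain ⟨K, α, cK, hcK, eT, pK, hKa, sqK, sqm, hpK, hπp⟩ := exists_affine_bc_system t ht hc hf sqT
  haveI : ∀ i, IsAffine ((K ⋙ Over.forget S).obj i) := hKa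
  haveI : IsAffine ((Over.forget S).mapCone cK).pt :=
    haveI : IsAffine ((Over.forget S).obj T) := hT
    IsAffine.of_isIso ((Over.forget S).map eT.hom)
  haveI : ∀ (i j : I) (φ : i ⟶ j), IsClosedImmersion ((K ⋙ Over.forget S).map φ) := fun i j φ =>
    (repWith_yon_map_iff @IsClosedImmersion (K.map φ)).1 (repWith_of_isPullback (sqm φ).flip (hDc i j φ))
  haveI hl : ∀ i, LocallyOfFiniteType (pK i).left := fun i =>
    (locP_yon_iff etLocal_lft (pK i)).1
      (locP_of_isPullback etLocal_lft (sqK i) (hD i) hY (IsAlgSpace.yon_obj V) (htl i))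
  haveI : CategoryTheory.IsConnected I := IsCofiltered.isConnected I
  obtain ⟨j, hj⟩ := exists_stage_isFinite (K ⋙ Over.forget S) ((Over.forget S).mapCone cK)
    (isLimitOfPreserves _ hcK) (fun i => (pK i).left)
    (fun φ => congrArg (fun m => Over.Hom.left m) (hpK φ))
    (fun i => by
      show IsIntegralHom ((cK.π.app i).left ≫ (pK i).left)
      rw [← Over.comp_left, hπp, Over.comp_left]
      haveI := hp
      haveI : IsIso eT.hom.left := inferInstanceAs (IsIso ((Over.forget S).map eT.hom))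
      infer_instance)
  exact ⟨j, fun i φ => isFiniteMor_iff.2 (repWith_of_etale_cover (P := @IsFinite)
    (fun _ _ k (_ : IsFinite k) => inferInstanceAs (IsAffineHom k)) (hD i) hY hb hbs (sqK i)
    ((repWith_yon_map_iff _ _).2 (hj i φ)))⟩

/-- Finite subspaces of finite presentation of a stage through which an integral map factors. -/
theorem exists_finite_ftLimit [QuasiSeparatedSpace S] {X D Y : Sp S} (hX : IsAlgSpace X) (hD : IsAlgSpace D)
    (hY : IsAlgSpace Y) (hYc : IsQuasiCompactSp Y) (hYs : IsQuasiSeparatedSp Y) (x : X ⟶ D) (t : D ⟶ Y)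
    (ht : IsAffineMor t) (htl : LocP @LocallyOfFiniteType t) (hint : IsIntegralMor (x ≫ t)) :
    ∃ (L : Type u) (_ : Preorder L) (_ : IsDirected L (fun a b => a ≤ b)) (_ : Nonempty L) (W : Lᵒᵖ ⥤ Sp S)
      (w : W ⟶ (Functor.const Lᵒᵖ).obj D) (c : Cone W) (_ : IsLimit c) (z : c.pt ⟶ D) (l₀ : Lᵒᵖ),
      IsSchImage x z ∧ (∀ l, c.π.app l ≫ w.app l = z) ∧ (∀ l, IsAlgSpace (W.obj l)) ∧
      (∀ (l m : Lᵒᵖ) (φ : l ⟶ m), RepWith @IsClosedImmersion (W.map φ)) ∧
      (∀ l, RepWith @IsClosedImmersion (w.app l) ∧ IsFinitePresentationMor (w.app l)) ∧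
      ∀ l (_ : l ⟶ l₀), IsFiniteMor (w.app l ≫ t) := by
  obtain ⟨hDc, hDs⟩ := qc_qs_of_isAffineMor hD hY ht hYc hYs
  obtain ⟨hXc, hXs⟩ := qc_qs_of_isAffineMor hX hY (isIntegralMor_iff_affine_univClosed.1 hint).1 hYc hYs
  have hxq : IsQuasiCompactMor x := isQuasiCompactMor_of_qc_qs hX hD x hXc hDs
  obtain ⟨Z, z, hZ, hz⟩ := exists_isSchImage hX hD x
  have hzt : IsIntegralMor (z ≫ t) := by
    haveI := compactSpace_points_of_isQuasiCompactSp hYc
    obtain ⟨V, b, hV, hb, hbs⟩ := exists_affine_atlas hY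
    haveI := hV
    obtain ⟨U, m, qU, sqU, hUa⟩ := ht hV b
    obtain ⟨T, p, qT, sqT, hTa, hp⟩ := hint hV b
    haveI := hUa
    haveI := hTa
    have hq : RepWith @Etale qU := repWith_of_isPullback sqU.flip hb
    have hqs : RepWith @Surjective qU := repWith_of_isPullback sqU.flip hbs
    obtain ⟨l', hl₁, hl₂⟩ := sqU.exists_lift (qT ≫ x) ((yon S).map p) (by rw [Category.assoc]; exact sqT.w)
    obtain ⟨l, rfl⟩ := (yon S).map_surjective l'
    have sqX : IsPullback qT ((yon S).map l) x qU :=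
      IsPullback.of_bot (h₁₁ := qT) (v₁₁ := (yon S).map l) (by rw [hl₂]; exact sqT) hl₁.symm sqU
    have hatl : IsBcAtlas x qU sqX.isoPullback.hom l :=
      ⟨repWith_of_isIso _, repWith_of_isIso _, sqX.isoPullback_hom_snd⟩
    haveI : QuasiCompact l.left := inferInstance
    obtain ⟨fst, sqZ⟩ := hatl.cutsOut hD hq hqs hZ hz
    have big := sqZ.paste_vert sqU
    rw [← Functor.map_comp] at big
    refine isIntegralMor_iff.2 (repWith_of_etale_cover (P := @IsIntegralHom)
      (fun _ _ k (_ : IsIntegralHom k) => inferInstanceAs (IsAffineHom k)) hZ hY hb hbs big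
      ((repWith_yon_map_iff _ _).2 ?_))
    haveI : IsIntegralHom (l.left ≫ m.left) := by
      rw [← Over.comp_left, show l ≫ m = p from (yon S).map_injective (by rw [Functor.map_comp]; exact hl₂)]
      exact hp
    exact isIntegralHom_image l.left m.left
  obtain ⟨L, _, _, _, W, w, c, hc, e, hWa, hWt, hw, hfac⟩ :=
    SubExt.exists_ftLimit hD hZ hDc hDs hz.1
  have hfac' : ∀ l, c.π.app l ≫ w.app l = e.hom ≫ z := fun l => by rw [← hfac l, Iso.hom_inv_id_assoc]
  let tW : W ⟶ (Functor.const Lᵒᵖ).obj Y := w ≫ (Functor.const Lᵒᵖ).map t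
  obtain ⟨l₀, hl₀⟩ := eventually_finite hWa hWt hc hY hYc tW
    (fun l => isAffineMor_iff.2 (repWith_comp
      (repWith_le (fun _ _ k (_ : IsClosedImmersion k) => inferInstanceAs (IsAffineHom k)) (hw l).1)
      (isAffineMor_iff.1 ht)))
    (fun l => locP_comp etLocal_lft (hWa l) hD hY (locP_of_repWith etLocal_lft
      (repWith_le (fun _ _ k (_ : IsClosedImmersion k) => inferInstanceAs (LocallyOfFiniteType k)) (hw l).1)) htl)
    (f := e.hom ≫ z ≫ t) (fun l => by
      show c.π.app l ≫ w.app l ≫ t = _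
      rw [reassoc_of% (hfac' l)])
    (isIntegralMor_iff.2 (MorphismProperty.RespectsIso.precomp _ _ _ (isIntegralMor_iff.1 hzt)))
  have himg : IsSchImage x (e.hom ≫ z) := by
    obtain ⟨x', hx'⟩ := hz.2.1
    refine ⟨MorphismProperty.RespectsIso.precomp _ _ _ hz.1, ⟨x' ≫ e.inv, by
      rw [Category.assoc, Iso.inv_hom_id_assoc, hx']⟩, fun Z' i' hZ' hi' hx'' => ?_⟩
    obtain ⟨k, hk⟩ := hz.2.2 i' hZ' hi' hx''
    exact ⟨e.hom ≫ k, by rw [Category.assoc, hk]⟩
  exact ⟨L, inferInstance, inferInstance, inferInstance, W, w, c, hc, e.hom ≫ z, l₀,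
    himg, hfac', hWa, hWt, hw, hl₀⟩

end Groth.Agent.H12AlgSp.Approx
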