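import Groth.Agent.H12AlgSp.Approx.DistSqMap
import Groth.Agent.H12AlgSp.LimitScheme
import Groth.Agent.H12AlgSp.AffineMor

/-!
# Maps between glued spaces
-/

set_option autoImplicit false
set_option linter.style.haveILetI false
set_option maxHeartbeats 800000
set_option backward.isDefEq.respectTransparency false
universe u

open CategoryTheory CategoryTheory.Limits AlgebraicGeometry Opposite
open AlgSp Groth.Agent.H13AlgSp

namespace Groth.Agent.H12AlgSp.Approx

variable {S : Scheme.{u}} {U V W P U' V' W' P' : Sp S} {j : U ⟶ W} {f : V ⟶ W} {p : P ⟶ U} {q : P ⟶ V}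
  {j' : U' ⟶ W'} {f' : V' ⟶ W'} {p' : P' ⟶ U'} {q' : P' ⟶ V'} {h : W ⟶ W'} {hU : U ⟶ U'} {hv : V ⟶ V'}

/-- The open part is the inverse image of the open part. -/
theorem isPullback_open_part (hsq : IsElemDistSq j f) (hP : IsPullback p q j f)
    (hj' : RepWith @IsOpenImmersion j') (hP' : IsPullback p' q' j' f') (e : j ≫ h = hU ≫ j')
    (ev : hv ≫ f' = f ≫ h)
    (hq : ∀ v, Points.map hv v ∈ Set.range (Points.map q') → v ∈ Set.range (Points.map q)) :
    IsPullback j hU h j' := by
  have sqQ := IsPullback.of_hasPullback h j'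
  have hQo : RepWith @IsOpenImmersion (pullback.fst h j') := repWith_of_isPullback sqQ.flip hj'
  have hrange : Set.range (Points.map (pullback.fst h j')) = Set.range (Points.map j) := by
    rw [range_snd_of_isPullback sqQ.flip]
    ext x
    constructor
    · rintro ⟨u', hu'⟩
      rcases mem_range_map_of_elemDistSq hsq x with hx | ⟨v, rfl⟩
      · exact hx
      · rw [← Points.map_comp, ← ev, Points.map_comp] at hu'
        obtain ⟨r, -, hr⟩ := exists_point_of_isPullback hP' u' (Points.map hv v) hu'
        obtain ⟨y, rfl⟩ := hq v ⟨r, hr⟩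
        exact ⟨Points.map p y, by rw [← Points.map_comp, hP.w, Points.map_comp]⟩
    · rintro ⟨u, rfl⟩
      exact ⟨Points.map hU u, by rw [← Points.map_comp, ← e, Points.map_comp]⟩
  obtain ⟨i, hi⟩ := exists_iso_of_range_eq hQo hsq.1 hrange
  have hj' := mono_of_openImmersion hj'
  refine sqQ.of_iso i (Iso.refl _) (Iso.refl _) (Iso.refl _) (by simp [hi]) ?_ (by simp) (by simp)
  simp only [Iso.refl_hom, Category.comp_id]
  rw [← cancel_mono j', Category.assoc, ← e, reassoc_of% hi, pullback.condition]

/-- A map of elementary distinguished squares which is cartesian on the pieces is affine if it is affine on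
the pieces. -/
theorem isAffineMor_of_parts (hW : IsAlgSpace W) (hW' : IsAlgSpace W') (hj' : RepWith @Etale j')
    (hf' : RepWith @Etale f') (hcov : ∀ x : Points W', x ∈ Set.range (Points.map j') ∨ x ∈ Set.range (Points.map f'))
    (sqU : IsPullback j hU h j') (sqV : IsPullback f hv h f') (hUa : IsAffineMor hU) (hVa : IsAffineMor hv) :
    IsAffineMor h := by
  refine isAffineMor_iff.2 (repWith_of_fpqc (fun _ _ k hk => hk) hW hW'
    (Gi := fun b : ULift.{u} Bool => if b.down then U' else V')
    (g := fun b => match b with | ⟨true⟩ => j' | ⟨false⟩ => f')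
    (isFpqcCover_of_etale_family (fun b => by rcases b with ⟨_ | _⟩ <;> assumption) fun x => ?_)
    (Fi := fun b : ULift.{u} Bool => if b.down then U else V)
    (p := fun b => match b with | ⟨true⟩ => hU | ⟨false⟩ => hv)
    (q := fun b => match b with | ⟨true⟩ => j | ⟨false⟩ => f)
    (fun b => by rcases b with ⟨_ | _⟩ <;> assumption)
    (fun b => by rcases b with ⟨_ | _⟩ <;> exact isAffineMor_iff.1 ‹_›))
  rcases hcov x with hx | hx
  · exact ⟨⟨true⟩, hx⟩
  · exact ⟨⟨false⟩, hx⟩

end Groth.Agent.H12AlgSp.Approx
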