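import Groth.Agent.H12AlgSp.Approx.Base
import Groth.Agent.H12AlgSp.Approx.DistSqMap
import Groth.Agent.H12AlgSp.SepAbsolute
import Groth.Agent.H12AlgSp.FppfBootstrap
import Groth.Agent.H13Flat.Scheme
import Groth.Agent.H13AlgSp.HenselLift

/-!
# Properties of spaces glued from an elementary distinguished square
-/

set_option autoImplicit false
set_option linter.style.haveILetI false
set_option maxHeartbeats 800000
set_option backward.isDefEq.respectTransparency false
universe u

open CategoryTheory CategoryTheory.Limits AlgebraicGeometry Opposite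
open AlgSp Groth.Agent.H13AlgSp

namespace Groth.Agent.H12AlgSp.Approx

variable {S : Scheme.{u}}

/-- Pieces covering the first factor cover a fibre product. -/
theorem points_pullback_cover {κ : Type*} {A B X : Sp S} {a : A ⟶ X} {b : B ⟶ X} {C : κ → Sp S}
    (ι : ∀ i, C i ⟶ A) (h : ∀ x, ∃ i y, Points.map (ι i) y = x) (z : Points (pullback a b)) :
    ∃ (i : κ) (y : Points (pullback (ι i ≫ a) b)),
      Points.map (pullback.map (ι i ≫ a) b a b (ι i) (𝟙 _) (𝟙 _) (by simp) (by simp)) y = z := by
  obtain ⟨i, y, hy⟩ := h (Points.map (pullback.fst a b) z)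
  let m := pullback.map (ι i ≫ a) b a b (ι i) (𝟙 _) (𝟙 _) (by simp) (by simp)
  have sq : IsPullback m (pullback.fst (ι i ≫ a) b) (pullback.fst a b) (ι i) := by
    refine IsPullback.of_right (h₁₂ := pullback.snd a b) (h₂₂ := a) (v₁₃ := b) ?_ (pullback.lift_fst _ _ _)
      (IsPullback.of_hasPullback a b).flip
    have : m ≫ pullback.snd a b = pullback.snd (ι i ≫ a) b := (pullback.lift_snd _ _ _).trans (Category.comp_id _)
    rw [this]
    exact (IsPullback.of_hasPullback _ _).flip
  obtain ⟨p, hp, -⟩ := exists_point_of_isPullback sq z y hy.symm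
  exact ⟨i, p, hp⟩

theorem compactSpace_points_of_cover {κ : Type*} [Finite κ] {C : κ → Sp S} {F : Sp S} (m : ∀ i, C i ⟶ F)
    (hc : ∀ i, CompactSpace (Points (C i))) (h : ∀ z, ∃ i y, Points.map (m i) y = z) : CompactSpace (Points F) := by
  constructor
  have : (Set.univ : Set (Points F)) = ⋃ i, Set.range (Points.map (m i)) :=
    (Set.eq_univ_of_forall fun z => Set.mem_iUnion.2 (h z)).symm
  rw [this]
  exact isCompact_iUnion fun i => haveI := hc i; isCompact_range (Points.continuous_map (m i))

theorem compactSpace_points_pullback {κ : Type*} [Finite κ] {A B X : Sp S} {a : A ⟶ X} {b : B ⟶ X} {C : κ → Sp S}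
    (ι : ∀ i, C i ⟶ A) (h : ∀ x, ∃ i y, Points.map (ι i) y = x)
    (hc : ∀ i, CompactSpace (Points (pullback (ι i ≫ a) b))) : CompactSpace (Points (pullback a b)) :=
  compactSpace_points_of_cover _ hc (points_pullback_cover ι h)

theorem compactSpace_points_symm {A B X : Sp S} {a : A ⟶ X} {b : B ⟶ X}
    (h : CompactSpace (Points (pullback a b))) : CompactSpace (Points (pullback b a)) :=
  compactSpace_points_of_cover (κ := Unit) (fun _ => (pullbackSymmetry a b).hom) (fun _ => h) fun z =>
    ⟨(), Points.map (pullbackSymmetry a b).inv z, by rw [← Points.map_comp, Iso.inv_hom_id, Points.map_id]⟩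

theorem compactSpace_points_congr {A B X : Sp S} {a a' : A ⟶ X} {b b' : B ⟶ X} (ha : a = a') (hb : b = b')
    (h : CompactSpace (Points (pullback a b))) : CompactSpace (Points (pullback a' b')) := by
  subst ha hb; exact h

theorem compactSpace_points_yon (T : Over S) [CompactSpace T.left] : CompactSpace (Points ((yon S).obj T)) :=
  compactSpace_points_of_isQuasiCompactSp (isQuasiCompactSp_yon_iff.2 ‹_›)

theorem compactSpace_of_points {T : Over S} (h : CompactSpace (Points ((yon S).obj T))) : CompactSpace T.left :=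
  (Points.schemeHomeo T).symm.compactSpace

theorem compactSpace_points_of_isPullback {A B X : Sp S} {a : A ⟶ X} {b : B ⟶ X} {T : Over S}
    [CompactSpace T.left] {fst : (yon S).obj T ⟶ A} {snd : (yon S).obj T ⟶ B} (sq : IsPullback fst snd a b) :
    CompactSpace (Points (pullback a b)) :=
  compactSpace_points_of_cover (κ := Unit) (fun _ => sq.isoPullback.hom) (fun _ => compactSpace_points_yon T)
    fun z => ⟨(), Points.map sq.isoPullback.inv z, by rw [← Points.map_comp, Iso.inv_hom_id, Points.map_id]⟩

theorem quasiSeparatedSpace_sigma {κ : Type u} [Finite κ] (Z : κ → Scheme.{u}) [∀ i, QuasiSeparatedSpace (Z i)] :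
    QuasiSeparatedSpace ↥(∐ Z) := by
  refine ⟨fun U V hU hUc hV hVc => ?_⟩
  have hcl : ∀ i, IsClosed (Set.range (Sigma.ι Z i)) := fun i => by
    rw [← isOpen_compl_iff]
    have : (Set.range (Sigma.ι Z i))ᶜ = ⋃ k ∈ {k | k ≠ i}, Set.range (Sigma.ι Z k) := by
      ext x
      simp only [Set.mem_compl_iff, Set.mem_iUnion, Set.mem_setOf_eq, exists_prop]
      constructor
      · intro hx
        obtain ⟨k, y, hy⟩ := (sigmaOpenCover Z).exists_eq x
        exact ⟨k, fun h => hx (by subst h; exact ⟨y, hy⟩), y, hy⟩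
      · rintro ⟨k, hk, hxk⟩ hxi
        exact (disjoint_opensRange_sigmaι Z k i hk).le_bot (show x ∈ _ ⊓ _ from ⟨hxk, hxi⟩)
    rw [this]
    exact isOpen_biUnion fun k _ => (Sigma.ι Z k).isOpenEmbedding.isOpen_range
  have hUV : U ∩ V = ⋃ i, Sigma.ι Z i '' ((Sigma.ι Z i ⁻¹' U) ∩ (Sigma.ι Z i ⁻¹' V)) := by
    ext x
    simp only [Set.mem_iUnion, Set.mem_image, Set.mem_inter_iff, Set.mem_preimage]
    constructor
    · intro hx
      obtain ⟨k, y, hy⟩ := (sigmaOpenCover Z).exists_eq x
      exact ⟨k, y, ⟨hy ▸ hx.1, hy ▸ hx.2⟩, hy⟩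
    · rintro ⟨i, y, hy, rfl⟩
      exact hy
  rw [hUV]
  refine isCompact_iUnion fun i => IsCompact.image ?_ (Sigma.ι Z i).continuous
  have he : Topology.IsClosedEmbedding (Sigma.ι Z i) := ⟨(Sigma.ι Z i).isOpenEmbedding.isEmbedding, hcl i⟩
  exact QuasiSeparatedSpace.inter_isCompact _ _ (hU.preimage (Sigma.ι Z i).continuous) (he.isCompact_preimage hUc)
    (hV.preimage (Sigma.ι Z i).continuous) (he.isCompact_preimage hVc)

variable [QuasiSeparatedSpace S] {U X : Sp S} {j : U ⟶ X} {A P : Over S} {f : (yon S).obj A ⟶ X}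
  {p : (yon S).obj P ⟶ U} {q : P ⟶ A}

/-- Spaces glued from quasi-compact quasi-separated pieces of finite presentation. -/
theorem glue_props (hsq : IsElemDistSq j f) (hX : IsAlgSpace X) (hU : IsAlgSpace U)
    (hP : IsPullback p ((yon S).map q) j f) (hUc : IsQuasiCompactSp U) (hUs : IsQuasiSeparatedSp U)
    [CompactSpace A.left] [QuasiSeparatedSpace A.left] [CompactSpace P.left]
    (hUl : LocP @LocallyOfFinitePresentation (strMap U)) (hAl : LocallyOfFinitePresentation A.hom) :
    IsQuasiCompactSp X ∧ IsQuasiSeparatedSp X ∧ LocP @LocallyOfFinitePresentation (strMap X) := by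
  haveI := compactSpace_points_of_isQuasiCompactSp hUc
  obtain ⟨U₀, a₀, hU₀, ha₀, ha₀s⟩ := exists_affine_atlas hU
  haveI := hU₀
  haveI := mono_of_openImmersion hsq.1
  have hf : RepWith @Etale f := by simpa using hsq.2.1 (𝟙 _) (repWith_of_isIso _)
  have hj : RepWith @Etale j := repWith_le (fun _ _ k (_ : IsOpenImmersion k) => inferInstanceAs (Etale k)) hsq.1
  let C : ULift.{u} Bool → Over S := fun i => if i.down then U₀ else A
  let c : ∀ i, (yon S).obj (C i) ⟶ X := fun
    | ⟨true⟩ => a₀ ≫ j
    | ⟨false⟩ => f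
  have hCc : ∀ i, CompactSpace (C i).left := by
    rintro ⟨_ | _⟩
    · exact ‹CompactSpace A.left›
    · exact inferInstanceAs (CompactSpace U₀.left)
  have hcov : ∀ x : Points X, ∃ i y, Points.map (c i) y = x := fun x => by
    rcases mem_range_map_of_elemDistSq hsq x with ⟨u, hu⟩ | ⟨v, hv⟩
    · obtain ⟨w, hw⟩ := surjective_map_of_repWith le_rfl ha₀s u
      exact ⟨⟨true⟩, w, by
        show Points.map (a₀ ≫ j) w = x
        rw [Points.map_comp, hw, hu]⟩
    · exact ⟨⟨false⟩, v, hv⟩
  haveI : CompactSpace (Points X) := compactSpace_points_of_cover c (fun i => haveI := hCc i; compactSpace_points_yon _) hcov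
  refine ⟨isQuasiCompactSp_of_compactSpace hX, ?_⟩
  obtain ⟨T, inc, l, ho, hs, hl⟩ : ∃ (T : Over S) (inc : ∀ i, C i ⟶ T) (l : (yon S).obj T ⟶ X),
      (∀ i, IsOpenImmersion (inc i).left) ∧ (∀ t : T.left, ∃ i, t ∈ Set.range (inc i).left) ∧
      (∀ i, (yon S).map (inc i) ≫ l = c i) ∧ QuasiSeparatedSpace T.left ∧ RepWith @Etale l := by
    obtain ⟨T', inc', l', -, -, hl', -⟩ := Groth.Agent.H12AlgSp.exists_sigma_lift C c
    let k : sigmaOver C ⟶ T' := Over.homMk (Sigma.desc fun i => (inc' i).left) (Sigma.hom_ext _ _ fun i => by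
      rw [← Category.assoc, Sigma.ι_desc]
      exact (Over.w (inc' i)).trans (Sigma.ι_desc (fun i => (C i).hom) i).symm)
    have hk : ∀ i, sigmaInj C i ≫ k = inc' i := fun i => Over.OverMorphism.ext (Sigma.ι_desc _ _)
    have hl'' : ∀ i, (yon S).map (sigmaInj C i) ≫ (yon S).map k ≫ l' = c i := fun i => by
      rw [← Category.assoc, ← Functor.map_comp, hk, hl']
    have hce : ∀ i, RepWith @Etale (c i) := by
      rintro ⟨_ | _⟩
      · exact hf
      · exact repWith_comp ha₀ hj
    haveI : ∀ i, QuasiSeparatedSpace (C i).left := by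
      rintro ⟨_ | _⟩
      · exact ‹QuasiSeparatedSpace A.left›
      · exact inferInstanceAs (QuasiSeparatedSpace U₀.left)
    refine ⟨sigmaOver C, sigmaInj C, (yon S).map k ≫ l', isOpenImmersion_sigmaInj C, fun t => ?_, hl'',
      quasiSeparatedSpace_sigma fun i => (C i).left, repWith_etale_sigma hX C hce _ hl''⟩
    obtain ⟨i, y, hy⟩ := (sigmaOpenCover fun i => (C i).left).exists_eq t
    exact ⟨i, y, hy⟩
  have hcovT : ∀ x : Points ((yon S).obj T), ∃ i y, Points.map ((yon S).map (inc i)) y = x := fun x => by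
    obtain ⟨t, rfl⟩ := (Points.schemeEquiv T).surjective x
    obtain ⟨i, w, rfl⟩ := hs t
    exact ⟨i, Points.ofScheme _ w, Points.map_yon_map_apply _ _⟩
  obtain ⟨hl, hTqs, hle⟩ := hl
  have hls : RepWith @Surjective l := repWith_surjective_of_map (hX.representable_from_yon l) fun x => by
    obtain ⟨i, y, rfl⟩ := hcov x
    exact ⟨Points.map ((yon S).map (inc i)) y, by rw [← Points.map_comp, hl]⟩
  haveI : CompactSpace T.left :=
    compactSpace_of_points (compactSpace_points_of_cover _ (fun i => haveI := hCc i; compactSpace_points_yon _) hcovT)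
  refine ⟨?_, ?_⟩
  · -- quasi-separated
    have hUU : CompactSpace (Points (pullback (a₀ ≫ j) (a₀ ≫ j))) := by
      obtain ⟨R, r₂, r₁', sq⟩ := hU.representable_from_yon a₀ a₀
      obtain ⟨r₁, rfl⟩ := (yon S).map_surjective r₁'
      haveI : CompactSpace R.left := compactSpace_of_isPullback' hUs sq
      exact compactSpace_points_of_isPullback
        (⟨⟨by rw [reassoc_of% sq.w]⟩, ⟨(pullbackIsPullbackOfCompMono a₀ a₀ j).ofIsoLimit
          (Cones.ext (sq.isoPullback.symm) (by rintro (_ | _ | _) <;> simp))⟩⟩ :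
          IsPullback ((yon S).map r₁) ((yon S).map r₂) (a₀ ≫ j) (a₀ ≫ j))
    have hUA : CompactSpace (Points (pullback (a₀ ≫ j) f)) := by
      obtain ⟨R, r₂, r₁', sq⟩ := hU.representable_from_yon a₀ p
      obtain ⟨r₁, rfl⟩ := (yon S).map_surjective r₁'
      haveI : CompactSpace R.left := compactSpace_of_isPullback' hUs sq
      exact compactSpace_points_of_isPullback (sq.flip.paste_horiz hP.flip).flip
    have hAA : CompactSpace (Points (pullback f f)) := by
      obtain ⟨R, r₂, r₁', sq⟩ := hU.representable_from_yon p p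
      obtain ⟨r₁, rfl⟩ := (yon S).map_surjective r₁'
      haveI : CompactSpace R.left := compactSpace_of_isPullback' hUs sq
      let D : Bool → Sp S := fun i => if i then (yon S).obj R else (yon S).obj A
      let m : ∀ i, D i ⟶ pullback f f := fun
        | true => pullback.lift ((yon S).map (r₁ ≫ q)) ((yon S).map (r₂ ≫ q))
            (by rw [Functor.map_comp, Functor.map_comp, Category.assoc, Category.assoc, ← hP.w, reassoc_of% sq.w])
        | false => pullback.diagonal f
      refine compactSpace_points_of_cover m ?_ fun z => ?_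
      · rintro (_ | _)
        · exact compactSpace_points_yon A
        · exact compactSpace_points_yon R
      induction z using Points.ind with | h r =>
      haveI : IsReduced r.pt.left := inferInstanceAs (IsReduced (Spec (CommRingCat.of r.K)))
      obtain ⟨v₁, hv₁⟩ : ∃ v, r.toHom ≫ pullback.fst f f = v := ⟨_, rfl⟩
      obtain ⟨v₂, hv₂⟩ : ∃ v, r.toHom ≫ pullback.snd f f = v := ⟨_, rfl⟩
      have hv : v₁ ≫ f = v₂ ≫ f := by rw [← hv₁, ← hv₂, Category.assoc, Category.assoc, pullback.condition]
      suffices ∃ i y, y ≫ m i = r.toHom by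
        obtain ⟨i, y, hy⟩ := this
        refine ⟨i, Points.ofPt y (IsLocalRing.closedPoint r.K), ?_⟩
        rw [Points.map_ofPt, hy, Points.ofPt_toHom]
      rcases field_range j (str := r.pt.hom) (v₁ ≫ f) with hr | hr
      · obtain ⟨u, hu⟩ := exists_factor_open hsq.1 _ hr
        obtain ⟨p₁, hp₁, hp₁'⟩ := hP.exists_lift u v₁ hu
        obtain ⟨p₂, hp₂, hp₂'⟩ := hP.exists_lift u v₂ (hu.trans hv)
        obtain ⟨y, hy₁, hy₂⟩ := sq.exists_lift p₁ p₂ (hp₁.trans hp₂.symm)
        refine ⟨true, y, pullback.hom_ext ?_ ?_⟩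
        · rw [Category.assoc, show m true ≫ pullback.fst f f = _ from pullback.lift_fst _ _ _, Functor.map_comp,
            reassoc_of% hy₁, hp₁', hv₁]
        · rw [Category.assoc, show m true ≫ pullback.snd f f = _ from pullback.lift_snd _ _ _, Functor.map_comp,
            reassoc_of% hy₂, hp₂', hv₂]
      · have e := eq_of_not_mem_range hsq v₁ v₂ hv hr
        refine ⟨false, v₁, pullback.hom_ext ?_ ?_⟩
        · rw [Category.assoc, show m false ≫ pullback.fst f f = _ from pullback.diagonal_fst _, Category.comp_id, hv₁]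
        · rw [Category.assoc, show m false ≫ pullback.snd f f = _ from pullback.diagonal_snd _, Category.comp_id, e, hv₂]
    have hpieces : ∀ i i', CompactSpace (Points (pullback (c i) (c i'))) := by
      rintro ⟨_ | _⟩ ⟨_ | _⟩
      · exact hAA
      · exact compactSpace_points_symm hUA
      · exact hUA
      · exact hUU
    have hll : CompactSpace (Points (pullback l l)) :=
      compactSpace_points_pullback _ hcovT fun i => compactSpace_points_symm <|
        compactSpace_points_pullback _ hcovT fun i' => compactSpace_points_congr (hl i').symm (hl i).symm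
          (compactSpace_points_symm (hpieces i i'))
    obtain ⟨R, s, t', sq⟩ := hX.representable_from_yon l l
    obtain ⟨t, rfl⟩ := (yon S).map_surjective t'
    haveI : CompactSpace R.left := compactSpace_of_points (compactSpace_points_of_cover (κ := Unit)
      (fun _ => sq.isoPullback.inv) (fun _ => hll) fun z => ⟨(), Points.map sq.isoPullback.hom z, by
        rw [← Points.map_comp, Iso.hom_inv_id, Points.map_id]⟩)
    haveI := hTqs
    exact isQuasiSeparatedSp_of_qc_proj hX hle hls sq (quasiCompact_of_compactSpace t.left)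
  · -- locally of finite presentation
    intro U' V a b h ha hb w
    have hT : LocallyOfFinitePresentation T.hom := by
      refine IsZariskiLocalAtSource.of_openCover (P := @LocallyOfFinitePresentation)
        (Scheme.Cover.mkOfCovers (P := @IsOpenImmersion) (ULift.{u} Bool) (fun i => (C i).left) (fun i => (inc i).left)
          (fun t => by obtain ⟨i, hi⟩ := hs t; exact ⟨i, hi⟩) ho) ?_
      rintro ⟨_ | _⟩
      · show LocallyOfFinitePresentation ((inc ⟨false⟩).left ≫ T.hom)
        rw [Over.w]
        exact hAl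
      · show LocallyOfFinitePresentation ((inc ⟨true⟩).left ≫ T.hom)
        rw [Over.w]
        exact lfp_hom_of_locP (strMap_ext (a₀ ≫ strMap U) (strMap _) ▸ locP_etale_precomp ha₀ hUl)
    haveI hV : Etale V.hom := by
      have hb' : b = (yon S).map (Over.homMk V.hom (Category.comp_id _) : V ⟶ Over.mk (𝟙 S)) := strMap_ext _ _
      rw [hb'] at hb
      exact (repWith_yon_map_iff @Etale _).1 hb
    obtain ⟨R, ru, rt', sq⟩ := hX.representable_from_yon l a
    obtain ⟨rt, rfl⟩ := (yon S).map_surjective rt'
    haveI : Etale ru.left := hle.property a _ ru sq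
    haveI : Surjective ru.left := hls.property a _ ru sq
    haveI : Etale rt.left := ha.property l _ rt sq.flip
    haveI : LocallyOfFinitePresentation (ru.left ≫ U'.hom) := by
      rw [Over.w ru, ← Over.w rt]
      infer_instance
    haveI : LocallyOfFinitePresentation U'.hom := Groth.Agent.H13Flat.lfp_of_flat_surjective ru.left U'.hom
    haveI : LocallyOfFinitePresentation (h.left ≫ V.hom) := by rw [Over.w h]; infer_instance
    exact lfp_of_comp h.left V.hom

end Groth.Agent.H12AlgSp.Approx
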