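import Groth.Agent.H12AlgSp.Approx.Eventually

/-!
# Base change of relative approximations, and good diagrams
-/

set_option autoImplicit false
set_option linter.style.haveILetI false
set_option maxHeartbeats 800000
set_option backward.isDefEq.respectTransparency false
universe u

open CategoryTheory CategoryTheory.Limits AlgebraicGeometry Opposite
open AlgSp Groth.Agent.H13AlgSp

namespace Groth.Agent.H12AlgSp.Approx

variable {S : Scheme.{u}} {X Y : Sp S} {f : X ⟶ Y}

/-- The base change of an approximation along a map to the target. -/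
theorem SysOver.exists_bc (Φ : SysOver f) {B : Sp S} (b : B ⟶ Y) :
    ∃ (E : Φ.Iᵒᵖ ⥤ Sp S) (π : (Functor.const Φ.Iᵒᵖ).obj (pullback f b) ⟶ E) (_ : IsLimit (Cone.mk _ π))
      (α : E ⟶ Φ.D) (t : E ⟶ (Functor.const Φ.Iᵒᵖ).obj B),
      (∀ i, IsPullback (α.app i) (t.app i) (Φ.t.app i) b) ∧
      (∀ {i j : Φ.Iᵒᵖ} (u : i ⟶ j), IsPullback (E.map u) (α.app i) (α.app j) (Φ.D.map u)) ∧
      (∀ i, π.app i ≫ α.app i = pullback.fst f b ≫ Φ.π.app i) ∧
      (∀ i, π.app i ≫ t.app i = pullback.snd f b) := by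
  haveI : CategoryTheory.IsConnected Φ.Iᵒᵖ :=
    haveI := IsFiltered.isConnected Φ.I
    isConnected_op
  have hnat : ∀ {i j : Φ.Iᵒᵖ} (u : i ⟶ j), Φ.D.map u ≫ Φ.t.app j = Φ.t.app i := fun u =>
    (Φ.t.naturality u).trans (Category.comp_id _)
  let E : Φ.Iᵒᵖ ⥤ Sp S :=
    { obj := fun i => pullback (Φ.t.app i) b
      map := fun {i j} u => pullback.map _ _ _ _ (Φ.D.map u) (𝟙 _) (𝟙 _) (by rw [Category.comp_id, hnat])
        (by simp)
      map_id := fun i => by apply pullback.hom_ext <;> simp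
      map_comp := fun u v => by apply pullback.hom_ext <;> simp }
  let α : E ⟶ Φ.D :=
    { app := fun i => pullback.fst _ _
      naturality := fun i j u => pullback.lift_fst _ _ _ }
  let t : E ⟶ (Functor.const Φ.Iᵒᵖ).obj B :=
    { app := fun i => pullback.snd _ _
      naturality := fun i j u => by simp [E] }
  have hsq : ∀ {i j : Φ.Iᵒᵖ} (u : i ⟶ j), IsPullback (E.map u) (α.app i) (α.app j) (Φ.D.map u) := fun {i j} u => by
    refine IsPullback.of_right (h₁₂ := pullback.snd (Φ.t.app j) b) (v₁₃ := b) (h₂₂ := Φ.t.app j) ?_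
      (α.naturality u) (IsPullback.of_hasPullback (Φ.t.app j) b).flip
    rw [hnat, show E.map u ≫ pullback.snd (Φ.t.app j) b = pullback.snd (Φ.t.app i) b from
      (pullback.lift_snd _ _ _).trans (Category.comp_id _)]
    exact (IsPullback.of_hasPullback (Φ.t.app i) b).flip
  let π : (Functor.const Φ.Iᵒᵖ).obj (pullback f b) ⟶ E :=
    { app := fun i => pullback.lift (pullback.fst f b ≫ Φ.π.app i) (pullback.snd f b) (by
        rw [Category.assoc, Φ.fac]
        exact pullback.condition)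
      naturality := fun i j u => by
        refine (Category.id_comp _).trans (pullback.hom_ext ?_ ?_)
        · simp only [E, Category.assoc, pullback.lift_fst, pullback.lift_fst_assoc]
          exact congrArg (pullback.fst f b ≫ ·) ((Category.id_comp _).symm.trans (Φ.π.naturality u))
        · simp [E] }
  have hπ : ∀ i, IsPullback (π.app i) (pullback.fst f b) (α.app i) (Φ.π.app i) := fun i => by
    refine IsPullback.of_right (h₁₂ := pullback.snd (Φ.t.app i) b) (v₁₃ := b) (h₂₂ := Φ.t.app i) ?_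
      (pullback.lift_fst _ _ _) (IsPullback.of_hasPullback (Φ.t.app i) b).flip
    rw [Φ.fac, show π.app i ≫ pullback.snd (Φ.t.app i) b = pullback.snd f b from pullback.lift_snd _ _ _]
    exact (IsPullback.of_hasPullback f b).flip
  exact ⟨E, π, isLimitOfIsPullbackOfIsConnected α (Cone.mk _ π) (Cone.mk X Φ.π)
    { hom := pullback.fst f b, w := fun i => (hπ i).w.symm } hπ Φ.isLimit, α, t,
    fun i => IsPullback.of_hasPullback _ _, hsq, fun i => pullback.lift_fst _ _ _,
    fun i => pullback.lift_snd _ _ _⟩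

/-- A morphism of finite type to a space affine over a stage embeds in the base change of a space of finite
presentation over the stage. -/
theorem exists_good_diagram [QuasiSeparatedSpace S] {X B B₀ : Sp S} (hX : IsAlgSpace X) (hB : IsAlgSpace B)
    (hB₀ : IsAlgSpace B₀) (π : B ⟶ B₀) (hπ : IsAffineMor π) (hBc : IsQuasiCompactSp B) (hBs : IsQuasiSeparatedSp B)
    (hB₀c : IsQuasiCompactSp B₀) (hB₀s : IsQuasiSeparatedSp B₀) (a : X ⟶ B)
    (haq : IsQuasiSeparatedMor a) (hac : IsQuasiCompactMor a) (hal : LocP @LocallyOfFiniteType a) :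
    ∃ (W : Sp S) (w : W ⟶ B₀) (b : X ⟶ W), IsAlgSpace W ∧ IsFinitePresentationMor w ∧ b ≫ w = a ≫ π ∧
      ∀ (P : Sp S) (fst : P ⟶ B) (snd : P ⟶ W), IsPullback fst snd π w →
        ∀ k : X ⟶ P, k ≫ fst = a → k ≫ snd = b → RepWith @IsClosedImmersion k := by
  have hXc := isQuasiCompactSp_of_mor hac hB hBc
  have hXs := isQuasiSeparatedSp_of_mor haq hBs
  obtain ⟨Φ⟩ := exists_limit_fp_over (a ≫ π) hX hB₀ hXc hXs hB₀s
  obtain ⟨E, πE, hE, α, t, sq, hsq, hπα, hπt⟩ := Φ.exists_bc π
  have hEa : ∀ i, IsAlgSpace (E.obj i) := fun i => isAlgSpace_of_isPullback hB₀.diag (Φ.alg i) hB (sq i)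
  have hEm : ∀ (i j : Φ.Iᵒᵖ) (u : i ⟶ j), IsAffineMor (E.map u) := fun i j u =>
    isAffineMor_iff.2 (repWith_of_isPullback (hsq u).flip (isAffineMor_iff.1 (Φ.affine i j u)))
  let y : X ⟶ (Cone.mk _ πE).pt := pullback.lift (𝟙 X) a (Category.id_comp _)
  have hy : RepWith @IsClosedImmersion y := by
    haveI : MorphismProperty.ContainsIdentities (@IsClosedImmersion : MorphismProperty Scheme.{u}) :=
      ⟨fun _ => inferInstance⟩
    refine repWith_of_comp_separated (P := @IsClosedImmersion) le_rfl (g := pullback.fst (a ≫ π) π) ?_ ?_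
    · exact isSeparatedMor_of_repWith (repWith_le (fun _ _ k (_ : IsAffineHom k) => inferInstanceAs (IsSeparated k))
        (repWith_of_isPullback (IsPullback.of_hasPullback (a ≫ π) π).flip (isAffineMor_iff.1 hπ)))
    · rw [show y ≫ pullback.fst (a ≫ π) π = 𝟙 X from pullback.lift_fst _ _ _]
      exact repWith_of_isIso _
  obtain ⟨i₁⟩ : Nonempty Φ.Iᵒᵖ := inferInstance
  have hqc : IsQuasiCompactSp (E.obj i₁) :=
    isQuasiCompactSp_of_mor (H12AlgSp.isQuasiCompactMor_of_isPullback (sq i₁) (Φ.fp i₁).2.1) hB hBc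
  obtain ⟨i₀, hi₀⟩ := H12AlgSp.eventually_closedImmersion hEa hEm hE i₁ hqc hX y hy hB (t.app i₁)
    (by rw [hπt, pullback.lift_snd]; exact hal)
  refine ⟨Φ.D.obj i₀, Φ.t.app i₀, Φ.π.app i₀, Φ.alg i₀, Φ.fp i₀, Φ.fac i₀, fun P fst snd sqP k hk₁ hk₂ => ?_⟩
  let e := (sq i₀).flip.isoIsPullback _ _ sqP
  have hk : k = (y ≫ πE.app i₀) ≫ e.hom := by
    apply sqP.hom_ext
    · refine hk₁.trans (Eq.symm ((Category.assoc _ _ _).trans ((congrArg ((y ≫ πE.app i₀) ≫ ·)
        (IsPullback.isoIsPullback_hom_fst _ _ (sq i₀).flip sqP)).trans ?_)))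
      rw [Category.assoc, hπt]
      exact pullback.lift_snd _ _ _
    · refine hk₂.trans (Eq.symm ((Category.assoc _ _ _).trans ((congrArg ((y ≫ πE.app i₀) ≫ ·)
        (IsPullback.isoIsPullback_hom_snd _ _ (sq i₀).flip sqP)).trans ?_)))
      rw [Category.assoc, hπα, ← Category.assoc, pullback.lift_fst, Category.id_comp]
  rw [hk]
  exact MorphismProperty.RespectsIso.postcomp _ _ _ (hi₀ i₀ (𝟙 _))

end Groth.Agent.H12AlgSp.Approx
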