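import Groth.Agent.H12AlgSp.Approx.Eventually
import Groth.Agent.H12AlgSp.SchImageLimit.Main
import Groth.Agent.H12AlgSp.LimitPresSystems
import Groth.Agent.H12AlgSp.LimitPresLfp

/-!
# Morphisms between systems of scheme theoretic images of good diagrams
-/

set_option autoImplicit false
set_option linter.style.haveILetI false
set_option maxHeartbeats 800000
set_option backward.isDefEq.respectTransparency false
universe u

open CategoryTheory CategoryTheory.Limits AlgebraicGeometry Opposite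
open AlgSp Groth.Agent.H13AlgSp

attribute [local instance] CategoryTheory.isConnected_of_hasTerminal

namespace Groth.Agent.H12AlgSp.Approx

variable {S : Scheme.{u}} [QuasiSeparatedSpace S] {I : Type u} [SmallCategory I] [IsCofiltered I] {D : I ⥤ Sp S}

/-- The images in the stages form a system with affine transitions and qcqs members. -/
theorem image_system_props (hD : ∀ i, IsAlgSpace (D.obj i)) (hDa : ∀ (i j : I) (φ : i ⟶ j), IsAffineMor (D.map φ))
    (hqc : ∀ i, IsQuasiCompactSp (D.obj i)) (hqs : ∀ i, IsQuasiSeparatedSp (D.obj i))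
    {i : I} {W : Sp S} {w : W ⟶ D.obj i} (hW : IsAlgSpace W) (hw : IsFinitePresentationMor w)
    {PX : Over i ⥤ Sp S} {π₁ : PX ⟶ Over.forget i ⋙ D} {π₂ : PX ⟶ (Functor.const (Over i)).obj W}
    (hPX : ∀ i' : Over i, IsPullback (π₁.app i') (π₂.app i') (D.map i'.hom) w)
    {DX : Over i ⥤ Sp S} (hDX : ∀ i', IsAlgSpace (DX.obj i')) {ε : DX ⟶ PX}
    (hε : ∀ i', RepWith @IsClosedImmersion (ε.app i')) :
    (∀ (a b : Over i) (φ : a ⟶ b), IsAffineMor (DX.map φ)) ∧ (∀ a, IsQuasiCompactSp (DX.obj a)) ∧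
      ∀ a, IsQuasiSeparatedSp (DX.obj a) := by
  have hP : ∀ a, IsAlgSpace (PX.obj a) := fun a => isAlgSpace_of_isPullback (hD i).diag (hD _) hW (hPX a)
  have hsep : ∀ a, IsSeparatedMor (ε.app a) := fun a => isSeparatedMor_of_repWith
    (repWith_le (fun _ _ k (_ : IsClosedImmersion k) => inferInstanceAs (IsSeparated k)) (hε a))
  have hεa : ∀ a, IsAffineMor (ε.app a) := fun a => isAffineMor_iff.2
    (repWith_le (fun _ _ k (_ : IsClosedImmersion k) => inferInstanceAs (IsAffineHom k)) (hε a))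
  have hsq : ∀ {a b : Over i} (φ : a ⟶ b), IsPullback (PX.map φ) (π₁.app a) (π₁.app b) (D.map φ.left) := by
    intro a b φ
    refine IsPullback.of_right (h₁₂ := π₂.app b) (v₁₃ := w) (h₂₂ := D.map b.hom) ?_ (π₁.naturality φ) (hPX b).flip
    rw [← Functor.map_comp, Over.w, π₂.naturality φ]
    simpa using (hPX a).flip
  refine ⟨fun a b φ => isAffineMor_iff.2 (repWith_of_comp_separated
    (fun _ _ k (_ : IsClosedImmersion k) => inferInstanceAs (IsAffineHom k)) (g := ε.app b) (hsep b) ?_), ?_⟩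
  · rw [ε.naturality φ]
    exact repWith_comp (isAffineMor_iff.1 (hεa a))
      (repWith_of_isPullback (hsq φ).flip (isAffineMor_iff.1 (hDa _ _ φ.left)))
  · have h : ∀ a, IsQuasiCompactSp (DX.obj a) ∧ IsQuasiSeparatedSp (DX.obj a) := fun a =>
      qc_qs_of_isAffineMor (hDX a) (hP a) (hεa a)
        (isQuasiCompactSp_of_mor (H12AlgSp.isQuasiCompactMor_of_isPullback (hPX a).flip hw.2.1) (hD _) (hqc _))
        (isQuasiSeparatedSp_of_mor (NormSp.isQuasiSeparatedMor_of_isPullback (hPX a).flip hw.2.2) (hqs _))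
    exact ⟨fun a => (h a).1, fun a => (h a).2⟩

set_option maxHeartbeats 1600000 in
/-- A morphism over the limit extends to the systems of images, uniquely from some index on. -/
theorem exists_image_hom (hD : ∀ i, IsAlgSpace (D.obj i)) (hDa : ∀ (i j : I) (φ : i ⟶ j), IsAffineMor (D.map φ))
    (hqc : ∀ i, IsQuasiCompactSp (D.obj i)) (hqs : ∀ i, IsQuasiSeparatedSp (D.obj i))
    {c : Cone D} (hc : IsLimit c) {X Y : Sp S} (hX : IsAlgSpace X) {aX : X ⟶ c.pt} {aY : Y ⟶ c.pt} (f : X ⟶ Y)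
    (hf : f ≫ aY = aX)
    {i₁ : I} {W : Sp S} (hW : IsAlgSpace W) {w : W ⟶ D.obj i₁} (hw : IsFinitePresentationMor w) {bX : X ⟶ W}
    (hbX : bX ≫ w = aX ≫ c.π.app i₁)
    (hciX : ∀ (P : Sp S) (fst : P ⟶ c.pt) (snd : P ⟶ W), IsPullback fst snd (c.π.app i₁) w →
      ∀ k : X ⟶ P, k ≫ fst = aX → k ≫ snd = bX → RepWith @IsClosedImmersion k)
    {PX : Over i₁ ⥤ Sp S} {PXπ₁ : PX ⟶ Over.forget i₁ ⋙ D} {PXπ₂ : PX ⟶ (Functor.const (Over i₁)).obj W}
    (hPX : ∀ i' : Over i₁, IsPullback (PXπ₁.app i') (PXπ₂.app i') (D.map i'.hom) w)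
    {DX : Over i₁ ⥤ Sp S} (hDX : ∀ i', IsAlgSpace (DX.obj i')) (εX : DX ⟶ PX)
    (ξX : (Functor.const (Over i₁)).obj X ⟶ DX)
    (hξX : ∀ i' : Over i₁, ξX.app i' ≫ εX.app i' ≫ PXπ₁.app i' = aX ≫ c.π.app i'.left ∧
      ξX.app i' ≫ εX.app i' ≫ PXπ₂.app i' = bX)
    (himgX : ∀ i' : Over i₁, IsSchImage (ξX.app i' ≫ εX.app i') (εX.app i'))
    {i₂ : I} {V : Sp S} (hV : IsAlgSpace V) {v : V ⟶ D.obj i₂} (hv : LocP @LocallyOfFinitePresentation v)
    {bY : Y ⟶ V} (hbY : bY ≫ v = aY ≫ c.π.app i₂)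
    {PY : Over i₂ ⥤ Sp S} {PYπ₁ : PY ⟶ Over.forget i₂ ⋙ D} {PYπ₂ : PY ⟶ (Functor.const (Over i₂)).obj V}
    (hPY : ∀ i' : Over i₂, IsPullback (PYπ₁.app i') (PYπ₂.app i') (D.map i'.hom) v)
    {DY : Over i₂ ⥤ Sp S} (hDY : ∀ i', IsAlgSpace (DY.obj i')) (εY : DY ⟶ PY)
    (ξY : (Functor.const (Over i₂)).obj Y ⟶ DY)
    (hξY : ∀ i' : Over i₂, ξY.app i' ≫ εY.app i' ≫ PYπ₁.app i' = aY ≫ c.π.app i'.left ∧
      ξY.app i' ≫ εY.app i' ≫ PYπ₂.app i' = bY)
    (hεY : ∀ i' : Over i₂, RepWith @IsClosedImmersion (εY.app i')) :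
    ∃ (i₀ : I) (φ₁ : i₀ ⟶ i₁) (φ₂ : i₀ ⟶ i₂) (fam : Over.map φ₁ ⋙ DX ⟶ Over.map φ₂ ⋙ DY),
      (∀ i' : Over i₀, ξX.app ((Over.map φ₁).obj i') ≫ fam.app i' = f ≫ ξY.app ((Over.map φ₂).obj i')) ∧
        (∀ i' : Over i₀, fam.app i' ≫ εY.app ((Over.map φ₂).obj i') ≫ PYπ₁.app ((Over.map φ₂).obj i') =
          εX.app ((Over.map φ₁).obj i') ≫ PXπ₁.app ((Over.map φ₁).obj i')) ∧
      ∀ gam : Over.map φ₁ ⋙ DX ⟶ Over.map φ₂ ⋙ DY,
        (∀ i' : Over i₀, ξX.app ((Over.map φ₁).obj i') ≫ gam.app i' = f ≫ ξY.app ((Over.map φ₂).obj i')) →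
        (∀ i' : Over i₀, gam.app i' ≫ εY.app ((Over.map φ₂).obj i') ≫ PYπ₁.app ((Over.map φ₂).obj i') =
          εX.app ((Over.map φ₁).obj i') ≫ PXπ₁.app ((Over.map φ₁).obj i')) →
        ∃ (j₀ : I) (ψ : j₀ ⟶ i₀), ∀ j : Over j₀, fam.app ((Over.map ψ).obj j) = gam.app ((Over.map ψ).obj j) := by
  obtain ⟨hXa, hXc, hXs⟩ := image_system_props hD hDa hqc hqs hW hw hPX hDX (fun i' => (himgX i').1)
  obtain ⟨hlim⟩ := SchImageLimit.main (a := aX) hD hDa hqc hc hW hw.2.1 hbX hciX hPX DX hDX εX ξX hξX himgX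
  have hrel : RelLP v.hom := relLP_of_locP_lfp hV (hD _) hv
  have hcπ : ∀ {a b : I} (φ : a ⟶ b), c.π.app a ≫ D.map φ = c.π.app b := fun φ => c.w φ
  let k₀ : Over i₁ := Over.mk (IsCofiltered.minToLeft i₁ i₂)
  obtain ⟨j, φ, g, hg₁, hg₂⟩ := exists_lift_stage_of_relLP (c := Cone.mk X ξX) hrel hDX hXa hlim hXc hXs k₀
    (f ≫ bY) (εX.app k₀ ≫ PXπ₁.app k₀ ≫ D.map (IsCofiltered.minToRight i₁ i₂)) (by
      rw [Category.assoc, hbY, reassoc_of% hf, ← hcπ (IsCofiltered.minToRight i₁ i₂), ← Category.assoc aX]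
      rw [show aX ≫ c.π.app (IsCofiltered.min i₁ i₂) = ξX.app k₀ ≫ εX.app k₀ ≫ PXπ₁.app k₀ from (hξX k₀).1.symm]
      simp only [Category.assoc])
  let φ₁ : j.left ⟶ i₁ := j.hom
  let φ₂ : j.left ⟶ i₂ := φ.left ≫ IsCofiltered.minToRight i₁ i₂
  let A : Over j.left → Over i₁ := fun i' => (Over.map φ₁).obj i'
  let B : Over j.left → Over i₂ := fun i' => (Over.map φ₂).obj i'
  let u : ∀ i' : Over j.left, A i' ⟶ j := fun i' => Over.homMk i'.hom rfl
  have hnatX : ∀ {a b : Over i₁} (m : a ⟶ b),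
      DX.map m ≫ εX.app b ≫ PXπ₁.app b = εX.app a ≫ PXπ₁.app a ≫ D.map m.left := fun {a b} m => by
    rw [← Category.assoc, εX.naturality m, Category.assoc]
    exact congrArg (εX.app a ≫ ·) (PXπ₁.naturality m)
  have hh : ∀ i', (εX.app (A i') ≫ PXπ₁.app (A i')) ≫ D.map (B i').hom = (DX.map (u i') ≫ g) ≫ v := fun i' => by
    rw [Category.assoc (DX.map (u i')), hg₁, ← Category.assoc, ← Functor.map_comp]
    have e := hnatX (u i' ≫ φ)
    rw [← Category.assoc, ← Category.assoc] at e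
    simp only [← Category.assoc] at e ⊢
    rw [e, Category.assoc _ (D.map _), ← Functor.map_comp]
    congr 2
    simp [B, φ₂, u]
  let h : ∀ i', DX.obj (A i') ⟶ PY.obj (B i') := fun i' => (hPY (B i')).lift _ _ (hh i')
  have hh₁ : ∀ i', h i' ≫ PYπ₁.app (B i') = εX.app (A i') ≫ PXπ₁.app (A i') := fun i' => (hPY _).lift_fst _ _ _
  have hh₂ : ∀ i', h i' ≫ PYπ₂.app (B i') = DX.map (u i') ≫ g := fun i' => (hPY _).lift_snd _ _ _
  have hξh : ∀ i', ξX.app (A i') ≫ h i' = (f ≫ ξY.app (B i')) ≫ εY.app (B i') := fun i' => by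
    refine (hPY (B i')).hom_ext ?_ ?_
    · rw [Category.assoc, hh₁, Category.assoc f, Category.assoc f, (hξX (A i')).1, Category.assoc (ξY.app (B i')),
        (hξY (B i')).1, reassoc_of% hf]
      rfl
    · rw [Category.assoc, hh₂, Category.assoc f, Category.assoc f, Category.assoc (ξY.app (B i')), (hξY (B i')).2,
        ← Category.assoc]
      exact (congrArg (· ≫ g) ((ξX.naturality (u i')).symm.trans (Category.id_comp _))).trans hg₂
  have hmono : ∀ i', Mono (εY.app i') := fun i' => mono_of_closedImmersion (hεY i')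
  have key : ∀ i', ∃ fm : DX.obj (A i') ⟶ DY.obj (B i'), fm ≫ εY.app (B i') = h i' := fun i' => by
    haveI := mono_of_closedImmersion (himgX (A i')).1
    have hcl : RepWith @IsClosedImmersion (pullback.snd (εY.app (B i')) (h i') ≫ εX.app (A i')) :=
      repWith_comp (repWith_of_isPullback (IsPullback.of_hasPullback _ _) (hεY _)) (himgX (A i')).1
    obtain ⟨k, hk⟩ := (himgX (A i')).2.2 _
      (isAlgSpace_pullback (isAlgSpace_of_isPullback (hD i₂).diag (hD _) hV (hPY (B i'))).diag (hDY _) (hDX _) _ _) hcl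
      ⟨pullback.lift (f ≫ ξY.app (B i')) (ξX.app (A i')) (hξh i').symm,
        by rw [pullback.lift_snd_assoc]⟩
    have hk' : k ≫ pullback.snd (εY.app (B i')) (h i') = 𝟙 _ :=
      (cancel_mono (εX.app (A i'))).1 (by rw [Category.assoc, hk, Category.id_comp])
    exact ⟨k ≫ pullback.fst _ _, by rw [Category.assoc, pullback.condition, reassoc_of% hk']⟩
  choose fm hfm using key
  have hnat : ∀ {a b : Over j.left} (m : a ⟶ b),
      DX.map ((Over.map φ₁).map m) ≫ h b = h a ≫ PY.map ((Over.map φ₂).map m) := fun {a b} m => by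
    refine (hPY (B b)).hom_ext ?_ ?_
    · rw [Category.assoc, hh₁, hnatX, Category.assoc, PYπ₁.naturality, ← Category.assoc (h a), hh₁,
        Category.assoc]
      rfl
    · rw [Category.assoc, hh₂, Category.assoc, PYπ₂.naturality, ← Category.assoc, ← Functor.map_comp]
      rw [← Category.assoc (h a), hh₂]
      refine Eq.trans ?_ (Category.comp_id _).symm
      congr 2
      ext
      simp [u]
  let fam : Over.map φ₁ ⋙ DX ⟶ Over.map φ₂ ⋙ DY :=
    { app := fm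
      naturality := fun a b m => (hmono (B b)).right_cancellation _ _ (by
        change (DX.map ((Over.map φ₁).map m) ≫ fm b) ≫ εY.app (B b) =
          (fm a ≫ DY.map ((Over.map φ₂).map m)) ≫ εY.app (B b)
        rw [Category.assoc, hfm, Category.assoc, εY.naturality, reassoc_of% (hfm a), hnat]) }
  have hfam₁ : ∀ i', ξX.app (A i') ≫ fm i' = f ≫ ξY.app (B i') := fun i' =>
    (hmono (B i')).right_cancellation _ _ (by rw [Category.assoc, hfm, hξh])
  have hfam₂ : ∀ i', fm i' ≫ εY.app (B i') ≫ PYπ₁.app (B i') = εX.app (A i') ≫ PXπ₁.app (A i') :=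
    fun i' => by rw [reassoc_of% (hfm i'), hh₁]
  refine ⟨j.left, φ₁, φ₂, fam, hfam₁, hfam₂, fun gam hgam₁ hgam₂ => ?_⟩
  let o : Over j.left := Over.mk (𝟙 _)
  obtain ⟨j', φ', heq⟩ := exists_eq_stage_of_relLP (c := Cone.mk X ξX) hrel hDX hXa hlim (A o) (hXc _)
    (fam.app o ≫ εY.app (B o) ≫ PYπ₂.app (B o)) (gam.app o ≫ εY.app (B o) ≫ PYπ₂.app (B o)) (by
      have h2 : fam.app o ≫ εY.app (B o) ≫ PYπ₁.app (B o) = gam.app o ≫ εY.app (B o) ≫ PYπ₁.app (B o) :=
        (hfam₂ o).trans (hgam₂ o).symm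
      simp only [Category.assoc, ← (hPY (B o)).w]
      simp only [← Category.assoc] at h2 ⊢
      rw [h2]) (by
      rw [← Category.assoc (ξX.app (A o)), ← Category.assoc (ξX.app (A o))]
      exact congrArg (· ≫ _) ((hfam₁ o).trans (hgam₁ o).symm))
  refine ⟨j'.left, φ'.left, fun l => ?_⟩
  let L : Over j.left := (Over.map φ'.left).obj l
  let m : L ⟶ o := Over.homMk L.hom (Category.comp_id _)
  let r : A L ⟶ j' := Over.homMk l.hom (by
    change l.hom ≫ j'.hom = (l.hom ≫ φ'.left) ≫ j.hom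
    rw [Category.assoc, ← Over.w φ']
    congr 1
    simp [A, o, φ₁])
  have hr : (Over.map φ₁).map m = r ≫ φ' := by
    ext
    rfl
  refine (hmono (B L)).right_cancellation _ _ ((hPY (B L)).hom_ext ?_ ?_)
  · rw [Category.assoc, Category.assoc]
    exact (hfam₂ L).trans (hgam₂ L).symm
  · have e : ∀ t : Over.map φ₁ ⋙ DX ⟶ Over.map φ₂ ⋙ DY,
        (t.app L ≫ εY.app (B L)) ≫ PYπ₂.app (B L) =
          DX.map r ≫ DX.map φ' ≫ t.app o ≫ εY.app (B o) ≫ PYπ₂.app (B o) := fun t => by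
      have hn : DX.map ((Over.map φ₁).map m) ≫ t.app o = t.app L ≫ DY.map ((Over.map φ₂).map m) := t.naturality m
      rw [← reassoc_of% (DX.map_comp r φ'), ← hr, reassoc_of% hn, reassoc_of% (εY.naturality ((Over.map φ₂).map m)),
        Category.assoc]
      refine congrArg (fun q => t.app L ≫ εY.app (B L) ≫ q) ?_
      exact ((PYπ₂.naturality ((Over.map φ₂).map m)).trans (Category.comp_id _)).symm
    rw [e, e]
    exact congrArg (DX.map r ≫ ·) heq

end Groth.Agent.H12AlgSp.Approx
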