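import Groth.Agent.H12AlgSp.Approx.IntegralLimit
import Groth.Agent.H12AlgSp.Approx.GoodDiagram
import Groth.Agent.H12AlgSp.LimitClosedIso
import Groth.Agent.H12AlgSp.SchImage

/-!
# Approximation of integral morphisms, unchanged over an open where they are finite and finitely presented
-/

set_option autoImplicit false
set_option linter.style.haveILetI false
set_option maxHeartbeats 800000
set_option backward.isDefEq.respectTransparency false
universe u

open CategoryTheory CategoryTheory.Limits AlgebraicGeometry Opposite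
open AlgSp Groth.Agent.H13AlgSp

namespace Groth.Agent.H12AlgSp.Approx

variable {S : Scheme.{u}} {X Y : Sp S} {f : X ⟶ Y}

/-- The tail of an approximation, keeping a property of the stages with their maps. -/
theorem SysOver.exists_tail_pred (Φ : SysOver f) (P : ∀ Z : Sp S, (X ⟶ Z) → (Z ⟶ Y) → Prop) (i₀ : Φ.Iᵒᵖ)
    (h : ∀ i, (i ⟶ i₀) → P (Φ.D.obj i) (Φ.π.app i) (Φ.t.app i)) :
    ∃ Ψ : SysOver f, ∀ j, P (Ψ.D.obj j) (Ψ.π.app j) (Ψ.t.app j) := by
  let T := {l : Φ.I // i₀.unop ≤ l}
  haveI : Nonempty T := ⟨⟨i₀.unop, le_rfl⟩⟩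
  haveI : IsDirected T (fun a b => a ≤ b) := ⟨fun a b => by
    obtain ⟨l, ha, hb⟩ := Φ.directed.directed a.1 b.1
    exact ⟨⟨l, a.2.trans ha⟩, ha, hb⟩⟩
  let ι : T →o Φ.I := ⟨fun a => a.1, fun a b h => h⟩
  haveI : IsDirectedOrder T := ⟨fun a b => directed_of (fun a b : T => a ≤ b) a b⟩
  haveI : Functor.Final ι.monotone.functor := ι.monotone.final_functor_iff.2 fun l => by
    obtain ⟨m, hm₁, hm₂⟩ := Φ.directed.directed i₀.unop l
    exact ⟨⟨m, hm₁⟩, hm₂⟩
  let β : Tᵒᵖ ⥤ Φ.Iᵒᵖ := ι.monotone.functor.op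
  exact ⟨{
    I := T
    D := β ⋙ Φ.D
    t := Functor.whiskerLeft β Φ.t
    π := Functor.whiskerLeft β Φ.π
    isLimit := (Functor.Initial.isLimitWhiskerEquiv β (Cone.mk X Φ.π)).symm Φ.isLimit
    alg := fun _ => Φ.alg _
    affine := fun _ _ _ => Φ.affine _ _ _
    fp := fun _ => Φ.fp _
    qc := fun _ => Φ.qc _
    qs := fun _ => Φ.qs _
    fac := fun _ => Φ.fac _ }, fun j => h (op j.unop.1) (homOfLE j.unop.2).op⟩

/-- An integral morphism, finite and finitely presented over a quasi-compact open, is the limit of finite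
morphisms of finite presentation with the same restriction to the open. -/
theorem exists_limit_finite_iso_over_open [QuasiSeparatedSpace S] (hX : IsAlgSpace X) (hY : IsAlgSpace Y)
    (hf : IsIntegralMor f) (hYc : IsQuasiCompactSp Y) (hYs : IsQuasiSeparatedSp Y)
    {V : Sp S} (hV : IsAlgSpace V) {j : V ⟶ Y} (hj : RepWith @IsOpenImmersion j) (hVc : IsQuasiCompactSp V)
    {PV : Sp S} {pv₁ : PV ⟶ X} {pv₂ : PV ⟶ V} (hPV : IsPullback pv₁ pv₂ f j)
    (hfp : IsFinitePresentationMor pv₂) :
    ∃ Ψ : SysOver f, ∀ i, IsFiniteMor (Ψ.t.app i) ∧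
      IsPullback (pv₁ ≫ Ψ.π.app i) pv₂ (Ψ.t.app i) j := by
  have hVs : IsQuasiSeparatedSp V := isQuasiSeparatedSp_of_mor (isQuasiSeparatedMor_of_isSeparatedMor
    (isSeparatedMor_of_repWith (repWith_le (fun _ _ k (_ : IsOpenImmersion k) => inferInstanceAs (IsSeparated k)) hj))) hYs
  have hjflat : LocP @Flat j := locP_of_repWith etLocal_flat
    (repWith_le (fun _ _ k (_ : IsOpenImmersion k) => inferInstanceAs (Flat k)) hj)
  obtain ⟨Φ₀, hΦ₀⟩ := exists_sysOver_affine hX hY (isIntegralMor_iff_affine_univClosed.1 hf).1 hYc hYs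
  obtain ⟨E, πE, hE, α, t, sq, hsq, hπα, hπt⟩ := Φ₀.exists_bc j
  have hEa : ∀ i, IsAlgSpace (E.obj i) := fun i => isAlgSpace_of_isPullback hY.diag (Φ₀.alg i) hV (sq i)
  have hEm : ∀ (i k : Φ₀.Iᵒᵖ) (u : i ⟶ k), IsAffineMor (E.map u) := fun i k u =>
    isAffineMor_iff.2 (repWith_of_isPullback (hsq u).flip (isAffineMor_iff.1 (Φ₀.affine i k u)))
  let e : PV ≅ pullback f j := hPV.isoPullback
  have hPa : IsAlgSpace (pullback f j) := isAlgSpace_pullback hY.diag hX hV _ _
  have hlfp : LocP @LocallyOfFinitePresentation (pullback.snd f j) := by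
    rw [show pullback.snd f j = e.inv ≫ pv₂ from (hPV.isoPullback_inv_snd).symm]
    exact locP_comp etLocal_lfp hPa (isAlgSpace_of_isPullback hY.diag hX hV hPV) hV
      (locP_of_repWith etLocal_lfp (repWith_of_isIso _)) hfp.1
  obtain ⟨i₁⟩ : Nonempty Φ₀.Iᵒᵖ := inferInstance
  haveI : MorphismProperty.ContainsIdentities (@IsClosedImmersion : MorphismProperty Scheme.{u}) :=
    ⟨fun _ => inferInstance⟩
  obtain ⟨i₀, hi₀⟩ := H12AlgSp.eventually_closedImmersion hEa hEm hE i₁
    (isQuasiCompactSp_of_mor (H12AlgSp.isQuasiCompactMor_of_isPullback (sq i₁) (Φ₀.fp i₁).2.1) hV hVc)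
    hPa (𝟙 (Cone.mk (pullback f j) πE).pt) (repWith_of_isIso _) hV (t.app i₁) (by
      rw [Category.id_comp, hπt]
      exact fun U W a b k ha hb w => haveI := hlfp a b k ha hb w; inferInstance)
  obtain ⟨Φ, hΦp⟩ := Φ₀.exists_tail_pred (fun Z x s => IsAffineMor s ∧
    ∀ (Q : Sp S) (q₁ : Q ⟶ Z) (q₂ : Q ⟶ V), IsPullback q₁ q₂ s j →
      ∀ k : pullback f j ⟶ Q, k ≫ q₁ = pullback.fst f j ≫ x → k ≫ q₂ = pullback.snd f j →
        RepWith @IsClosedImmersion k) i₀ (fun i u => ⟨hΦ₀ i, fun Q q₁ q₂ sqQ k h₁ h₂ => by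
      let ε := (sq i).isoIsPullback _ _ sqQ
      have hk : k = πE.app i ≫ ε.hom := by
        apply sqQ.hom_ext
        · rw [h₁, Category.assoc, IsPullback.isoIsPullback_hom_fst]
          exact (hπα i).symm
        · rw [h₂, Category.assoc]
          exact ((congrArg (πE.app i ≫ ·) (IsPullback.isoIsPullback_hom_snd _ _ (sq i) sqQ)).trans (hπt i)).symm
      rw [hk]
      have := hi₀ i u
      rw [Category.id_comp] at this
      exact MorphismProperty.RespectsIso.postcomp _ _ _ this⟩)
  have hΦ : ∀ i, IsAffineMor (Φ.t.app i) := fun i => (hΦp i).1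
  have hlft : ∀ i, LocP @LocallyOfFiniteType (Φ.t.app i) := fun i U V a b k ha hb w =>
    haveI := (Φ.fp i).1 a b k ha hb w
    inferInstance
  choose L hL₁ hL₂ hL₃ W w c hc z l₀ himg hcw hWa hWm hw hfin using fun i : Φ.I =>
    exists_finite_ftLimit hX (Φ.alg (op i)) hY hYc hYs (Φ.π.app (op i)) (Φ.t.app (op i)) (hΦ _) (hlft _)
      (by rw [Φ.fac]; exact hf)
  letI := hL₁
  haveI := hL₂
  haveI := hL₃
  choose x hx using fun i => (himg i).2.1
  have hXc := (qc_qs_of_isAffineMor hX hY (isIntegralMor_iff_affine_univClosed.1 hf).1 hYc hYs).1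
  -- over the open the stages stabilise
  have key : ∀ i : Φ.I, ∃ l₁ : (L i)ᵒᵖ, ∀ l, (l ⟶ l₁) →
      IsPullback (pv₁ ≫ x i ≫ (c i).π.app l) pv₂ ((w i).app l ≫ Φ.t.app (op i)) j := by
    intro i
    let Q := pullback (Φ.t.app (op i)) j
    have hQ : IsAlgSpace Q := isAlgSpace_pullback hY.diag (Φ.alg _) hV _ _
    let F : (L i)ᵒᵖ ⥤ Sp S :=
      { obj := fun l => pullback ((w i).app l) (pullback.fst (Φ.t.app (op i)) j)
        map := fun {l m} u => pullback.map _ _ _ _ ((W i).map u) (𝟙 Q) (𝟙 _)
          (by simp) (by rw [Category.comp_id, Category.id_comp])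
        map_id := fun l => by apply pullback.hom_ext <;> simp <;> exact Category.comp_id _
        map_comp := fun u v => by
          apply pullback.hom_ext <;> simp
          all_goals exact ((congrArg (_ ≫ ·) (Category.id_comp _)).trans rfl).symm }
    let β : F ⟶ W i :=
      { app := fun l => pullback.fst _ _
        naturality := fun l m u => pullback.lift_fst _ _ _ }
    have hFsq : ∀ l, IsPullback (β.app l) (pullback.snd _ _) ((w i).app l) (pullback.fst (Φ.t.app (op i)) j) :=
      fun l => IsPullback.of_hasPullback _ _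
    have hFm : ∀ {l m : (L i)ᵒᵖ} (u : l ⟶ m), IsPullback (F.map u) (β.app l) (β.app m) ((W i).map u) :=
      fun {l m} u => by
        refine IsPullback.of_right (h₁₂ := pullback.snd _ _) (v₁₃ := pullback.fst (Φ.t.app (op i)) j)
          (h₂₂ := (w i).app m) ?_ (β.naturality u) (hFsq m).flip
        rw [(w i).naturality u, show ((Functor.const (L i)ᵒᵖ).obj (Φ.D.obj (op i))).map u = 𝟙 _ from rfl,
          Category.comp_id, show F.map u ≫ pullback.snd _ _ = pullback.snd ((w i).app l) _ from
            (pullback.lift_snd _ _ _).trans (Category.comp_id _)]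
        convert (hFsq l).flip using 1
    -- the image over the open is the restricted morphism itself
    let Z := pullback (z i) (pullback.fst (Φ.t.app (op i)) j)
    have hZa : IsAlgSpace (c i).pt :=
      (isAlgSpace_limit_and_affine (fun l m u => isAffineMor_iff.2 (repWith_le
        (fun _ _ k (_ : IsClosedImmersion k) => inferInstanceAs (IsAffineHom k)) (hWm i l m u))) (hc i) (hWa i)).1
    let xV : pullback f j ⟶ Q := pullback.lift (pullback.fst f j ≫ Φ.π.app (op i)) (pullback.snd f j) (by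
      rw [Category.assoc, Φ.fac]
      exact pullback.condition)
    have hxV : RepWith @IsClosedImmersion xV :=
      (hΦp (op i)).2 Q _ _ (IsPullback.of_hasPullback _ _) xV (pullback.lift_fst _ _ _) (pullback.lift_snd _ _ _)
    have sqX : IsPullback (pullback.fst f j) xV (Φ.π.app (op i)) (pullback.fst (Φ.t.app (op i)) j) := by
      refine IsPullback.flip (IsPullback.of_right (h₁₂ := pullback.snd (Φ.t.app (op i)) j) (v₁₃ := j)
        (h₂₂ := Φ.t.app (op i)) ?_ (pullback.lift_fst _ _ _) (IsPullback.of_hasPullback _ _).flip)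
      rw [Φ.fac, show xV ≫ pullback.snd (Φ.t.app (op i)) j = pullback.snd f j from pullback.lift_snd _ _ _]
      exact (IsPullback.of_hasPullback f j).flip
    have hZimg : IsSchImage xV (pullback.snd (z i) (pullback.fst (Φ.t.app (op i)) j)) :=
      isSchImage_flat_baseChange hX (Φ.alg _) hQ (isQuasiCompactMor_of_qc_qs hX (Φ.alg _) _ hXc (Φ.qs _)) hZa
        (himg i) (locP_of_isPullback etLocal_flat (IsPullback.of_hasPullback (Φ.t.app (op i)) j).flip hV hY
          (Φ.alg _) hjflat) sqX (IsPullback.of_hasPullback _ _)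
    obtain ⟨k, hk⟩ := hZimg.2.2 xV hPa hxV ⟨𝟙 _, Category.id_comp _⟩
    let x' : pullback f j ⟶ Z := pullback.lift (pullback.fst f j ≫ x i) xV (by
      rw [Category.assoc, hx]
      exact sqX.w)
    haveI := mono_of_closedImmersion hZimg.1
    haveI := mono_of_closedImmersion hxV
    have hxk : x' ≫ k = 𝟙 _ := (cancel_mono xV).1 (by
      rw [Category.assoc, hk, pullback.lift_snd, Category.id_comp])
    have hkx : k ≫ x' = 𝟙 _ := (cancel_mono (pullback.snd (z i) (pullback.fst (Φ.t.app (op i)) j))).1 (by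
      rw [Category.assoc, pullback.lift_snd, hk, Category.id_comp])
    let cF : Cone F :=
      { pt := pullback f j
        π := { app := fun l => pullback.lift (pullback.fst f j ≫ x i ≫ (c i).π.app l) xV (by
                 rw [Category.assoc, Category.assoc, hcw, hx]
                 exact sqX.w)
               naturality := fun l m u => by
                 refine (Category.id_comp _).trans (pullback.hom_ext ?_ ?_)
                 · simp [F, (c i).w u]
                 · simp [F]; exact (Category.comp_id _).symm } }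
    have hcF : ∀ l, IsPullback (cF.π.app l) (pullback.fst f j ≫ x i) (β.app l) ((c i).π.app l) := fun l => by
      refine IsPullback.of_right (h₁₂ := pullback.snd _ _) (v₁₃ := pullback.fst (Φ.t.app (op i)) j)
        (h₂₂ := (w i).app l) ?_ (by simp [cF, β]) (hFsq l).flip
      rw [hcw, show cF.π.app l ≫ pullback.snd _ _ = xV from pullback.lift_snd _ _ _]
      exact IsPullback.of_iso (IsPullback.of_hasPullback (z i) (pullback.fst (Φ.t.app (op i)) j)).flip
        (⟨k, x', hkx, hxk⟩ : Z ≅ pullback f j) (Iso.refl _) (Iso.refl _) (Iso.refl _)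
        (by simpa using hk.symm)
        (by
          rw [Iso.refl_hom, Category.comp_id]
          show _ = k ≫ pullback.fst f j ≫ x i
          rw [← show x' ≫ pullback.fst _ _ = pullback.fst f j ≫ x i from pullback.lift_fst _ _ _, ← Category.assoc, hkx,
            Category.id_comp]) (by simp) (by simp)
    haveI : IsDirectedOrder (L i) := ⟨fun a b => directed_of (fun a b : L i => a ≤ b) a b⟩
    haveI : CategoryTheory.IsConnected (L i)ᵒᵖ :=
      haveI := IsFiltered.isConnected (L i)
      isConnected_op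
    have hlim : IsLimit cF := isLimitOfIsPullbackOfIsConnected β cF (c i)
      { hom := pullback.fst f j ≫ x i, w := fun l => (hcF l).w.symm } hcF (hc i)
    have hFa : ∀ l, IsAlgSpace (F.obj l) := fun l => isAlgSpace_pullback (Φ.alg _).diag (hWa i l) hQ _ _
    have hsnd : ∀ l, RepWith @IsClosedImmersion (pullback.snd ((w i).app l) (pullback.fst (Φ.t.app (op i)) j)) :=
      fun l => repWith_of_isPullback (hFsq l) (hw i l).1
    have hQc : IsQuasiCompactSp Q := isQuasiCompactSp_of_mor
      (H12AlgSp.isQuasiCompactMor_of_isPullback (IsPullback.of_hasPullback (Φ.t.app (op i)) j) (Φ.fp _).2.1) hV hVc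
    have hQs : IsQuasiSeparatedSp Q := isQuasiSeparatedSp_of_mor
      (NormSp.isQuasiSeparatedMor_of_isPullback (IsPullback.of_hasPullback (Φ.t.app (op i)) j) (Φ.fp _).2.2) hVs
    obtain ⟨l₁, hl₁⟩ := eventually_isIso_π hFa (fun l m u => repWith_of_isPullback (hFm u).flip (hWm i l m u)) hlim
      (i₁ := l₀ i) (qc_qs_of_isAffineMor (hFa _) hQ (isAffineMor_iff.2 (repWith_le
        (fun _ _ k (_ : IsClosedImmersion k) => inferInstanceAs (IsAffineHom k)) (hsnd _))) hQc hQs).1
      hV (pullback.snd _ _ ≫ pullback.snd (Φ.t.app (op i)) j)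
      (locP_comp etLocal_lft (hFa _) hQ hV (locP_of_repWith etLocal_lft
        (repWith_le (fun _ _ k (_ : IsClosedImmersion k) => inferInstanceAs (LocallyOfFiniteType k)) (hsnd _)))
        (locP_of_isPullback etLocal_lft (IsPullback.of_hasPullback (Φ.t.app (op i)) j) (Φ.alg _) hY hV (hlft _)))
      (by
        rw [pullback.lift_snd_assoc, show xV ≫ pullback.snd (Φ.t.app (op i)) j = pullback.snd f j from
          pullback.lift_snd _ _ _]
        exact hlfp)
    refine ⟨l₁, fun l u => ?_⟩
    haveI := hl₁ l u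
    refine IsPullback.of_iso (((hFsq l)).paste_vert (IsPullback.of_hasPullback (Φ.t.app (op i)) j))
      (e ≪≫ asIso (cF.π.app l)).symm (Iso.refl _) (Iso.refl _) (Iso.refl _) ?_ ?_ (by simp) (by simp)
    · rw [Iso.refl_hom, Category.comp_id, Iso.symm_hom, Iso.eq_inv_comp]
      simp only [Iso.trans_hom, asIso_hom, Category.assoc, cF, β, pullback.lift_fst]
      rw [← Category.assoc, hPV.isoPullback_hom_fst]
    · rw [Iso.refl_hom, Category.comp_id, Iso.symm_hom, Iso.eq_inv_comp]
      simp only [Iso.trans_hom, asIso_hom, Category.assoc, cF, pullback.lift_snd_assoc, xV, pullback.lift_snd]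
      exact hPV.isoPullback_hom_snd
  choose l₁ hl₁ using key
  have hm : ∀ i, ∃ m : (L i)ᵒᵖ, Nonempty (m ⟶ l₀ i) ∧ Nonempty (m ⟶ l₁ i) := fun i => by
    obtain ⟨m, h₀, h₁⟩ := directed_of (fun a b : L i => a ≤ b) (l₀ i).unop (l₁ i).unop
    exact ⟨op m, ⟨(homOfLE h₀).op⟩, ⟨(homOfLE h₁).op⟩⟩
  choose m hm₀ hm₁ using hm
  let F : FinData Φ :=
    { L := L, W := W, w := w, c := c, isLimit := hc, z := z
      l₀ := m, image := himg, c_w := hcw, alg := hWa, closed_map := hWm, closed := hw
      finite := fun i l u => hfin i l (u ≫ (hm₀ i).some) }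
  exact F.exists_sys hΦ hY hYc hYs (fun Z y s => IsPullback (pv₁ ≫ y) pv₂ s j) fun p => by
    have hchoice : (F.image p.i).2.1.choose = x p.i := by
      haveI := mono_of_closedImmersion (himg p.i).1
      exact (cancel_mono (z p.i)).1 ((F.image p.i).2.1.choose_spec.trans (hx p.i).symm)
    rw [FinIdx.proj, hchoice]
    exact hl₁ p.i (op p.l) ((homOfLE p.le_l).op ≫ (hm₁ p.i).some)

end Groth.Agent.H12AlgSp.Approx
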