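import Groth.Agent.H12AlgSp.Approx.Pairs
import Groth.Agent.H12AlgSp.Proper
import Groth.Agent.H12AlgSp.FinPres
import Groth.Agent.H12AlgSp.NormSp.Atlas

/-!
# Approximation relative to a quasi-compact and quasi-separated space
-/

set_option autoImplicit false
set_option linter.style.haveILetI false
set_option maxHeartbeats 800000
set_option backward.isDefEq.respectTransparency false
universe u

open CategoryTheory CategoryTheory.Limits AlgebraicGeometry Opposite
open AlgSp Groth.Agent.H13AlgSp

namespace Groth.Agent.H12AlgSp.Approx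

variable {S : Scheme.{u}}

/-- A morphism out of a quasi-separated space is quasi-separated. -/
theorem isQuasiSeparatedMor_of_isQuasiSeparatedSp {X Y : Sp S} (f : X ⟶ Y) (h : IsQuasiSeparatedSp X) :
    IsQuasiSeparatedMor f := by
  let m : pullback f f ⟶ X ⨯ X := prod.lift (pullback.fst f f) (pullback.snd f f)
  have : Mono m := ⟨fun a b e => by
    apply pullback.hom_ext
    · have h := congrArg (fun t => t ≫ (prod.fst : X ⨯ X ⟶ X)) e
      simpa only [m, Category.assoc, prod.lift_fst] using h
    · have h := congrArg (fun t => t ≫ (prod.snd : X ⨯ X ⟶ X)) e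
      simpa only [m, Category.assoc, prod.lift_snd] using h⟩
  have hm : pullback.diagonal f ≫ m = Limits.diag X := by
    apply Limits.prod.hom_ext <;> simp [m]
  refine repWith_of_isPullback (fst := 𝟙 X) (g := m) ?_ h
  refine ⟨⟨by rw [Category.id_comp, hm]⟩, ⟨PullbackCone.IsLimit.mk _ (fun c => c.fst) (fun c => by simp)
    (fun c => ?_) (fun c r h₁ h₂ => by simpa using h₁)⟩⟩
  rw [← cancel_mono m, Category.assoc, hm]
  exact c.condition

/-- An approximation of a morphism by morphisms of finite presentation with affine transition maps. -/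
structure SysOver {X Y : Sp S} (f : X ⟶ Y) where
  /-- The index set. -/
  I : Type u
  [preorder : Preorder I]
  [directed : IsDirected I (fun a b => a ≤ b)]
  [nonempty : Nonempty I]
  /-- The system. -/
  D : Iᵒᵖ ⥤ Sp S
  /-- The structure maps. -/
  t : D ⟶ (Functor.const Iᵒᵖ).obj Y
  /-- The projections. -/
  π : (Functor.const Iᵒᵖ).obj X ⟶ D
  isLimit : IsLimit (Cone.mk X π)
  alg : ∀ i, IsAlgSpace (D.obj i)
  affine : ∀ (i j : Iᵒᵖ) (φ : i ⟶ j), IsAffineMor (D.map φ)
  fp : ∀ i, IsFinitePresentationMor (t.app i)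
  qc : ∀ i, IsQuasiCompactSp (D.obj i)
  qs : ∀ i, IsQuasiSeparatedSp (D.obj i)
  fac : ∀ i, π.app i ≫ t.app i = f

attribute [instance] SysOver.preorder SysOver.directed SysOver.nonempty

/-- Relative approximation over a terminal base. -/
theorem exists_sysOver (hS : IsTerminal S) {X Y : Sp S} (f : X ⟶ Y) (hX : IsAlgSpace X) (hY : IsAlgSpace Y)
    (hXc : IsQuasiCompactSp X) (hXs : IsQuasiSeparatedSp X) (hYc : IsQuasiCompactSp Y)
    (hYs : IsQuasiSeparatedSp Y) : Nonempty (SysOver f) := by
  obtain ⟨hSa, -⟩ := isNoetherian_of_isTerminal hS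
  haveI : QuasiSeparatedSpace S := inferInstance
  obtain ⟨σ⟩ := exists_sys hS hX hXc hXs
  obtain ⟨τ⟩ := exists_sys hS hY hYc hYs
  obtain ⟨P⟩ := exists_sysHom σ τ f
  haveI : CategoryTheory.IsConnected P.Jᵒᵖ :=
    haveI := IsFiltered.isConnected P.J
    isConnected_op
  let φ := P.φ
  let t : ∀ p, pullback (φ.app p) (P.cY.π.app p) ⟶ Y := fun p => pullback.snd _ _
  let D : P.Jᵒᵖ ⥤ Sp S :=
    { obj := fun p => pullback (φ.app p) (P.cY.π.app p)
      map := fun {p q} u => pullback.map _ _ _ _ (P.DX.map u) (𝟙 Y) (P.DY.map u) (φ.naturality u).symm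
        ((P.cY.w u).trans (Category.id_comp _).symm)
      map_id := fun p => by apply pullback.hom_ext <;> simp
      map_comp := fun u v => by apply pullback.hom_ext <;> simp }
  let tn : D ⟶ (Functor.const P.Jᵒᵖ).obj Y :=
    { app := t
      naturality := fun p q u => by simp [D, t] }
  let π : (Functor.const P.Jᵒᵖ).obj X ⟶ D :=
    { app := fun p => pullback.lift (P.cX.π.app p) f (P.comm p.unop)
      naturality := fun p q u => by
        refine (Category.id_comp _).trans (pullback.hom_ext ?_ ?_)
        · rw [Category.assoc, pullback.lift_fst, pullback.lift_fst, ← Category.assoc, pullback.lift_fst]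
          exact (P.cX.w u).symm
        · rw [Category.assoc, pullback.lift_snd, pullback.lift_snd, ← Category.assoc, pullback.lift_snd]
          exact (Category.comp_id _).symm }
  have halg : ∀ p, IsAlgSpace (D.obj p) := fun p => isAlgSpace_pullback (τ.alg _).diag (σ.alg _) hY _ _
  have hπY : ∀ p, IsAffineMor (P.cY.π.app p) := fun p =>
    (isAlgSpace_limit_and_affine (D := P.DY) (fun i j a => τ.affine _ _ _) P.isLimit_cY (fun i => τ.alg _)).2 p
  have hfst : ∀ p, RepWith @IsAffineHom (pullback.fst (φ.app p) (P.cY.π.app p)) := fun p =>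
    repWith_of_isPullback (IsPullback.of_hasPullback (φ.app p) (P.cY.π.app p)).flip (isAffineMor_iff.1 (hπY p))
  have haff : ∀ (p q : P.Jᵒᵖ) (u : p ⟶ q), IsAffineMor (D.map u) := fun p q u => by
    refine isAffineMor_iff.2 (repWith_of_comp _ (pullback.fst (φ.app q) (P.cY.π.app q)) ?_ ?_)
    · exact repWith_le (fun _ _ k (_ : IsClosedImmersion k) => inferInstanceAs (IsAffineHom k))
        (isSeparatedMor_of_repWith (repWith_le (fun _ _ k (_ : IsAffineHom k) => inferInstanceAs (IsSeparated k))
          (hfst q)))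
    · have h : D.map u ≫ pullback.fst (φ.app q) (P.cY.π.app q) =
          pullback.fst (φ.app p) (P.cY.π.app p) ≫ P.DX.map u := pullback.lift_fst _ _ _
      rw [h]
      exact repWith_comp (hfst p) (isAffineMor_iff.1 (σ.affine _ _ _))
  have hfp : ∀ p, IsFinitePresentationMor (φ.app p) := fun p => by
    refine ⟨?_, isQuasiCompactMor_of_qc_qs (σ.alg _) (τ.alg _) _ (σ.qc _) (τ.qs _),
      isQuasiSeparatedMor_of_isQuasiSeparatedSp _ (σ.qs _)⟩
    refine locP_of_postcomp (g := strMap (τ.D.obj (op (P.b p.unop)))) etLocal_lfp (fun _ _ _ g h hgh hh =>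
      haveI : LocallyOfFinitePresentation (g ≫ h) := hgh
      haveI : LocallyOfFiniteType h :=
        haveI : LocallyOfFinitePresentation h := hh
        inferInstance
      lfp_of_comp g h) (IsAlgSpace.yon_obj _) ?_ (τ.lfp _)
    exact (strMap_ext _ (φ.app p ≫ strMap _) : strMap (σ.D.obj (op (P.a p.unop))) = _) ▸ σ.lfp _
  have htp : ∀ p, IsFinitePresentationMor (t p) := fun p => by
    have sq := IsPullback.of_hasPullback (φ.app p) (P.cY.π.app p)
    exact ⟨locP_of_isPullback etLocal_lfp sq (σ.alg _) (τ.alg _) hY (hfp p).1,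
      H12AlgSp.isQuasiCompactMor_of_isPullback sq (hfp p).2.1, NormSp.isQuasiSeparatedMor_of_isPullback sq (hfp p).2.2⟩
  have hl : IsLimit (Cone.mk X π) := by
    have hconst : ∀ (c : Cone D) (p q : P.Jᵒᵖ), c.π.app p ≫ t p = c.π.app q ≫ t q := fun c p q =>
      constant_of_preserves_morphisms (fun p => c.π.app p ≫ t p) (fun a b u => by
        rw [← c.w u, Category.assoc, tn.naturality u]
        simp [tn]) p q
    let cx : Cone D → Cone P.DX := fun c =>
      { pt := c.pt
        π := { app := fun p => c.π.app p ≫ pullback.fst _ _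
               naturality := fun p q u => by
                 refine (Category.id_comp _).trans ?_
                 rw [← c.w u, Category.assoc, Category.assoc]
                 exact congrArg (c.π.app p ≫ ·) (pullback.lift_fst _ _ _) } }
    refine
      { lift := fun c => P.isLimit_cX.lift (cx c)
        fac := fun c p => pullback.hom_ext ?_ ?_
        uniq := fun c m hm => P.isLimit_cX.hom_ext fun p => ?_ }
    · simp only [π, Category.assoc, pullback.lift_fst]
      exact P.isLimit_cX.fac (cx c) p
    · simp only [π, Category.assoc, pullback.lift_snd]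
      refine P.isLimit_cY.hom_ext fun q => ?_
      rw [Category.assoc, show f ≫ P.cY.π.app q = P.cX.π.app q ≫ φ.app q from (P.comm q.unop).symm,
        ← Category.assoc, P.isLimit_cX.fac]
      change (c.π.app q ≫ pullback.fst _ _) ≫ φ.app q = (c.π.app p ≫ t p) ≫ P.cY.π.app q
      rw [hconst c p q, Category.assoc, Category.assoc, pullback.condition]
    · rw [P.isLimit_cX.fac]
      change m ≫ P.cX.π.app p = c.π.app p ≫ pullback.fst _ _
      rw [← hm p]
      simp [π]
  exact ⟨{
    I := P.J
    D := D
    t := tn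
    π := π
    isLimit := hl
    alg := halg
    affine := haff
    fp := htp
    qc := fun p => (htp p).2.1 hY hYc (𝟙 Y) (𝟙 _) (t p) (IsPullback.of_horiz_isIso ⟨by simp⟩)
    qs := fun p => isQuasiSeparatedSp_of_mor (htp p).2.2 hYs
    fac := fun p => pullback.lift_snd _ _ _ }⟩

end Groth.Agent.H12AlgSp.Approx
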