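import Groth.Agent.H12AlgSp.Approx.Absolute

/-!
# Approximating morphisms of quasi-compact and quasi-separated algebraic spaces
-/

set_option autoImplicit false
set_option linter.style.haveILetI false
set_option maxHeartbeats 800000
set_option backward.isDefEq.respectTransparency false
universe u

open CategoryTheory CategoryTheory.Limits AlgebraicGeometry Opposite
open AlgSp Groth.Agent.H13AlgSp

namespace Groth.Agent.H12AlgSp.Approx

variable {S : Scheme.{u}}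

/-- Systems of morphisms between the stages of two systems, approximating a morphism. -/
structure SysHom {X Y : Sp S} (σ : Sys X) (τ : Sys Y) (f : X ⟶ Y) where
  /-- The index set. -/
  J : Type u
  [preorder : Preorder J]
  [directed : IsDirected J (fun a b => a ≤ b)]
  [nonempty : Nonempty J]
  /-- The index of the source. -/
  a : J →o σ.I
  /-- The index of the target. -/
  b : J →o τ.I
  cofinal_a : ∀ i, ∃ p, i ≤ a p
  cofinal_b : ∀ i, ∃ p, i ≤ b p
  /-- The morphisms. -/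
  g : ∀ p : J, σ.D.obj (op (a p)) ⟶ τ.D.obj (op (b p))
  comm : ∀ p, σ.π.app (op (a p)) ≫ g p = f ≫ τ.π.app (op (b p))
  nat : ∀ {p q : J} (h : p ≤ q), σ.D.map (homOfLE (a.mono h)).op ≫ g p = g q ≫ τ.D.map (homOfLE (b.mono h)).op

attribute [instance] SysHom.preorder SysHom.directed SysHom.nonempty

variable {X Y : Sp S}

/-- A stage of a system of morphisms. -/
structure HomIdx (σ : Sys X) (τ : Sys Y) (f : X ⟶ Y) where
  /-- The index of the source. -/
  a : σ.I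
  /-- The index of the target. -/
  b : τ.I
  /-- The morphism. -/
  g : σ.D.obj (op a) ⟶ τ.D.obj (op b)
  comm : σ.π.app (op a) ≫ g = f ≫ τ.π.app (op b)

variable {σ : Sys X} {τ : Sys Y} {f : X ⟶ Y}

/-- The order of the stages. -/
def HomLE (p q : HomIdx σ τ f) : Prop :=
  ∃ (ha : p.a ≤ q.a) (hb : p.b ≤ q.b), σ.D.map (homOfLE ha).op ≫ p.g = q.g ≫ τ.D.map (homOfLE hb).op

theorem Sys.map_trans {X : Sp S} (σ : Sys X) {a b c : σ.I} (h₁ : a ≤ b) (h₂ : b ≤ c) :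
    σ.D.map (homOfLE (h₁.trans h₂)).op = σ.D.map (homOfLE h₂).op ≫ σ.D.map (homOfLE h₁).op := by
  rw [← Functor.map_comp]
  rfl

theorem Sys.π_map {X : Sp S} (σ : Sys X) {a b : σ.I} (h : a ≤ b) :
    σ.π.app (op b) ≫ σ.D.map (homOfLE h).op = σ.π.app (op a) :=
  (Cone.mk X σ.π).w (homOfLE h).op

theorem Sys.map_refl {X : Sp S} (σ : Sys X) {a : σ.I} (h : a ≤ a) : σ.D.map (homOfLE h).op = 𝟙 _ :=
  σ.D.map_id (op a)

instance : Preorder (HomIdx σ τ f) where
  le := HomLE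
  le_refl p := ⟨le_rfl, le_rfl, by rw [σ.map_refl, τ.map_refl, Category.id_comp, Category.comp_id]⟩
  le_trans p q r := fun ⟨h₁, h₂, h₃⟩ ⟨k₁, k₂, k₃⟩ => ⟨h₁.trans k₁, h₂.trans k₂, by
    rw [σ.map_trans h₁ k₁, τ.map_trans h₂ k₂, Category.assoc, h₃, reassoc_of% k₃]⟩

/-- A map to a space of finite presentation descends to a stage beyond a given one. -/
theorem Sys.exists_lift [QuasiSeparatedSpace S] (σ : Sys X) {F : Sp S} (hF : IsAlgSpace F)
    (hl : LocP @LocallyOfFinitePresentation (strMap F)) (x : X ⟶ F) (i : σ.I) :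
    ∃ (j : σ.I) (z : σ.D.obj (op j) ⟶ F), i ≤ j ∧ σ.π.app (op j) ≫ z = x := by
  obtain ⟨j, φ, z, -, hz⟩ := exists_lift_stage_of_relLP (relLP_strMap hF hl) σ.alg σ.affine σ.isLimit σ.qc σ.qs
    (op i) x (strMap _) (strMap_ext _ _)
  exact ⟨j.unop, z, leOfHom φ.unop, hz⟩

/-- Two maps to a space of finite presentation agreeing on the limit agree on a later stage. -/
theorem Sys.exists_eq (σ : Sys X) {F : Sp S} (hF : IsAlgSpace F)
    (hl : LocP @LocallyOfFinitePresentation (strMap F)) {i : σ.I} (y y' : σ.D.obj (op i) ⟶ F)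
    (h : σ.π.app (op i) ≫ y = σ.π.app (op i) ≫ y') :
    ∃ (j : σ.I) (hij : i ≤ j), σ.D.map (homOfLE hij).op ≫ y = σ.D.map (homOfLE hij).op ≫ y' := by
  obtain ⟨j, φ, hφ⟩ := exists_eq_stage_of_relLP (relLP_strMap hF hl) σ.alg σ.affine σ.isLimit (op i) (σ.qc _) y y'
    (strMap_ext _ _) h
  exact ⟨j.unop, leOfHom φ.unop, hφ⟩

/-- Stages above two given ones. -/
theorem exists_homIdx_ge [QuasiSeparatedSpace S] (p q : HomIdx σ τ f) (a₀ : σ.I) (b₀ : τ.I) :
    ∃ r : HomIdx σ τ f, p ≤ r ∧ q ≤ r ∧ a₀ ≤ r.a ∧ b₀ ≤ r.b := by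
  obtain ⟨b₁, hb₁, hb₂⟩ := τ.directed.directed p.b q.b
  obtain ⟨b, hb₃, hb₀⟩ := τ.directed.directed b₁ b₀
  obtain ⟨a₁, ha₁, ha₂⟩ := σ.directed.directed p.a q.a
  obtain ⟨a₂, ha₃, ha₀⟩ := σ.directed.directed a₁ a₀
  obtain ⟨a₃, z, ha₄, hz⟩ := σ.exists_lift (τ.alg (op b)) (τ.lfp _) (f ≫ τ.π.app (op b)) a₂
  have hp : p.a ≤ a₃ := (ha₁.trans ha₃).trans ha₄
  have hq : q.a ≤ a₃ := (ha₂.trans ha₃).trans ha₄
  obtain ⟨a₄, ha₅, e₁⟩ := σ.exists_eq (τ.alg (op p.b)) (τ.lfp _) (σ.D.map (homOfLE hp).op ≫ p.g)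
    (z ≫ τ.D.map (homOfLE (hb₁.trans hb₃)).op) (by
      rw [reassoc_of% (σ.π_map hp), p.comm, reassoc_of% hz, τ.π_map])
  obtain ⟨a₅, ha₆, e₂⟩ := σ.exists_eq (τ.alg (op q.b)) (τ.lfp _)
    (σ.D.map (homOfLE (hq.trans ha₅)).op ≫ q.g)
    (σ.D.map (homOfLE ha₅).op ≫ z ≫ τ.D.map (homOfLE (hb₂.trans hb₃)).op) (by
      rw [reassoc_of% (σ.π_map (hq.trans ha₅)), q.comm, reassoc_of% (σ.π_map ha₅), reassoc_of% hz, τ.π_map])
  refine ⟨⟨a₅, b, σ.D.map (homOfLE (ha₅.trans ha₆)).op ≫ z, by rw [← Category.assoc, σ.π_map (ha₅.trans ha₆), hz]⟩,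
    ⟨hp.trans (ha₅.trans ha₆), hb₁.trans hb₃, ?_⟩, ⟨(hq.trans ha₅).trans ha₆, hb₂.trans hb₃, ?_⟩,
    ((ha₀.trans ha₄).trans ha₅).trans ha₆, hb₀⟩
  · simp only [σ.map_trans hp (ha₅.trans ha₆), σ.map_trans ha₅ ha₆, Category.assoc]
    rw [e₁]
  · simp only [σ.map_trans (hq.trans ha₅) ha₆, σ.map_trans ha₅ ha₆, Category.assoc]
    rw [e₂]

/-- Indices beyond a chosen bound. -/
structure CanonIdx (σ : Sys X) (τ : Sys Y) (a₀ : τ.I → σ.I) : Type u where
  /-- The index of the source. -/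
  a : σ.I
  /-- The index of the target. -/
  b : τ.I
  le_a : a₀ b ≤ a

/-- Morphisms are approximated by systems of morphisms. -/
theorem exists_sysHom [QuasiSeparatedSpace S] (σ : Sys X) (τ : Sys Y) (f : X ⟶ Y) : Nonempty (SysHom σ τ f) := by
  have hch : ∀ b : τ.I, ∃ (a : σ.I) (z : σ.D.obj (op a) ⟶ τ.D.obj (op b)),
      σ.π.app (op a) ≫ z = f ≫ τ.π.app (op b) := fun b => by
    obtain ⟨a, z, -, hz⟩ := σ.exists_lift (τ.alg (op b)) (τ.lfp _) (f ≫ τ.π.app _) σ.nonempty.some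
    exact ⟨a, z, hz⟩
  choose a₀ z hz using hch
  let J₀ := CanonIdx σ τ a₀
  let e : J₀ → HomIdx σ τ f := fun p => ⟨p.a, p.b, σ.D.map (homOfLE p.le_a).op ≫ z p.b, by
    rw [reassoc_of% (σ.π_map p.le_a), hz]⟩
  letI : Preorder J₀ :=
    { le := fun p q => HomLE (e p) (e q)
      lt := fun p q => HomLE (e p) (e q) ∧ ¬HomLE (e q) (e p)
      lt_iff_le_not_ge := fun _ _ => Iff.rfl
      le_refl := fun p => le_refl (e p)
      le_trans := fun p q r h h' => le_trans (α := HomIdx σ τ f) h h' }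
  have habove : ∀ r : HomIdx σ τ f, ∃ j : J₀, r ≤ e j := fun r => by
    obtain ⟨c, hc₁, hc₂⟩ := σ.directed.directed r.a (a₀ r.b)
    obtain ⟨d, hd, he⟩ := σ.exists_eq (τ.alg (op r.b)) (τ.lfp _) (σ.D.map (homOfLE hc₁).op ≫ r.g)
      (σ.D.map (homOfLE hc₂).op ≫ z r.b) (by rw [reassoc_of% (σ.π_map hc₁), reassoc_of% (σ.π_map hc₂), r.comm, hz])
    refine ⟨⟨d, r.b, hc₂.trans hd⟩, hc₁.trans hd, le_rfl, ?_⟩
    show _ = (σ.D.map _ ≫ z r.b) ≫ _
    rw [τ.map_refl, Category.comp_id, σ.map_trans hc₁ hd, σ.map_trans hc₂ hd, Category.assoc, Category.assoc, he]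
  obtain ⟨b₁⟩ := τ.nonempty
  haveI : Nonempty J₀ := ⟨⟨a₀ b₁, b₁, le_rfl⟩⟩
  haveI : IsDirected J₀ (fun a b => a ≤ b) := ⟨fun p q => by
    obtain ⟨r, h₁, h₂, -⟩ := exists_homIdx_ge (e p) (e q) (e p).a (e p).b
    obtain ⟨j, hj⟩ := habove r
    exact ⟨j, (show HomLE (e p) (e j) from le_trans (α := HomIdx σ τ f) h₁ hj),
      (show HomLE (e q) (e j) from le_trans (α := HomIdx σ τ f) h₂ hj)⟩⟩
  refine ⟨{
    J := J₀
    a := ⟨fun p => (e p).a, fun p q (h : HomLE (e p) (e q)) => h.1⟩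
    b := ⟨fun p => (e p).b, fun p q (h : HomLE (e p) (e q)) => h.2.1⟩
    cofinal_a := fun i => ?_
    cofinal_b := fun i => ?_
    g := fun p => (e p).g
    comm := fun p => (e p).comm
    nat := fun {p q} h => (show HomLE (e p) (e q) from h).2.2 }⟩
  all_goals
    obtain ⟨p⟩ : Nonempty J₀ := inferInstance
  · obtain ⟨r, -, -, h, -⟩ := exists_homIdx_ge (e p) (e p) i (e p).b
    obtain ⟨j, hj⟩ := habove r
    exact ⟨j, h.trans hj.1⟩
  · obtain ⟨r, -, -, -, h⟩ := exists_homIdx_ge (e p) (e p) (e p).a i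
    obtain ⟨j, hj⟩ := habove r
    exact ⟨j, h.trans hj.2.1⟩

namespace SysHom

variable (P : SysHom σ τ f)

/-- The system of sources. -/
abbrev DX : P.Jᵒᵖ ⥤ Sp S := P.a.monotone.functor.op ⋙ σ.D

/-- The system of targets. -/
abbrev DY : P.Jᵒᵖ ⥤ Sp S := P.b.monotone.functor.op ⋙ τ.D

/-- The morphism of systems. -/
def φ : P.DX ⟶ P.DY where
  app p := P.g p.unop
  naturality _ _ u := P.nat u.unop.le

/-- The cone over the sources. -/
abbrev cX : Cone P.DX := (Cone.mk X σ.π).whisker P.a.monotone.functor.op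

/-- The cone over the targets. -/
abbrev cY : Cone P.DY := (Cone.mk Y τ.π).whisker P.b.monotone.functor.op

theorem final_a : Functor.Final P.a.monotone.functor :=
  haveI : IsDirectedOrder P.J := P.directed
  P.a.monotone.final_functor_iff.2 P.cofinal_a

theorem final_b : Functor.Final P.b.monotone.functor :=
  haveI : IsDirectedOrder P.J := P.directed
  P.b.monotone.final_functor_iff.2 P.cofinal_b

/-- The sources have the given limit. -/
noncomputable def isLimit_cX : IsLimit P.cX :=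
  haveI := P.final_a
  (Functor.Initial.isLimitWhiskerEquiv P.a.monotone.functor.op (Cone.mk X σ.π)).symm σ.isLimit

/-- The targets have the given limit. -/
noncomputable def isLimit_cY : IsLimit P.cY :=
  haveI := P.final_b
  (Functor.Initial.isLimitWhiskerEquiv P.b.monotone.functor.op (Cone.mk Y τ.π)).symm τ.isLimit

end SysHom

end Groth.Agent.H12AlgSp.Approx
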