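import Groth.Agent.H12AlgSp.LimitDescendProper
import Groth.Agent.H12AlgSp.Approx.IntegralLimit
import Groth.Agent.H7Lim.Proper.StructureMap

/-!
# Proper morphisms as limits of proper morphisms of finite presentation
-/

set_option autoImplicit false
set_option linter.style.haveILetI false
set_option maxHeartbeats 1600000
set_option backward.isDefEq.respectTransparency false
set_option backward.isDefEq.respectTransparency.types false
universe u

open CategoryTheory CategoryTheory.Limits AlgebraicGeometry Opposite TopologicalSpace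
open AlgSp Groth.Agent.H13AlgSp

namespace Groth.Agent.H12AlgSp.Approx

variable {S : Scheme.{u}}

/-- The base change of a system over a space to a scheme. -/
theorem exists_rep_bc_system {I : Type u} [SmallCategory I] [IsCofiltered I] {D : I ⥤ Sp S} {Y : Sp S}
    (t : D ⟶ (Functor.const I).obj Y) (ht : ∀ i, Representable (t.app i)) {c : Cone D} (hc : IsLimit c)
    {f : c.pt ⟶ Y} (hf : ∀ i, c.π.app i ≫ t.app i = f) {V T : Over S}
    {b : (yon S).obj V ⟶ Y} {q : (yon S).obj T ⟶ c.pt} {p : T ⟶ V} (sq : IsPullback q ((yon S).map p) f b) :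
    ∃ (K : I ⥤ Over S) (α : K ⋙ yon S ⟶ D) (cK : Cone K) (_ : IsLimit cK) (eT : cK.pt ≅ T) (pK : ∀ i, K.obj i ⟶ V),
      (∀ i, IsPullback (α.app i) ((yon S).map (pK i)) (t.app i) b) ∧
      (∀ {i j : I} (u : i ⟶ j), IsPullback ((yon S).map (K.map u)) (α.app i) (α.app j) (D.map u)) ∧
      (∀ {i j : I} (u : i ⟶ j), K.map u ≫ pK j = pK i) ∧
      (∀ i, cK.π.app i ≫ pK i = eT.hom ≫ p) := by
  haveI : CategoryTheory.IsConnected I := IsCofiltered.isConnected I
  choose W pK fst sqW using fun i => ht i b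
  have hnat : ∀ {i j : I} (u : i ⟶ j), D.map u ≫ t.app j = t.app i := fun u =>
    (t.naturality u).trans (Category.comp_id _)
  have hm : ∀ {i j : I} (u : i ⟶ j), ∃ k : W i ⟶ W j, (yon S).map k ≫ fst j = fst i ≫ D.map u ∧ k ≫ pK j = pK i := by
    intro i j u
    obtain ⟨k', h₁, h₂⟩ := (sqW j).exists_lift (fst i ≫ D.map u) ((yon S).map (pK i))
      (by rw [Category.assoc, hnat]; exact (sqW i).w)
    obtain ⟨k, rfl⟩ := (yon S).map_surjective k'
    exact ⟨k, h₁, (yon S).map_injective (by rw [Functor.map_comp]; exact h₂)⟩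
  choose k hk₁ hk₂ using @hm
  let K : I ⥤ Over S :=
    { obj := W
      map := fun {i j} u => k u
      map_id := fun i => (yon S).map_injective ((sqW i).hom_ext (by simp [hk₁]) (by
        rw [← Functor.map_comp, hk₂]
        simp))
      map_comp := fun {i j l} u v => (yon S).map_injective ((sqW l).hom_ext
        (by rw [Functor.map_comp (yon S), Category.assoc, hk₁, hk₁, reassoc_of% (hk₁ u), D.map_comp])
        (by rw [← Functor.map_comp, ← Functor.map_comp, hk₂, Category.assoc, hk₂, hk₂])) }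
  let α : K ⋙ yon S ⟶ D :=
    { app := fst
      naturality := fun i j u => hk₁ u }
  have hsq : ∀ {i j : I} (u : i ⟶ j), IsPullback ((yon S).map (K.map u)) (α.app i) (α.app j) (D.map u) :=
    fun {i j} u => by
      refine IsPullback.of_right (h₁₂ := (yon S).map (pK j)) (v₁₃ := b) (h₂₂ := t.app j) ?_
        (α.naturality u) (sqW j).flip
      rw [hnat, ← Functor.map_comp]
      rw [show K.map u ≫ pK j = pK i from hk₂ u]
      exact (sqW i).flip
  have hπ : ∀ i, ∃ π : T ⟶ W i, (yon S).map π ≫ fst i = q ≫ c.π.app i ∧ π ≫ pK i = p := fun i => by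
    obtain ⟨π', h₁, h₂⟩ := (sqW i).exists_lift (q ≫ c.π.app i) ((yon S).map p)
      (by rw [Category.assoc, hf]; exact sq.w)
    obtain ⟨π, rfl⟩ := (yon S).map_surjective π'
    exact ⟨π, h₁, (yon S).map_injective (by rw [Functor.map_comp]; exact h₂)⟩
  choose π hπ₁ hπ₂ using hπ
  let cK : Cone K :=
    { pt := T
      π := { app := π
             naturality := fun i j u => by
               refine (Category.id_comp _).trans ((yon S).map_injective ((sqW j).hom_ext ?_ ?_))
               · rw [Functor.map_comp, Category.assoc, hπ₁, show (yon S).map (K.map u) ≫ fst j = _ from hk₁ u,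
                   reassoc_of% (hπ₁ i), c.w]
               · rw [← Functor.map_comp, ← Functor.map_comp, hπ₂, Category.assoc,
                   show K.map u ≫ pK j = pK i from hk₂ u, hπ₂] } }
  have hsqπ : ∀ i, IsPullback (((yon S).mapCone cK).π.app i) q (α.app i) (c.π.app i) := fun i => by
    refine IsPullback.of_right (h₁₂ := (yon S).map (pK i)) (v₁₃ := b) (h₂₂ := t.app i) ?_
      (hπ₁ i) (sqW i).flip
    rw [hf]
    show IsPullback ((yon S).map (π i) ≫ (yon S).map (pK i)) q b f
    rw [← Functor.map_comp, hπ₂]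
    exact sq.flip
  have hl : IsLimit ((yon S).mapCone cK) := isLimitOfIsPullbackOfIsConnected α ((yon S).mapCone cK) c
    { hom := q, w := fun i => (hsqπ i).w.symm } hsqπ hc
  exact ⟨K, α, cK, isLimitOfReflects (yon S) hl, Iso.refl _, pK, sqW, hsq, fun u => hk₂ u,
    fun i => (hπ₂ i).trans (Category.id_comp _).symm⟩

/-- A system of closed subspaces with proper limit is proper from some stage on. -/
theorem eventually_proper [QuasiSeparatedSpace S] {I : Type u} [SmallCategory I] [IsCofiltered I] {W : I ⥤ Sp S}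
    (hW : ∀ i, IsAlgSpace (W.obj i)) (hWc : ∀ (i j : I) (φ : i ⟶ j), RepWith @IsClosedImmersion (W.map φ))
    {c : Cone W} (hc : IsLimit c) {P : Sp S} (hP : IsAlgSpace P) (hPc : IsQuasiCompactSp P)
    (hPs : IsQuasiSeparatedSp P) (w : W ⟶ (Functor.const I).obj P) (hw : ∀ i, RepWith @IsClosedImmersion (w.app i))
    {Y : Sp S} (hY : IsAlgSpace Y) (hYc : IsQuasiCompactSp Y) (hYs : IsQuasiSeparatedSp Y) (t : P ⟶ Y)
    (hts : IsSeparatedMor t) (htl : LocP @LocallyOfFiniteType t)
    {a : c.pt ⟶ P} (ha : ∀ i, c.π.app i ≫ w.app i = a) (hf : IsProperMor (a ≫ t)) :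
    ∃ i₀ : I, ∀ i (_ : i ⟶ i₀), IsProperMor (w.app i ≫ t) := by
  haveI : CategoryTheory.IsConnected I := IsCofiltered.isConnected I
  haveI := compactSpace_points_of_isQuasiCompactSp hYc
  obtain ⟨U, p, hU, hpe, hps⟩ := exists_affine_atlas hY
  haveI := hU
  have sqP := IsPullback.of_hasPullback t p
  have hPU : IsAlgSpace (pullback t p) := isAlgSpace_pullback hY.diag hP (IsAlgSpace.yon_obj U) _ _
  have htq : IsQuasiCompactMor t := isQuasiCompactMor_of_qc_qs hP hY t hPc hYs
  have hPUc : IsQuasiCompactSp (pullback t p) := isQuasiCompactMor_pullback htq _ p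
  have hPUs : IsQuasiSeparatedSp (pullback t p) :=
    isQuasiSeparatedSp_pullback hPs (isQuasiSeparatedSp_yon inferInstance) t p
  obtain ⟨T, q, hqe, hqs⟩ := hPU.atlas
  obtain ⟨Q, g, hgf, hgs, -, -⟩ := SchemeCover.exists_cover hPU hPUc hPUs q hqe hqs
  have hgr : RepWith @IsFinite g := isFiniteMor_iff.1 hgf
  have hgp : RepWith @IsProper g := repWith_le (fun _ _ k (_ : IsFinite k) => inferInstanceAs (IsProper k)) hgr
  have hgP : IsProperMor g := isProperMor_of_repWith_isProper (IsAlgSpace.yon_obj Q) hPU hgp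
  obtain ⟨k, hk⟩ := (yon S).map_surjective (g ≫ pullback.snd t p)
  haveI : CompactSpace Q.left := isQuasiCompactSp_yon_iff.1 (isQuasiCompactSp_of_mor hgP.2.1.2 hPU hPUc)
  haveI : QuasiSeparatedSpace Q.left := by
    have hQ : IsQuasiSeparatedSp ((yon S).obj Q) :=
      isQuasiSeparatedSp_of_mor (isQuasiSeparatedMor_of_isSeparatedMor hgP.1) hPUs
    haveI : QuasiSeparated Q.hom := ⟨(repWith_diag_yon_iff @QuasiCompact Q).1 hQ⟩
    exact quasiSeparatedSpace_of_quasiSeparated Q.hom
  haveI : LocallyOfFiniteType k.left := lft_of_locP_yon (by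
    rw [hk]
    exact locP_comp etLocal_lft (IsAlgSpace.yon_obj Q) hPU (IsAlgSpace.yon_obj U) hgP.2.1.1
      (locP_of_isPullback etLocal_lft sqP hP hY (IsAlgSpace.yon_obj U) htl))
  -- the system over the cover
  have hwa : ∀ i, RepWith @IsClosedImmersion (w.app i) := hw
  obtain ⟨i₀⟩ := IsCofiltered.nonempty (C := I)
  have ha' : RepWith @IsAffineHom (w.app i₀) :=
    repWith_le (fun _ _ k (_ : IsClosedImmersion k) => inferInstanceAs (IsAffineHom k)) (hw i₀)
  have hlim := isAlgSpace_limit_and_affine (fun i j φ => isAffineMor_iff.2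
    (repWith_le (fun _ _ k (_ : IsClosedImmersion k) => inferInstanceAs (IsAffineHom k)) (hWc i j φ))) hc hW
  have haa : RepWith @IsAffineHom a := ha i₀ ▸ repWith_comp (isAffineMor_iff.1 (hlim.2 i₀)) ha'
  obtain ⟨T', pT, fq, sqT⟩ := haa.1 (g ≫ pullback.fst t p)
  obtain ⟨K, α, cK, hcK, eT, pK, sqK, sqm, hpK, hπp⟩ :=
    exists_rep_bc_system w (fun i => (hw i).1) hc ha sqT
  have hcl : ∀ i, IsClosedImmersion (pK i).left := fun i =>
    (repWith_yon_map_iff @IsClosedImmersion (pK i)).1 (repWith_of_isPullback (sqK i) (hw i))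
  let E := K ⋙ Over.forget S
  haveI : ∀ (i j : I) (φ : i ⟶ j), IsClosedImmersion (E.map φ) := fun i j φ =>
    (repWith_yon_map_iff @IsClosedImmersion (K.map φ)).1 (repWith_of_isPullback (sqm φ).flip (hWc i j φ))
  haveI : ∀ (i j : I) (φ : i ⟶ j), IsAffineHom (E.map φ) := fun i j φ => inferInstance
  haveI : ∀ i, CompactSpace (E.obj i) := fun i =>
    haveI := hcl i
    QuasiCompact.compactSpace_of_compactSpace (pK i).left
  haveI : ∀ i, QuasiSeparatedSpace (E.obj i) := fun i =>
    haveI := hcl i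
    quasiSeparatedSpace_of_quasiSeparated (pK i).left
  haveI : ∀ i, LocallyOfFiniteType ((fun i => (pK i ≫ k).left) i) := fun i => by
    haveI := hcl i
    exact inferInstanceAs (LocallyOfFiniteType ((pK i).left ≫ k.left))
  -- the limit is proper
  haveI hTp : IsProper (pT ≫ k).left := isProper_of_isProperMor_yon (by
    have hR : IsAlgSpace (pullback a (pullback.fst t p)) := isAlgSpace_pullback hP.diag hlim.1 hPU _ _
    have hRp : IsProperMor (pullback.snd a (pullback.fst t p) ≫ pullback.snd t p) :=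
      isProperMor_of_isPullback hlim.1 hY (IsAlgSpace.yon_obj U)
        ((IsPullback.of_hasPullback a (pullback.fst t p)).paste_vert sqP) hf
    let m : (yon S).obj T' ⟶ pullback a (pullback.fst t p) :=
      pullback.lift fq ((yon S).map pT ≫ g) (by rw [Category.assoc]; exact sqT.w)
    have sqm' : IsPullback ((yon S).map pT) m g (pullback.snd a (pullback.fst t p)) :=
      IsPullback.of_bot (v₂₁ := pullback.fst a (pullback.fst t p)) (v₂₂ := pullback.fst t p) (h₃₁ := a)
        (by rw [pullback.lift_fst]; exact sqT.flip) (pullback.lift_snd _ _ _).symm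
        (IsPullback.of_hasPullback _ _).flip
    have h' : IsProperMor (m ≫ pullback.snd a (pullback.fst t p) ≫ pullback.snd t p) :=
      isProperMor_comp (IsAlgSpace.yon_obj T') hR (IsAlgSpace.yon_obj U)
        (isProperMor_of_repWith_isProper (IsAlgSpace.yon_obj T') hR (repWith_of_isPullback sqm' hgp)) hRp
    rw [← Category.assoc, pullback.lift_snd, Category.assoc, ← hk, ← Functor.map_comp] at h'
    exact h')
  haveI : IsProper (((Over.forget S).mapCone cK).π.app i₀ ≫ (pK i₀ ≫ k).left) := by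
    change IsProper ((cK.π.app i₀).left ≫ (pK i₀ ≫ k).left)
    rw [← Over.comp_left, ← Category.assoc, hπp, Category.assoc, Over.comp_left]
    haveI : IsIso eT.hom.left := inferInstanceAs (IsIso ((Over.forget S).map eT.hom))
    infer_instance
  obtain ⟨i₁, hi₁⟩ := Groth.Agent.H7Lim.exists_isProper_structureMap (c := (Over.forget S).mapCone cK)
    (fun i => (pK i ≫ k).left) (fun {i j} φ => by
      change (K.map φ).left ≫ _ = _
      rw [← Over.comp_left, ← Category.assoc, hpK]) (isLimitOfPreserves _ hcK) i₀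
  refine ⟨i₁, fun i φ => ?_⟩
  have sqR := IsPullback.of_hasPullback (w.app i) (pullback.fst t p)
  have hRi : IsAlgSpace (pullback (w.app i) (pullback.fst t p)) := isAlgSpace_pullback hP.diag (hW i) hPU _ _
  have sqRU := sqR.paste_vert sqP
  have hwl : LocP @LocallyOfFiniteType (w.app i) := locP_of_repWith etLocal_lft
    (repWith_le (fun _ _ k (_ : IsClosedImmersion k) => inferInstanceAs (LocallyOfFiniteType k)) (hw i))
  have hwp : IsProperMor (w.app i) := isProperMor_of_isClosedImmersion hP (hw i)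
  refine isProperMor_of_cover (hW i) hY hpe hps sqRU ⟨?_, ⟨?_, ?_⟩, ?_⟩
  · exact isSeparatedMor_of_isPullback sqRU (isSeparatedMor_comp hwp.1 hts)
  · exact locP_of_isPullback etLocal_lft sqRU (hW i) hY (IsAlgSpace.yon_obj U) (locP_comp etLocal_lft (hW i) hP hY hwl htl)
  · exact isQuasiCompactMor_of_isPullback sqRU (isQuasiCompactMor_comp hP hY hwp.2.1.2 htq)
  · let m : (yon S).obj (K.obj i) ⟶ pullback (w.app i) (pullback.fst t p) :=
      pullback.lift (α.app i) ((yon S).map (pK i) ≫ g) (by rw [Category.assoc]; exact (sqK i).w)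
    have sqmi : IsPullback ((yon S).map (pK i)) m g (pullback.snd (w.app i) (pullback.fst t p)) :=
      IsPullback.of_bot (v₂₁ := pullback.fst (w.app i) (pullback.fst t p)) (v₂₂ := pullback.fst t p) (h₃₁ := w.app i)
        (by rw [pullback.lift_fst]; exact (sqK i).flip) (pullback.lift_snd _ _ _).symm sqR.flip
    refine isUnivClosedMor_of_surjective (f := m) ?_ (Approx.surjective_map_of_isPullback sqmi hgs)
    haveI := hi₁ i φ
    have h' : IsProperMor ((yon S).map (pK i ≫ k)) :=
      isProperMor_of_repWith_isProper (IsAlgSpace.yon_obj _) (IsAlgSpace.yon_obj _)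
        ((repWith_yon_map_iff @IsProper _).2 (hi₁ i φ))
    rw [← Category.assoc, pullback.lift_snd, Category.assoc, ← hk, ← Functor.map_comp]
    exact h'.2.2

/-- A proper morphism is a limit of proper morphisms of finite presentation with closed transitions. -/
theorem exists_limit_proper_closed [QuasiSeparatedSpace S] {X Y : Sp S} {f : X ⟶ Y} (hX : IsAlgSpace X)
    (hY : IsAlgSpace Y) (hf : IsProperMor f) (hYc : IsQuasiCompactSp Y) (hYs : IsQuasiSeparatedSp Y) :
    ∃ (I : Type u) (_ : Preorder I) (_ : IsDirected I (fun a b => a ≤ b)) (_ : Nonempty I) (D : Iᵒᵖ ⥤ Sp S)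
      (t : D ⟶ (Functor.const Iᵒᵖ).obj Y) (c : Cone D) (_ : IsLimit c) (e : c.pt ≅ X),
      (∀ i, IsAlgSpace (D.obj i)) ∧ (∀ (i j : Iᵒᵖ) (φ : i ⟶ j), RepWith @IsClosedImmersion (D.map φ)) ∧
      (∀ i, RepWith @IsClosedImmersion (c.π.app i)) ∧
      (∀ i, IsProperMor (t.app i) ∧ IsFinitePresentationMor (t.app i)) ∧
      (∀ i, e.inv ≫ c.π.app i ≫ t.app i = f) := by
  have hfs : IsQuasiSeparatedMor f := isQuasiSeparatedMor_of_isSeparatedMor hf.1
  have hXs : IsQuasiSeparatedSp X := isQuasiSeparatedSp_of_mor hfs hYs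
  have hXc : IsQuasiCompactSp X := isQuasiCompactSp_of_mor hf.2.1.2 hY hYc
  obtain ⟨P, i, t, rfl, hP, hi, htfp, hts⟩ :=
    exists_closedImmersion_separated_fp hX hY hf.2.1.1 hf.1 hXc hXs hYs
  have hPc : IsQuasiCompactSp P := isQuasiCompactSp_of_mor htfp.2.1 hY hYc
  have hPs : IsQuasiSeparatedSp P := isQuasiSeparatedSp_of_mor htfp.2.2 hYs
  obtain ⟨L, _, _, _, W, w, c, hc, e, hWa, hWt, hw, hfac⟩ := SubExt.exists_ftLimit hP hX hPc hPs hi
  haveI : IsDirectedOrder L := ‹_›
  have hec : ∀ l, c.π.app l ≫ w.app l = e.hom ≫ i := fun l => by rw [← hfac l, Iso.hom_inv_id_assoc]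
  have htl : LocP @LocallyOfFiniteType t := fun A B a b k ha hb h =>
    haveI := htfp.1 a b k ha hb h
    inferInstance
  have hlim := isAlgSpace_limit_and_affine (fun i j φ => isAffineMor_iff.2
    (repWith_le (fun _ _ k (_ : IsClosedImmersion k) => inferInstanceAs (IsAffineHom k)) (hWt i j φ))) hc hWa
  obtain ⟨l₀, hl₀⟩ := eventually_proper hWa hWt hc hP hPc hPs w (fun l => (hw l).1) hY hYc hYs t hts htl hec
    (isProperMor_of_isPullback hX hY hY (fst := e.hom) (f := i ≫ t) (g := 𝟙 Y)
      (IsPullback.of_horiz_isIso ⟨by rw [Category.comp_id, Category.assoc]⟩) hf)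
  let T := {l : L // l₀.unop ≤ l}
  haveI : Nonempty T := ⟨⟨l₀.unop, le_rfl⟩⟩
  haveI hd : IsDirected T (fun a b => a ≤ b) := ⟨fun a b => by
    obtain ⟨l, ha, hb⟩ := directed_of (fun a b : L => a ≤ b) a.1 b.1
    exact ⟨⟨l, a.2.trans ha⟩, ha, hb⟩⟩
  let ι : T →o L := ⟨fun a => a.1, fun a b h => h⟩
  haveI : IsDirectedOrder T := hd
  haveI : Functor.Final ι.monotone.functor := ι.monotone.final_functor_iff.2 fun l => by
    obtain ⟨m, hm₁, hm₂⟩ := directed_of (fun a b : L => a ≤ b) l₀.unop l
    exact ⟨⟨m, hm₁⟩, hm₂⟩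
  let β : Tᵒᵖ ⥤ Lᵒᵖ := ι.monotone.functor.op
  refine ⟨T, inferInstance, hd, inferInstance, β ⋙ W,
    Functor.whiskerLeft β (w ≫ (Functor.const Lᵒᵖ).map t), c.whisker β,
    (Functor.Initial.isLimitWhiskerEquiv β c).symm hc, e, fun _ => hWa _, fun _ _ _ => hWt _ _ _, fun l => ?_,
    fun l => ⟨hl₀ (β.obj l) (homOfLE l.unop.2).op, ?_⟩, fun l => ?_⟩
  · have hei : RepWith @IsClosedImmersion (e.hom ≫ i) :=
      MorphismProperty.RespectsIso.precomp (RepWith @IsClosedImmersion) _ _ hi
    rw [← hec (β.obj l)] at hei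
    haveI : Mono (w.app (β.obj l)) := mono_of_repWith
      (fun _ _ k (_ : IsClosedImmersion k) => inferInstanceAs (Mono k)) (hw _).1
    exact repWith_of_comp_mono hei rfl
  · have hwp := isProperMor_of_isClosedImmersion hP (hw (β.obj l)).1
    exact ⟨locP_comp etLocal_lfp (hWa _) hP hY (hw _).2.1 htfp.1,
      isQuasiCompactMor_comp hP hY hwp.2.1.2 htfp.2.1,
      isQuasiSeparatedMor_of_isSeparatedMor (isSeparatedMor_comp hwp.1 hts)⟩
  · change e.inv ≫ c.π.app (β.obj l) ≫ w.app (β.obj l) ≫ t = i ≫ t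
    rw [← Category.assoc (c.π.app (β.obj l)), hec, Category.assoc, Iso.inv_hom_id_assoc]

end Groth.Agent.H12AlgSp.Approx
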