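import Groth.Agent.H12AlgSp.Approx.Over
import Groth.Agent.H12AlgSp.ShriekEquiv
import Groth.Agent.H12AlgSp.SepAbsolute
import Groth.Agent.H12AlgSp.AffImm.Main

/-!
# Relative approximation over a quasi-separated base
-/

set_option autoImplicit false
set_option linter.style.haveILetI false
set_option maxHeartbeats 800000
set_option backward.isDefEq.respectTransparency false
universe u

open CategoryTheory CategoryTheory.Limits AlgebraicGeometry Opposite
open AlgSp Groth.Agent.H13AlgSp
open Groth.Agent.H12AlgSp.Shriek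

namespace Groth.Agent.H12AlgSp.Approx

variable {S S' : Scheme.{u}} (g : S ⟶ S')

/-- The extension of a quasi-compact space is quasi-compact. -/
theorem isQuasiCompactSp_shr {F : Sp S} (h : IsQuasiCompactSp F) : IsQuasiCompactSp ((shr g).obj F) := by
  obtain ⟨U, q, hq, hs, hc⟩ := h
  exact ⟨_, (yonIso g U).inv ≫ (shr g).map q,
    MorphismProperty.RespectsIso.precomp _ _ _ ((repWith_shr_iff g _ q).2 hq),
    MorphismProperty.RespectsIso.precomp _ _ _ ((repWith_shr_iff g _ q).2 hs), hc⟩

/-- A quasi-compact extension comes from a quasi-compact space. -/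
theorem isQuasiCompactSp_of_shr' {F : Sp S} (h : IsQuasiCompactSp ((shr g).obj F)) : IsQuasiCompactSp F := by
  obtain ⟨U', q, hq, hs, hc⟩ := h
  obtain ⟨T, e, t, rfl⟩ := exists_presentation q
  haveI : CompactSpace ↥((Over.forget S').obj U') := hc
  have : CompactSpace T.left :=
    (Scheme.homeoOfIso ((Over.forget S').mapIso e)).compactSpace
  exact ⟨T, t,
    (repWith_shr_iff g _ t).1 ((MorphismProperty.cancel_left_of_respectsIso _ (yonIso g T).inv _).1
      ((MorphismProperty.cancel_left_of_respectsIso _ ((yon S').map e.hom) _).1 hq)),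
    (repWith_shr_iff g _ t).1 ((MorphismProperty.cancel_left_of_respectsIso _ (yonIso g T).inv _).1
      ((MorphismProperty.cancel_left_of_respectsIso _ ((yon S').map e.hom) _).1 hs)), this⟩

/-- The extension of a quasi-compact quasi-separated space is quasi-separated. -/
theorem isQuasiSeparatedSp_shr [QuasiSeparatedSpace S] {F : Sp S} (hF : IsAlgSpace F) (hc : IsQuasiCompactSp F)
    (hs : IsQuasiSeparatedSp F) : IsQuasiSeparatedSp ((shr g).obj F) := by
  haveI := compactSpace_points_of_isQuasiCompactSp hc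
  obtain ⟨U, p, hU, hp, hps⟩ := exists_affine_atlas hF
  haveI := hU
  obtain ⟨R, r₂, r₁', sq⟩ := hF.representable_from_yon p p
  obtain ⟨r₁, rfl⟩ := (yon S).map_surjective r₁'
  haveI : CompactSpace R.left := compactSpace_of_isPullback' hs sq
  haveI : QuasiSeparatedSpace ((Over.map g).obj U).left := inferInstanceAs (QuasiSeparatedSpace U.left)
  refine isQuasiSeparatedSp_of_qc_proj (isAlgSpace_shr hF)
    (p := (yonIso g U).inv ≫ (shr g).map p) (R := (Over.map g).obj R)
    (MorphismProperty.RespectsIso.precomp _ _ _ ((repWith_shr_iff g _ p).2 hp))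
    (MorphismProperty.RespectsIso.precomp _ _ _ ((repWith_shr_iff g _ p).2 hps))
    (t := (Over.map g).map r₁) (s := (Over.map g).map r₂) ?_ ?_
  · exact ((isPullback_shr_iff (g := g)).2 sq).of_iso (yonIso g R) (yonIso g U) (yonIso g U) (Iso.refl _)
      (yonIso_naturality r₁) (yonIso_naturality r₂) (by simp) (by simp)
  · change QuasiCompact r₁.left
    haveI : QuasiCompact (r₁.left ≫ terminal.from U.left) := by
      rw [Subsingleton.elim (r₁.left ≫ terminal.from U.left) (terminal.from R.left)]
      infer_instance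
    exact QuasiCompact.of_comp _ (terminal.from U.left)

theorem locP_of_shr {P : MorphismProperty Scheme.{u}} {F G : Sp S} {f : F ⟶ G} (h : LocP P ((shr g).map f)) :
    LocP P f := fun U V a b k ha hb w =>
  h ((yonIso g U).inv ≫ (shr g).map a) ((yonIso g V).inv ≫ (shr g).map b) ((Over.map g).map k)
    (MorphismProperty.RespectsIso.precomp _ _ _ ((repWith_shr_iff g _ a).2 ha))
    (MorphismProperty.RespectsIso.precomp _ _ _ ((repWith_shr_iff g _ b).2 hb))
    (by
      rw [← cancel_epi (yonIso g U).hom]
      rw [← reassoc_of% (yonIso_naturality k), Iso.hom_inv_id_assoc, Category.assoc, Iso.hom_inv_id_assoc,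
        ← Functor.map_comp, ← Functor.map_comp, w])

theorem isQuasiSeparatedMor_of_shr {F G : Sp S} {f : F ⟶ G} (h : IsQuasiSeparatedMor ((shr g).map f)) :
    IsQuasiSeparatedMor f := by
  refine (repWith_shr_iff g @QuasiCompact (pullback.diagonal f)).1 ?_
  let e := ((isPullback_shr_iff (g := g)).2 (IsPullback.of_hasPullback f f)).isoPullback
  have he : (shr g).map (pullback.diagonal f) ≫ e.hom = pullback.diagonal ((shr g).map f) := by
    apply pullback.hom_ext <;> simp [e, ← Functor.map_comp]
  refine (MorphismProperty.cancel_right_of_respectsIso (RepWith (S := S') @QuasiCompact) _ e.hom).1 ?_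
  rw [he]
  exact h

/-- Relative approximation when the target is quasi-compact. -/
theorem exists_sysOver_qs [QuasiSeparatedSpace S] {X Y : Sp S} (f : X ⟶ Y) (hX : IsAlgSpace X) (hY : IsAlgSpace Y)
    (hXc : IsQuasiCompactSp X) (hXs : IsQuasiSeparatedSp X) (hYc : IsQuasiCompactSp Y)
    (hYs : IsQuasiSeparatedSp Y) : Nonempty (SysOver f) := by
  let g : S ⟶ Spec (CommRingCat.of (ULift.{u} ℤ)) := specULiftZIsTerminal.from S
  obtain ⟨Φ⟩ := exists_sysOver specULiftZIsTerminal ((shr g).map f) (isAlgSpace_shr hX) (isAlgSpace_shr hY)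
    (isQuasiCompactSp_shr g hXc) (isQuasiSeparatedSp_shr g hX hXc hXs) (isQuasiCompactSp_shr g hYc)
    (isQuasiSeparatedSp_shr g hY hYc hYs)
  have hfib : ∀ p, ∃ (F : Sp S) (q : (shr g).obj F ≅ Φ.D.obj p), q.hom ≫ Φ.t.app p ≫ toBase g Y = toBase g F := by
    intro p
    obtain ⟨hiso, hb⟩ := fib_spec (g := g) (Φ.t.app p ≫ toBase g Y)
    exact ⟨fib (Φ.t.app p ≫ toBase g Y), @asIso _ _ _ _ _ hiso, hb⟩
  choose F q hq using hfib
  have hmap : ∀ {a b : Φ.Iᵒᵖ} (u : a ⟶ b), ∃ r : F a ⟶ F b, (shr g).map r = (q a).hom ≫ Φ.D.map u ≫ (q b).inv := by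
    intro a b u
    refine exists_map _ ?_
    have hn : Φ.D.map u ≫ Φ.t.app b = Φ.t.app a := (Φ.t.naturality u).trans (Category.comp_id _)
    rw [← hq b, Category.assoc, Category.assoc, Iso.inv_hom_id_assoc, reassoc_of% hn, hq]
  choose r hr using @hmap
  let D : Φ.Iᵒᵖ ⥤ Sp S :=
    { obj := F
      map := fun {a b} u => r u
      map_id := fun a => (shr g).map_injective (by rw [hr]; simp)
      map_comp := fun u v => (shr g).map_injective (by rw [Functor.map_comp, hr, hr, hr]; simp) }
  have htm : ∀ a, ∃ t : F a ⟶ Y, (shr g).map t = (q a).hom ≫ Φ.t.app a := fun a =>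
    exists_map _ (by rw [Category.assoc, hq])
  choose t ht using htm
  let tn : D ⟶ (Functor.const Φ.Iᵒᵖ).obj Y :=
    { app := t
      naturality := fun a b u => by
        refine ((shr g).map_injective ?_).trans (Category.comp_id _).symm
        change (shr g).map (r u ≫ t b) = (shr g).map (t a)
        rw [Functor.map_comp, hr, ht, ht, Category.assoc, Category.assoc, Iso.inv_hom_id_assoc]
        exact congrArg ((q a).hom ≫ ·) ((Φ.t.naturality u).trans (Category.comp_id _)) }
  have hπm : ∀ a, ∃ π : X ⟶ F a, (shr g).map π = Φ.π.app a ≫ (q a).inv := fun a =>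
    exists_map _ (by
      rw [← hq a, Category.assoc, Iso.inv_hom_id_assoc, reassoc_of% (Φ.fac a), toBase_naturality])
  choose π hπ using hπm
  let πn : (Functor.const Φ.Iᵒᵖ).obj X ⟶ D :=
    { app := π
      naturality := fun a b u => by
        refine (Category.id_comp _).trans ((shr g).map_injective ?_)
        change (shr g).map (π b) = (shr g).map (π a ≫ r u)
        rw [Functor.map_comp, hπ, hπ, hr, Category.assoc, Iso.inv_hom_id_assoc, ← Category.assoc]
        exact congrArg (· ≫ (q b).inv) ((Category.id_comp _).symm.trans (Φ.π.naturality u)) }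
  let cs : Cone D → Cone Φ.D := fun s =>
    { pt := (shr g).obj s.pt
      π := { app := fun a => (shr g).map (s.π.app a) ≫ (q a).hom
             naturality := fun a b u => by
               refine (Category.id_comp _).trans ?_
               rw [← s.w u, Functor.map_comp, Category.assoc, Category.assoc]
               change _ ≫ (shr g).map (r u) ≫ _ = _
               rw [hr, Category.assoc, Category.assoc, Iso.inv_hom_id, Category.comp_id] } }
  have hfac : ∀ (s : Cone D) (a : Φ.Iᵒᵖ), Φ.isLimit.lift (cs s) ≫ Φ.π.app a = (shr g).map (s.π.app a) ≫ (q a).hom :=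
    fun s a => Φ.isLimit.fac (cs s) a
  have hlift : ∀ s : Cone D, ∃ m : s.pt ⟶ X, (shr g).map m = Φ.isLimit.lift (cs s) := fun s => by
    obtain ⟨a⟩ : Nonempty Φ.Iᵒᵖ := inferInstance
    refine exists_map _ ?_
    refine (congrArg (Φ.isLimit.lift (cs s) ≫ ·) ((toBase_naturality g f).symm.trans
      ((congrArg (· ≫ toBase g Y) (Φ.fac a).symm).trans (Category.assoc _ _ _)))).trans ?_
    rw [reassoc_of% (hfac s a), hq, toBase_naturality]
    rfl
  choose m hm using hlift
  have hl : IsLimit (Cone.mk X πn) :=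
    { lift := m
      fac := fun s a => (shr g).map_injective (by
        change (shr g).map (m s ≫ π a) = _
        rw [Functor.map_comp, hπ, hm, reassoc_of% (hfac s a), Iso.hom_inv_id, Category.comp_id])
      uniq := fun s m' hm' => (shr g).map_injective (Φ.isLimit.hom_ext fun a => by
        rw [hm]
        refine Eq.trans ?_ (hfac s a).symm
        change (shr g).map m' ≫ Φ.π.app a = _
        rw [← hm' a]
        change _ = (shr g).map (m' ≫ π a) ≫ _
        rw [Functor.map_comp, hπ, Category.assoc, Category.assoc, Iso.inv_hom_id, Category.comp_id]) }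
  have halg : ∀ a, IsAlgSpace (F a) := fun a => isAlgSpace_of_shr (IsAlgSpace.of_iso (Φ.alg a) (q a).symm)
  have hqc : ∀ a, IsQuasiCompactSp (F a) := fun a => isQuasiCompactSp_of_shr' g (by
    obtain ⟨U, p, hp, hs, hc⟩ := Φ.qc a
    exact ⟨U, p ≫ (q a).inv, MorphismProperty.RespectsIso.postcomp _ _ _ hp,
      MorphismProperty.RespectsIso.postcomp _ _ _ hs, hc⟩)
  have hqsm : ∀ a, IsQuasiSeparatedMor (t a) := fun a => isQuasiSeparatedMor_of_shr g (by
    rw [ht]
    exact isQuasiSeparatedMor_of_isQuasiSeparatedSp _ (isQuasiSeparatedSp_of_mono (Φ.qs a) (q a).hom))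
  exact ⟨{
    I := Φ.I
    D := D
    t := tn
    π := πn
    isLimit := hl
    alg := halg
    affine := fun a b u => isAffineMor_iff.2 ((repWith_shr_iff g @IsAffineHom (r u)).1 (by
      rw [hr]
      exact MorphismProperty.RespectsIso.precomp _ _ _
        (MorphismProperty.RespectsIso.postcomp _ _ _ (isAffineMor_iff.1 (Φ.affine a b u)))))
    fp := fun a => ⟨locP_of_shr g (by
        rw [ht]
        exact locP_comp etLocal_lfp (isAlgSpace_shr (halg a)) (Φ.alg a) (isAlgSpace_shr hY)
          (locP_of_repWith etLocal_lfp (repWith_of_isIso _)) (Φ.fp a).1),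
      isQuasiCompactMor_of_qc_qs (halg a) hY _ (hqc a) hYs, hqsm a⟩
    qc := hqc
    qs := fun a => isQuasiSeparatedSp_of_mor (hqsm a) hYs
    fac := fun a => (shr g).map_injective (by
      change (shr g).map (π a ≫ t a) = _
      rw [Functor.map_comp, hπ, ht, Category.assoc, Iso.inv_hom_id_assoc, Φ.fac]) }⟩

/-- Relative approximation. -/
theorem exists_limit_fp_over [QuasiSeparatedSpace S] {X Y : Sp S} (f : X ⟶ Y) (hX : IsAlgSpace X) (hY : IsAlgSpace Y)
    (hXc : IsQuasiCompactSp X) (hXs : IsQuasiSeparatedSp X) (hYs : IsQuasiSeparatedSp Y) : Nonempty (SysOver f) := by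
  haveI := compactSpace_points_of_isQuasiCompactSp hXc
  obtain ⟨V, hV, hVc, hfV⟩ := AffImm.exists_compact_open_superset hY (isCompact_range (Points.continuous_map f))
  have hVa := isAlgSpace_openSub hY hV
  have hι := repWith_openSubι hV
  obtain ⟨f', hf'⟩ := exists_factor_open hι f (by rwa [range_openSubι hY])
  have hVq : IsQuasiCompactSp (openSub V) :=
    isQuasiCompactSp_of_isCompact_range hVa hι (by rwa [range_openSubι hY])
  obtain ⟨Φ⟩ := exists_sysOver_qs f' hX hVa hXc hXs hVq (isQuasiSeparatedSp_of_mono hYs (openSubι V))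
  exact ⟨{
    I := Φ.I
    D := Φ.D
    t := Φ.t ≫ (Functor.const _).map (openSubι V)
    π := Φ.π
    isLimit := Φ.isLimit
    alg := Φ.alg
    affine := Φ.affine
    fp := fun a => ⟨locP_comp etLocal_lfp (Φ.alg a) hVa hY (Φ.fp a).1
        (locP_of_repWith etLocal_lfp
          (repWith_le (fun _ _ k (_ : IsOpenImmersion k) => inferInstanceAs (LocallyOfFinitePresentation k)) hι)),
      isQuasiCompactMor_of_qc_qs (Φ.alg a) hY _ (Φ.qc a) hYs, isQuasiSeparatedMor_of_isQuasiSeparatedSp _ (Φ.qs a)⟩
    qc := Φ.qc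
    qs := Φ.qs
    fac := fun a => by
      change Φ.π.app a ≫ Φ.t.app a ≫ openSubι V = f
      rw [reassoc_of% (Φ.fac a), hf'] }⟩

end Groth.Agent.H12AlgSp.Approx
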