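import Groth.Agent.H12AlgSp.Approx.Base
import Mathlib.CategoryTheory.Filtered.Final
import Mathlib.CategoryTheory.Filtered.Connected

/-!
# The system of schemes defined by a scheme over a stage
-/

set_option autoImplicit false
set_option linter.style.haveILetI false
set_option maxHeartbeats 800000
set_option backward.isDefEq.respectTransparency false
universe u

open CategoryTheory CategoryTheory.Limits AlgebraicGeometry Opposite
open AlgSp Groth.Agent.H13AlgSp

namespace Groth.Agent.H12AlgSp.Approx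

variable {S : Scheme.{u}} {I : Type u} [Preorder I] [IsDirected I (fun a b => a ≤ b)]
  {D : Iᵒᵖ ⥤ Sp S} {c : Cone D}

/-- The base changes of a scheme over a stage form an affine system of schemes, whose limit is the base change
to the limit. -/
theorem exists_overlap_system (hDa : ∀ (i j : Iᵒᵖ) (φ : i ⟶ j), IsAffineMor (D.map φ)) (hc : IsLimit c) (i₀ : I)
    {W R : Over S} (wi : (yon S).obj W ⟶ D.obj (op i₀)) {g : R ⟶ W} {w : (yon S).obj R ⟶ c.pt}
    (sq : IsPullback ((yon S).map g) w wi (c.π.app (op i₀))) :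
    ∃ (K : {k : I // i₀ ≤ k}ᵒᵖ ⥤ Over S) (wk : ∀ k, (yon S).obj (K.obj k) ⟶ D.obj (op k.unop.1))
      (cK : Cone K) (_ : IsLimit cK) (eK : cK.pt ≅ R) (t : ∀ k, K.obj k ⟶ W),
      (∀ (k l : {k : I // i₀ ≤ k}ᵒᵖ) (a : k ⟶ l), IsAffineHom (K.map a).left) ∧
      (∀ k, IsAffineHom (t k).left ∧ IsPullback ((yon S).map (t k)) (wk k) wi (D.map (homOfLE k.unop.2).op)) ∧
      (∀ k l (a : k ⟶ l), IsPullback ((yon S).map (K.map a)) (wk k) (wk l) (D.map (homOfLE a.unop.le).op)) ∧
      (∀ k, IsPullback ((yon S).map (eK.inv ≫ cK.π.app k)) w (wk k) (c.π.app (op k.unop.1))) := by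
  let J := {k : I // i₀ ≤ k}
  have hobj : ∀ k : Jᵒᵖ, ∃ (T : Over S) (t : T ⟶ W) (v : (yon S).obj T ⟶ D.obj (op k.unop.1)),
      IsAffineHom t.left ∧ IsPullback ((yon S).map t) v wi (D.map (homOfLE k.unop.2).op) := fun k => by
    have haff : RepWith @IsAffineHom (pullback.fst wi (D.map (homOfLE k.unop.2).op)) :=
      repWith_of_isPullback (IsPullback.of_hasPullback _ _).flip (isAffineMor_iff.1 (hDa _ _ _))
    obtain ⟨T, ⟨e⟩⟩ := exists_iso_yon_of_representable haff.1
    obtain ⟨t, ht⟩ := (yon S).map_surjective (e.hom ≫ pullback.fst wi (D.map (homOfLE k.unop.2).op))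
    refine ⟨T, t, e.hom ≫ pullback.snd wi (D.map (homOfLE k.unop.2).op), (repWith_yon_map_iff @IsAffineHom t).1 ?_, ?_⟩
    · rw [ht]; exact MorphismProperty.RespectsIso.precomp _ _ _ haff
    · rw [ht]
      exact (IsPullback.of_hasPullback _ _).of_iso e.symm (Iso.refl _) (Iso.refl _) (Iso.refl _)
        (by simp) (by simp) (by simp) (by simp)
  choose T t v hta hsq using hobj
  have hmap : ∀ {k l : Jᵒᵖ} (a : k ⟶ l), ∃ m : T k ⟶ T l, (yon S).map m ≫ (yon S).map (t l) = (yon S).map (t k) ∧
      (yon S).map m ≫ v l = v k ≫ D.map (homOfLE (show l.unop.1 ≤ k.unop.1 from a.unop.le)).op := fun {k l} a => by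
    obtain ⟨m', h₁, h₂⟩ := (hsq l).exists_lift ((yon S).map (t k))
      (v k ≫ D.map (homOfLE (show l.unop.1 ≤ k.unop.1 from a.unop.le)).op) (by
      rw [(hsq k).w, Category.assoc, ← D.map_comp]; rfl)
    obtain ⟨m, rfl⟩ := (yon S).map_surjective m'
    exact ⟨m, h₁, h₂⟩
  choose m hm₁ hm₂ using @hmap
  let K : Jᵒᵖ ⥤ Over S :=
    { obj := T
      map := fun {k l} a => m a
      map_id := fun k => (yon S).map_injective ((hsq k).hom_ext (by rw [hm₁, CategoryTheory.Functor.map_id, Category.id_comp])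
        (by
          rw [hm₂, CategoryTheory.Functor.map_id, Category.id_comp]
          exact (congrArg (v k ≫ ·) (D.map_id _)).trans (Category.comp_id _)))
      map_comp := fun {k l n} a b => (yon S).map_injective ((hsq n).hom_ext
        (by rw [hm₁, Functor.map_comp, Category.assoc, hm₁, hm₁])
        (by rw [hm₂, Functor.map_comp, Category.assoc, hm₂, reassoc_of% hm₂, ← D.map_comp]; rfl)) }
  have hsqm : ∀ {k l : Jᵒᵖ} (a : k ⟶ l),
      IsPullback ((yon S).map (K.map a)) (v k) (v l) (D.map (homOfLE (show l.unop.1 ≤ k.unop.1 from a.unop.le)).op) := fun {k l} a => by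
    refine IsPullback.of_right (h₁₂ := (yon S).map (t l)) (v₁₃ := wi) (h₂₂ := D.map (homOfLE l.unop.2).op) ?_
      (hm₂ a) (hsq l)
    rw [show (yon S).map (K.map a) ≫ (yon S).map (t l) = (yon S).map (t k) from hm₁ a, ← D.map_comp]
    exact hsq k
  have hproj : ∀ k : Jᵒᵖ, ∃ p : R ⟶ T k, (yon S).map p ≫ (yon S).map (t k) = (yon S).map g ∧
      (yon S).map p ≫ v k = w ≫ c.π.app (op k.unop.1) := fun k => by
    obtain ⟨p', h₁, h₂⟩ := (hsq k).exists_lift ((yon S).map g) (w ≫ c.π.app (op k.unop.1)) (by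
      rw [sq.w, Category.assoc, c.w])
    obtain ⟨p, rfl⟩ := (yon S).map_surjective p'
    exact ⟨p, h₁, h₂⟩
  choose pr hp₁ hp₂ using hproj
  have hsqp : ∀ k, IsPullback ((yon S).map (pr k)) w (v k) (c.π.app (op k.unop.1)) := fun k => by
    refine IsPullback.of_right (h₁₂ := (yon S).map (t k)) (v₁₃ := wi) (h₂₂ := D.map (homOfLE k.unop.2).op) ?_
      (hp₂ k) (hsq k)
    rw [hp₁, c.w]
    exact sq
  let cK : Cone K :=
    { pt := R
      π := { app := fun k => pr k
             naturality := fun k l a => (yon S).map_injective ((hsq l).hom_ext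
               (by
                 simp only [Functor.const_obj_map, CategoryTheory.Functor.map_id, Category.id_comp, Functor.map_comp, Category.assoc]
                 rw [show (yon S).map (𝟙 R) = 𝟙 _ from (yon S).map_id R]
                 refine (Category.id_comp _).trans ?_
                 rw [hp₁, show (yon S).map (K.map a) ≫ (yon S).map (t l) = (yon S).map (t k) from hm₁ a, hp₁])
               (by
                 simp only [Functor.const_obj_map, CategoryTheory.Functor.map_id, Category.id_comp, Functor.map_comp, Category.assoc]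
                 rw [show (yon S).map (𝟙 R) = 𝟙 _ from (yon S).map_id R]
                 refine (Category.id_comp _).trans ?_
                 rw [hp₂, show (yon S).map (K.map a) ≫ v l = v k ≫ _ from hm₂ a, reassoc_of% (hp₂ k), c.w])) } }
  let ι : J → I := Subtype.val
  have hι : Monotone ι := fun _ _ h => h
  haveI : Nonempty J := ⟨⟨i₀, le_rfl⟩⟩
  haveI : IsDirected J (fun a b => a ≤ b) := ⟨fun a b => by
    obtain ⟨k, ha, hb⟩ := directed_of (fun a b => a ≤ b) a.1 b.1
    exact ⟨⟨k, a.2.trans ha⟩, ha, hb⟩⟩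
  haveI : hι.functor.Final := hι.final_functor_iff.2 fun i => by
    obtain ⟨k, hk₁, hk₂⟩ := directed_of (fun a b => a ≤ b) i i₀
    exact ⟨⟨k, hk₂⟩, hk₁⟩
  let F : Jᵒᵖ ⥤ Iᵒᵖ := hι.functor.op
  haveI : IsFiltered J := inferInstance
  haveI : CategoryTheory.IsConnected Jᵒᵖ :=
    haveI := IsFiltered.isConnected J
    isConnected_op
  let α : K ⋙ yon S ⟶ F ⋙ D :=
    { app := fun k => v k
      naturality := fun k l a => hm₂ a }
  let cB : Cone (K ⋙ yon S) := (yon S).mapCone cK
  have hlim : IsLimit cB := isLimitOfIsPullbackOfIsConnected α cB (c.whisker F)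
    { hom := w, w := fun k => (hsqp k).w.symm } (fun k => hsqp k)
    ((Functor.Initial.isLimitWhiskerEquiv F c).symm hc)
  refine ⟨K, v, cK, isLimitOfReflects (yon S) hlim, Iso.refl _, t, fun k l a => ?_, fun k => ⟨hta k, hsq k⟩,
    fun k l a => hsqm a, fun k => ?_⟩
  · have haff : RepWith @IsAffineHom ((yon S).map (K.map a)) :=
      repWith_of_isPullback (hsqm a).flip (isAffineMor_iff.1 (hDa _ _ _))
    exact (repWith_yon_map_iff @IsAffineHom _).1 haff
  · have e : (Iso.refl cK.pt).inv ≫ cK.π.app k = pr k := Category.id_comp _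
    rw [e]
    exact hsqp k

end Groth.Agent.H12AlgSp.Approx
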