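import Groth.Agent.H12AlgSp.Approx.Base
import Groth.Agent.H7Lim.FPDescent.Exists
import Groth.Agent.H7Lim.Approx.OverSystem
import Groth.Agent.S10013
import Groth.Agent.S10020

/-!
# Separated étale schemes over a limit of algebraic spaces come from a stage
-/

set_option autoImplicit false
set_option linter.style.haveILetI false
set_option backward.isDefEq.respectTransparency false
set_option maxHeartbeats 800000
universe u

open CategoryTheory CategoryTheory.Limits AlgebraicGeometry Opposite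
open AlgSp Groth.Agent.H13AlgSp

namespace Groth.Agent.H12AlgSp.Approx

variable {S : Scheme.{u}} [QuasiSeparatedSpace S] {I : Type u} [SmallCategory I] [IsCofiltered I]
  {D : I ⥤ Sp S} {c : Cone D}

omit [QuasiSeparatedSpace S] in
/-- A scheme of finite presentation over the base, mapping to an algebraic space locally of finite presentation
over the base, is locally of finite presentation over it. -/
theorem locP_lfp_of_strMap {X Y : Sp S} (hY : IsAlgSpace Y) {f : X ⟶ Y}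
    (hX : LocP @LocallyOfFinitePresentation (strMap X)) (hYl : LocP @LocallyOfFinitePresentation (strMap Y)) :
    LocP @LocallyOfFinitePresentation f :=
  locP_of_postcomp etLocal_lfp (fun _ _ _ g h hgh hh =>
    have : LocallyOfFinitePresentation (g ≫ h) := hgh
    have : LocallyOfFinitePresentation h := hh
    lfp_of_comp g h) (IsAlgSpace.yon_obj _) ((strMap_ext (strMap X) (f ≫ strMap Y)) ▸ hX) hYl

omit [QuasiSeparatedSpace S] [IsCofiltered I] in
/-- Moving a scheme over a stage to a later stage. -/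
theorem exists_stage (hDa : ∀ (i j : I) (φ : i ⟶ j), IsAffineMor (D.map φ)) {i₁ i₂ : I} {W P : Over S}
    {g : W ⟶ P} {w : (yon S).obj W ⟶ c.pt} {wi : (yon S).obj P ⟶ D.obj i₁}
    (sq : IsPullback ((yon S).map g) w wi (c.π.app i₁)) (hc : CompactSpace P.left)
    (hs : QuasiSeparatedSpace P.left) (hl : LocallyOfFinitePresentation P.hom) (φ : i₂ ⟶ i₁)
    (hD : ∀ i, IsAlgSpace (D.obj i)) (hlfp : ∀ i, LocP @LocallyOfFinitePresentation (strMap (D.obj i))) :
    ∃ (P₂ : Over S) (u : P₂ ⟶ P) (w₂ : (yon S).obj P₂ ⟶ D.obj i₂) (g₂ : W ⟶ P₂),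
      IsPullback ((yon S).map g₂) w w₂ (c.π.app i₂) ∧ IsPullback ((yon S).map u) w₂ wi (D.map φ) ∧
        CompactSpace P₂.left ∧ QuasiSeparatedSpace P₂.left ∧ LocallyOfFinitePresentation P₂.hom := by
  have haff : RepWith @IsAffineHom (pullback.fst wi (D.map φ)) :=
    repWith_of_isPullback (IsPullback.of_hasPullback wi (D.map φ)).flip (isAffineMor_iff.1 (hDa _ _ φ))
  obtain ⟨P₂, ⟨e⟩⟩ := exists_iso_yon_of_representable haff.1
  obtain ⟨u, hu⟩ := (yon S).map_surjective (e.hom ≫ pullback.fst wi (D.map φ))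
  have sqg : IsPullback ((yon S).map u) (e.hom ≫ pullback.snd wi (D.map φ)) wi (D.map φ) := by
    rw [hu]
    exact (IsPullback.of_hasPullback wi (D.map φ)).of_iso e.symm (Iso.refl _) (Iso.refl _) (Iso.refl _)
      (by simp) (by simp) (by simp) (by simp)
  obtain ⟨g', hg₁, hg₂⟩ := sqg.exists_lift ((yon S).map g) (w ≫ c.π.app i₂) (by rw [sq.w, Category.assoc, c.w])
  obtain ⟨g₂, rfl⟩ := (yon S).map_surjective g'
  haveI : IsAffineHom u.left := (repWith_yon_map_iff @IsAffineHom u).1 (by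
    rw [hu]; exact MorphismProperty.RespectsIso.precomp _ _ _ haff)
  refine ⟨P₂, u, _, g₂, ?_, sqg, QuasiCompact.compactSpace_of_compactSpace u.left,
    quasiSeparatedSpace_of_quasiSeparated u.left, ?_⟩
  · refine IsPullback.of_right (h₁₂ := (yon S).map u) (h₂₂ := D.map φ) (v₁₃ := wi) ?_ hg₂ sqg
    rw [hg₁, c.w]
    exact sq
  · refine lfp_hom_of_locP (strMap_ext ((yon S).map u ≫ strMap ((yon S).obj P)) (strMap _) ▸ ?_)
    exact locP_comp etLocal_lfp (IsAlgSpace.yon_obj _) (IsAlgSpace.yon_obj _) (IsAlgSpace.yon_obj _)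
      (locP_of_isPullback etLocal_lfp sqg.flip (hD i₂) (hD i₁) (IsAlgSpace.yon_obj P)
        (locP_lfp_of_strMap (hD i₁) (hlfp i₂) (hlfp i₁)))
      (locP_lfp_strMap_yon hl)

/-- A quasi-compact separated étale scheme over the limit of an affine system of spaces of finite presentation
comes from a stage. -/
theorem exists_etale_stage (hD : ∀ i, IsAlgSpace (D.obj i)) (hDa : ∀ (i j : I) (φ : i ⟶ j), IsAffineMor (D.map φ))
    (hc : IsLimit c) (hqc : ∀ i, IsQuasiCompactSp (D.obj i)) (hqs : ∀ i, IsQuasiSeparatedSp (D.obj i))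
    (hlfp : ∀ i, LocP @LocallyOfFinitePresentation (strMap (D.obj i)))
    {W : Over S} [CompactSpace W.left] [QuasiSeparatedSpace W.left] (w : (yon S).obj W ⟶ c.pt)
    (hwe : RepWith @Etale w) (hws : IsSeparatedMor w) :
    ∃ (i : I) (Wi : Over S) (wi : (yon S).obj Wi ⟶ D.obj i) (g : W ⟶ Wi),
      RepWith @Etale wi ∧ IsSeparatedMor wi ∧ CompactSpace Wi.left ∧ QuasiSeparatedSpace Wi.left ∧
        LocallyOfFinitePresentation Wi.hom ∧ IsPullback ((yon S).map g) w wi (c.π.app i) := by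
  classical
  let i₀ : I := IsCofiltered.nonempty.some
  have hcpt := isAlgSpace_limit_and_affine hDa hc hD
  -- a finitely presented scheme through which the composite factors
  obtain ⟨J, _, _, _, K, cK, hcK, hKp, hKa, ⟨eK⟩⟩ := Groth.Agent.H7Lim.Approx.exists_fp_system W.hom
  let eW : cK.pt ≅ W := eK
  obtain ⟨b, z, hz⟩ := exists_factor_scheme (hD i₀) (hlfp i₀) K cK hcK hKa (fun j => (hKp j).2.2.2.1)
    (fun j => (hKp j).2.2.2.2) ((yon S).map eW.hom ≫ w ≫ c.π.app i₀)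
  let Wb := K.obj b
  haveI : CompactSpace Wb.left := (hKp b).2.2.2.1
  haveI : QuasiSeparatedSpace Wb.left := (hKp b).2.2.2.2
  let pb : (yon S).obj W ⟶ (yon S).obj Wb := (yon S).map (eW.inv ≫ cK.π.app b)
  have hpb : pb ≫ z = w ≫ c.π.app i₀ := by
    show (yon S).map (eW.inv ≫ cK.π.app b) ≫ z = w ≫ c.π.app i₀
    rw [Functor.map_comp, Category.assoc]
    refine (congrArg ((yon S).map eW.inv ≫ ·) hz).trans ?_
    rw [← Category.assoc, ← Functor.map_comp, eW.inv_hom_id, CategoryTheory.Functor.map_id, Category.id_comp]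
  -- the system of its base changes
  obtain ⟨Y, pY, qY, hY⟩ : ∃ (Y : Sp S) (pY : Y ⟶ (yon S).obj Wb) (qY : Y ⟶ c.pt),
      IsPullback pY qY z (c.π.app i₀) := ⟨_, _, _, IsPullback.of_hasPullback _ _⟩
  let B := bcDiagram D z
  obtain ⟨hBl⟩ := nonempty_isLimit_bcCone D z hY hc
  let n : Over i₀ := Over.mk (𝟙 i₀)
  have : IsIso (D.map n.hom) := by
    show IsIso (D.map (𝟙 i₀))
    rw [CategoryTheory.Functor.map_id]; infer_instance
  have : IsIso (pullback.fst z (D.map n.hom)) := inferInstance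
  let eZ : (yon S).obj Wb ≅ B.obj n := (asIso (pullback.fst z (D.map n.hom))).symm
  obtain ⟨L, cL, hcL, μ, e, hLa, hμ⟩ := exists_scheme_limit (isAffineMor_bcDiagram_map hDa) hBl eZ
  obtain ⟨m₀, hm₁, hm₂⟩ := hY.exists_lift pb w hpb
  obtain ⟨m, hm⟩ := (yon S).map_surjective (m₀ ≫ e.inv)
  have hYalg : IsAlgSpace Y := isAlgSpace_of_isPullback (hD i₀).diag (IsAlgSpace.yon_obj Wb) hcpt.1 hY
  have hzlfp : LocP @LocallyOfFinitePresentation z :=
    locP_lfp_of_strMap (hD i₀) (locP_lfp_strMap_yon (hKp b).1) (hlfp i₀)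
  have hqYlfp : LocP @LocallyOfFinitePresentation qY :=
    locP_of_isPullback etLocal_lfp hY (IsAlgSpace.yon_obj Wb) (hD i₀) hcpt.1 hzlfp
  have hm0lfp : LocP @LocallyOfFinitePresentation m₀ :=
    locP_of_postcomp etLocal_lfp (fun _ _ _ g h hgh hh =>
      have : LocallyOfFinitePresentation (g ≫ h) := hgh
      have : LocallyOfFinitePresentation h := hh
      lfp_of_comp g h) hcpt.1 (g := qY) (by
        rw [hm₂]
        exact locP_of_repWith etLocal_lfp
          (repWith_le (fun _ _ k (_ : Etale k) => inferInstanceAs (LocallyOfFinitePresentation k)) hwe)) hqYlfp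
  haveI : LocallyOfFinitePresentation m.left := (locP_yon_iff etLocal_lfp m).1 (by
    rw [hm]
    haveI : MorphismProperty.ContainsIdentities (@LocallyOfFinitePresentation : MorphismProperty Scheme.{u}) :=
      ⟨fun _ => inferInstance⟩
    exact locP_comp etLocal_lfp (IsAlgSpace.yon_obj W) hYalg (IsAlgSpace.yon_obj _) hm0lfp
      (locP_of_repWith etLocal_lfp (repWith_of_isIso e.inv)))
  -- the schemes of the system are quasi-compact and quasi-separated
  have hBqc : ∀ j, IsQuasiCompactSp (B.obj j) :=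
    isQuasiCompactSp_bcDiagram hD hDa (IsAlgSpace.yon_obj Wb) (isQuasiCompactSp_yon_iff.2 ‹_›)
  have hBqs : ∀ j, IsQuasiSeparatedSp (B.obj j) :=
    isQuasiSeparatedSp_bcDiagram hDa (isQuasiSeparatedSp_yon ‹_›)
  haveI : ∀ (i j : Over n) (f : i ⟶ j), IsAffineHom ((L ⋙ Over.forget S).map f) := fun i j f => hLa i j f
  haveI hLn : ∀ j, IsAffineHom (L.map (Over.homMk j.hom (Category.comp_id _) : j ⟶ Over.mk (𝟙 n))).left :=
    fun j => hLa _ _ _
  obtain ⟨eLn⟩ : Nonempty (L.obj (Over.mk (𝟙 n)) ≅ Wb) :=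
    ⟨(yon S).preimageIso (μ.app _ ≪≫ eZ.symm)⟩
  have eLn' : (L.obj (Over.mk (𝟙 n))).left ≅ Wb.left := (Over.forget S).mapIso eLn
  haveI : CompactSpace (L.obj (Over.mk (𝟙 n))).left := eLn'.symm.hom.homeomorph.compactSpace
  haveI : QuasiSeparatedSpace (L.obj (Over.mk (𝟙 n))).left := quasiSeparatedSpace_of_quasiSeparated eLn'.hom
  haveI : ∀ j, CompactSpace ((L ⋙ Over.forget S).obj j) := fun j =>
    haveI := hLn j
    QuasiCompact.compactSpace_of_compactSpace (L.map (Over.homMk j.hom (Category.comp_id _) : j ⟶ Over.mk (𝟙 n))).left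
  haveI : ∀ j, QuasiSeparatedSpace ((L ⋙ Over.forget S).obj j) := fun j =>
    haveI := hLn j
    quasiSeparatedSpace_of_quasiSeparated (L.map (Over.homMk j.hom (Category.comp_id _) : j ⟶ Over.mk (𝟙 n))).left
  let hlimL : IsLimit ((Over.forget S).mapCone cL) := isLimitOfPreserves _ hcL
  haveI : QuasiSeparatedSpace cL.pt.left := by
    haveI := isAffineHom_π_app (L ⋙ Over.forget S) _ hlimL (Over.mk (𝟙 n))
    exact quasiSeparatedSpace_of_quasiSeparated (((Over.forget S).mapCone cL).π.app (Over.mk (𝟙 n)))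
  haveI : QuasiCompact m.left := quasiCompact_of_compactSpace _
  haveI : QuasiSeparated m.left := QuasiSeparated.of_comp m.left (terminal.from _)
  obtain ⟨j, ⟨M⟩⟩ := Groth.Agent.H7Lim.FPDescent.exists_model hlimL m.left
  -- the model as a scheme over the base
  let P : Over S := Over.mk (M.p ≫ (L.obj j).hom)
  let p : P ⟶ L.obj j := Over.homMk M.p rfl
  let g : W ⟶ P := Over.homMk M.g (by
    show M.g ≫ M.p ≫ (L.obj j).hom = W.hom
    rw [← Category.assoc, M.hpb.w, Category.assoc]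
    exact ((congrArg (m.left ≫ ·) (Over.w (cL.π.app j))).trans (Over.w m)))
  have sq₁ : IsPullback g m p (cL.π.app j) :=
    IsPullback.of_map (Over.forget S) (Over.OverMorphism.ext M.hpb.w) M.hpb
  let i₁ : I := j.left.left
  let φ₁ : i₁ ⟶ i₀ := j.left.hom
  let wi : (yon S).obj P ⟶ D.obj i₁ := (yon S).map p ≫ μ.hom.app j ≫ (bcSnd D z).app j.left
  have sq₁' : IsPullback ((yon S).map g) m₀ ((yon S).map p ≫ μ.hom.app j) ((bcCone D z hY).π.app j.left) := by
    refine (sq₁.map (yon S)).of_iso (Iso.refl _) (Iso.refl _) e (μ.app j) ?_ ?_ ?_ ?_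
    · simp
    · simp [hm]
    · simp
    · simpa using (hμ j).symm
  have sq : IsPullback ((yon S).map g) w wi (c.π.app i₁) := by
    have h := sq₁'.paste_vert (isPullback_bcCone_π D z hY j.left)
    rw [show m₀ ≫ qY = w from hm₂, Category.assoc] at h
    exact h
  have hPc : CompactSpace P.left := QuasiCompact.compactSpace_of_compactSpace M.p
  have hPs : QuasiSeparatedSpace P.left := quasiSeparatedSpace_of_quasiSeparated M.p
  have hwilfp : LocP @LocallyOfFinitePresentation wi := by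
    refine locP_comp etLocal_lfp (IsAlgSpace.yon_obj P) (IsAlgSpace.yon_obj _) (hD i₁)
      ((locP_yon_iff etLocal_lfp p).2 M.lfp) ?_
    haveI : MorphismProperty.ContainsIdentities (@LocallyOfFinitePresentation : MorphismProperty Scheme.{u}) :=
      ⟨fun _ => inferInstance⟩
    have hBalg : IsAlgSpace (B.obj j.left) := isAlgSpace_bcDiagram hD (IsAlgSpace.yon_obj Wb) j.left
    exact locP_comp etLocal_lfp (IsAlgSpace.yon_obj _) hBalg (hD i₁)
      (locP_of_repWith etLocal_lfp (repWith_of_isIso (μ.hom.app j)))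
      (locP_of_isPullback etLocal_lfp (isPullback_bcDiagram_fst D z j.left) (IsAlgSpace.yon_obj Wb) (hD i₀) (hD i₁)
        hzlfp)
  have hPlfp : LocallyOfFinitePresentation P.hom := lfp_hom_of_locP (strMap_ext (wi ≫ strMap (D.obj i₁)) (strMap _) ▸
    locP_comp etLocal_lfp (IsAlgSpace.yon_obj P) (hD i₁) (IsAlgSpace.yon_obj _) hwilfp (hlfp i₁))
  -- descend the properties
  let X₀ : Space S := ⟨(yon S).obj P, IsAlgSpace.yon_obj P⟩
  let Y₀ : Space S := ⟨D.obj i₁, hD i₁⟩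
  have hid : IsPullback (c.π.app i₁) (𝟙 c.pt) (𝟙 (D.obj i₁)) (c.π.app i₁) :=
    haveI : IsIso (𝟙 c.pt : c.pt ⟶ c.pt) := IsIso.id _
    IsPullback.of_vert_isIso ⟨by simp⟩
  obtain ⟨i₂, φ₂, h₂⟩ := Groth.Agent.S10013.result S D hD hDa c hc i₁ (hqc i₁) (hqs i₁) X₀ Y₀ wi (𝟙 _)
    (isQuasiCompactSp_yon_iff.2 hPc) (isQuasiSeparatedSp_yon hPs) (hqc i₁) (hqs i₁) _ _ w (c.π.app i₁) (𝟙 _) hid
    ((yon S).map g) sq (fun U f hf => repWith_comp hf hwe) hwilfp
  obtain ⟨W₂, u₂, w₂, g₂, sq₂, sqg₂, hW₂c, hW₂s, hW₂l⟩ :=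
    exists_stage hDa sq hPc hPs hPlfp φ₂ hD hlfp
  have hw₂ : RepWith @Etale w₂ := by
    have h := h₂ _ (D.obj i₂) w₂ (D.map φ₂) (𝟙 _) (IsPullback.of_vert_isIso ⟨by simp⟩) ((yon S).map u₂) sqg₂
    simpa using h (𝟙 _) (repWith_of_isIso _)
  let X₂ : Space S := ⟨(yon S).obj W₂, IsAlgSpace.yon_obj W₂⟩
  let Y₂ : Space S := ⟨D.obj i₂, hD i₂⟩
  obtain ⟨i₃, φ₃, h₃⟩ := Groth.Agent.S10020.result S D hD hDa c hc i₂ (hqc i₂) (hqs i₂) X₂ Y₂ w₂ (𝟙 _)
    (isQuasiCompactSp_yon_iff.2 hW₂c) (isQuasiSeparatedSp_yon hW₂s) (hqc i₂) (hqs i₂) _ _ w (c.π.app i₂) (𝟙 _)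
    (IsPullback.of_vert_isIso ⟨by simp⟩) ((yon S).map g₂) sq₂ hws
  obtain ⟨W₃, u₃, w₃, g₃, sq₃, sqg₃, hW₃c, hW₃s, hW₃l⟩ := exists_stage hDa sq₂ hW₂c hW₂s hW₂l φ₃ hD hlfp
  exact ⟨i₃, W₃, w₃, g₃, repWith_of_isPullback sqg₃ hw₂,
    h₃ _ (D.obj i₃) w₃ (D.map φ₃) (𝟙 _) (IsPullback.of_vert_isIso ⟨by simp⟩) ((yon S).map u₃) sqg₃, hW₃c, hW₃s,
    hW₃l, sq₃⟩

end Groth.Agent.H12AlgSp.Approx
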