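import Groth.Agent.H12AlgSp.Approx.StepPieces
import Groth.Agent.H12AlgSp.Approx.GlueProps
import Groth.Agent.H12AlgSp.Approx.GlueMap
import Groth.Agent.H12AlgSp.AffineLimit
import Groth.Agent.H12AlgSp.AbsInt.Base
import Groth.Agent.H12AlgSp.LimitSeparatedMor
import Groth.Agent.H13AlgSp.FpqcIso
import Mathlib.CategoryTheory.Filtered.Final

/-!
# Approximating a space glued from an approximated space and an affine scheme
-/

set_option autoImplicit false
set_option linter.style.haveILetI false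
set_option maxHeartbeats 1600000
set_option backward.isDefEq.respectTransparency false
universe u

open CategoryTheory CategoryTheory.Limits AlgebraicGeometry Opposite
open AlgSp Groth.Agent.H13AlgSp

namespace Groth.Agent.H12AlgSp.Approx

variable {S : Scheme.{u}}

theorem mem_range_of_yon {P P' A A' : Over S} {i : P ⟶ A} {i' : P' ⟶ A'} {φ : A ⟶ A'}
    (h : ∀ x : A.left, φ.left x ∈ Set.range i'.left → x ∈ Set.range i.left) (v : Points ((yon S).obj A))
    (hv : Points.map ((yon S).map φ) v ∈ Set.range (Points.map ((yon S).map i'))) :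
    v ∈ Set.range (Points.map ((yon S).map i)) := by
  obtain ⟨x, rfl⟩ := (Points.schemeHomeo A).surjective v
  obtain ⟨w, hw⟩ := hv
  obtain ⟨t, rfl⟩ := (Points.schemeHomeo P').surjective w
  rw [Points.map_yon_map_apply, Points.map_yon_map_apply] at hw
  obtain ⟨y, hy⟩ := h x ⟨t, (Points.schemeHomeo A').injective hw⟩
  exact ⟨Points.schemeHomeo P y, by rw [Points.map_yon_map_apply, hy]⟩

/-- The glueing step for a given overlap. -/
theorem exists_sys_of_pieces [QuasiSeparatedSpace S] {X U : Sp S} (hX : IsAlgSpace X) (hU : IsAlgSpace U) {A R : Over S} {j : U ⟶ X}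
    {f : (yon S).obj A ⟶ X} (hsq : IsElemDistSq j f) {w : R ⟶ A} [IsOpenImmersion w.left]
    {k : (yon S).obj R ⟶ U} (hP : IsPullback k ((yon S).map w) j f) {σ : Sys U} (P : Pieces σ w k) :
    Nonempty (Sys X) := by
  haveI := P.openIncl
  choose W jj ff hWalg hWsq hWP using fun a : P.Jᵒᵖ =>
    exists_glue (σ.alg (op (P.α a.unop))) (P.incl a) (P.pr a) (P.etalePr a) (P.sepPr a)
  let β : P.Jᵒᵖ ⥤ σ.Iᵒᵖ := P.α.monotone.functor.op
  let DU : P.Jᵒᵖ ⥤ Sp S := β ⋙ σ.D
  have hdesc : ∀ {a b : P.Jᵒᵖ} (φ : a ⟶ b), ∃! h : W a ⟶ W b,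
      jj a ≫ h = DU.map φ ≫ jj b ∧ ff a ≫ h = (yon S).map (P.A'.map φ) ≫ ff b := by
    intro a b φ
    refine existsUnique_desc_of_elemDistSq (hWsq a) (σ.alg _) (IsAlgSpace.yon_obj _) (hWalg a) (hWP a) _ _ ?_
    change P.pr a ≫ σ.D.map (homOfLE (P.α.mono φ.unop.le)).op ≫ jj b = _
    rw [← Category.assoc, ← (P.sqτ φ).w, Category.assoc, (hWP b).w, ← Category.assoc, ← Functor.map_comp,
      P.τ_incl, Functor.map_comp, Category.assoc]
  choose h hh huniq using fun (a b : P.Jᵒᵖ) (φ : a ⟶ b) => hdesc φ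
  let DW : P.Jᵒᵖ ⥤ Sp S :=
    { obj := W
      map := fun {a b} φ => h a b φ
      map_id := fun a => (huniq a a (𝟙 a) (𝟙 _) ⟨by simp, by simp⟩).symm
      map_comp := fun {a b c} φ ψ => (huniq a c (φ ≫ ψ) _
        ⟨by rw [reassoc_of% (hh a b φ).1, (hh b c ψ).1, DU.map_comp, Category.assoc],
          by rw [reassoc_of% (hh a b φ).2, (hh b c ψ).2, P.A'.map_comp, Functor.map_comp, Category.assoc]⟩).symm }
  have eU : ∀ {a b : P.Jᵒᵖ} (φ : a ⟶ b), IsPullback (jj a) (DU.map φ) (DW.map φ) (jj b) := fun {a b} φ =>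
    isPullback_open_part (hWsq a) (hWP a) (hWsq b).1 (hWP b) (hh a b φ).1
      (hh a b φ).2.symm (mem_range_of_yon (P.range_incl φ))
  have eA : ∀ {a b : P.Jᵒᵖ} (φ : a ⟶ b),
      IsPullback ((yon S).map (P.A'.map φ)) (ff a) (ff b) (DW.map φ) := fun {a b} φ =>
    isPullback_of_elemDistSq_map (hWsq a) (hWsq b) (hWalg a) (IsAlgSpace.yon_obj _) (hWalg b)
      (IsAlgSpace.yon_obj _) (hWP a) (hWP b) (eU φ) (P.sqτ φ) (hh a b φ).2.symm
      (by rw [← Functor.map_comp, ← Functor.map_comp, P.τ_incl])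
  have hfe : ∀ a, RepWith @Etale (ff a) := fun a => by
    simpa using (hWsq a).2.1 (𝟙 _) (repWith_of_isIso _)
  have hje : ∀ a, RepWith @Etale (jj a) := fun a =>
    repWith_le (fun _ _ k (_ : IsOpenImmersion k) => inferInstanceAs (Etale k)) (hWsq a).1
  have hWaff : ∀ (a b : P.Jᵒᵖ) (φ : a ⟶ b), IsAffineMor (DW.map φ) := fun a b φ =>
    isAffineMor_of_parts (hWalg a) (hWalg b) (hje b) (hfe b) (fun x => mem_range_map_of_elemDistSq (hWsq b) x)
      (eU φ) (eA φ).flip (σ.affine _ _ _)
      (isAffineMor_iff.2 ((repWith_yon_map_iff @IsAffineHom (P.A'.map φ)).2 (P.affineA a b φ)))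
  have hWprop : ∀ a, IsQuasiCompactSp (W a) ∧ IsQuasiSeparatedSp (W a) ∧
      LocP @LocallyOfFinitePresentation (strMap (W a)) := fun a =>
    haveI := P.compactA a
    haveI := P.qsA a
    haveI := P.compactP a
    glue_props (hWsq a) (hWalg a) (σ.alg _) (hWP a) (σ.qc _) (σ.qs _) (σ.lfp _) (P.lfpA a)
  -- the maps to the glued spaces
  have hdescX : ∀ a : P.Jᵒᵖ, ∃! x : X ⟶ W a,
      j ≫ x = σ.π.app (β.obj a) ≫ jj a ∧ f ≫ x = (yon S).map (P.pA.app a) ≫ ff a := by
    intro a
    refine existsUnique_desc_of_elemDistSq hsq hU (IsAlgSpace.yon_obj _) hX hP _ _ ?_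
    change k ≫ σ.π.app (op (P.α a.unop)) ≫ jj a = _
    rw [← Category.assoc, ← (P.sqρ a).w, Category.assoc, (hWP a).w, ← Category.assoc, ← Functor.map_comp,
      P.ρ_incl, Functor.map_comp, Category.assoc]
  choose χ hχ hχuniq using hdescX
  let cXW : Cone DW :=
    { pt := X
      π := { app := χ
             naturality := fun a b φ => (Category.id_comp _).trans (hχuniq b _ ⟨by
               show j ≫ χ a ≫ h a b φ = _
               rw [reassoc_of% (hχ a).1, (hh a b φ).1]
               exact (Category.assoc _ _ _).symm.trans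
                 (congrArg (· ≫ jj b) ((Cone.mk U σ.π).w (β.map φ))), by
               show f ≫ χ a ≫ h a b φ = _
               rw [reassoc_of% (hχ a).2, (hh a b φ).2, ← Category.assoc, ← Functor.map_comp]
               exact congrArg (fun t => (yon S).map t ≫ ff b) ((Cone.mk A P.pA).w φ)⟩).symm } }
  have eUinf : ∀ a, IsPullback j (σ.π.app (β.obj a)) (χ a) (jj a) := fun a =>
    isPullback_open_part hsq hP (hWsq a).1 (hWP a) (hχ a).1 (hχ a).2.symm
      (mem_range_of_yon (fun x hx => P.range_proj a x hx))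
  have eAinf : ∀ a, IsPullback ((yon S).map (P.pA.app a)) f (ff a) (χ a) := fun a =>
    isPullback_of_elemDistSq_map hsq (hWsq a) hX (IsAlgSpace.yon_obj _) (hWalg a)
      (IsAlgSpace.yon_obj _) hP (hWP a) (eUinf a) (P.sqρ a) (hχ a).2.symm
      (by rw [← Functor.map_comp, ← Functor.map_comp, P.ρ_incl])
  -- the limit
  haveI : IsDirectedOrder P.J := P.directed
  haveI : Functor.Final P.α.monotone.functor := P.α.monotone.final_functor_iff.2 P.cofinal
  let cL := limit.cone DW
  have hcL : IsLimit cL := limit.isLimit DW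
  obtain ⟨hL, -⟩ := isAlgSpace_limit_and_affine hWaff hcL hWalg
  let cU : Cone DU := (Cone.mk U σ.π).whisker β
  have hcU : IsLimit cU := (Functor.Initial.isLimitWhiskerEquiv β (Cone.mk U σ.π)).symm σ.isLimit
  let θ : X ⟶ cL.pt := hcL.lift cXW
  have hθ : ∀ a, θ ≫ cL.π.app a = χ a := fun a => hcL.fac cXW a
  have sU : ∀ n, IsPullback (σ.π.app (β.obj n)) (j ≫ θ) (jj n) (cL.π.app n) := fun n =>
    isPullback_of_isLimit (DU := DU) (DX := DW)
      { app := fun a => jj a, naturality := fun a b φ => (hh a b φ).1.symm }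
      hcU hcL (j ≫ θ) (fun a => by rw [Category.assoc, hθ]; exact (hχ a).1) (fun φ => (eU φ).flip) n
  have sA : ∀ n, IsPullback ((yon S).map (P.pA.app n)) (f ≫ θ) (ff n) (cL.π.app n) := fun n =>
    isPullback_of_isLimit (DU := P.A' ⋙ yon S) (DX := DW)
      { app := fun a => ff a, naturality := fun a b φ => (hh a b φ).2.symm }
      (isLimitOfPreserves (yon S) P.isLimitA) hcL (f ≫ θ)
      (fun a => by rw [Category.assoc, hθ]; exact (hχ a).2) (fun φ => eA φ) n
  obtain ⟨n⟩ : Nonempty P.Jᵒᵖ := IsCofiltered.nonempty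
  have tU : IsPullback j (𝟙 U) θ (j ≫ θ) := by
    refine (IsPullback.of_right ?_ (by simp) (sU n)).flip
    rw [Category.id_comp, hθ]
    exact (eUinf n).flip
  have tA : IsPullback f (𝟙 _) θ (f ≫ θ) := by
    refine (IsPullback.of_right ?_ (by simp) (sA n)).flip
    rw [Category.id_comp, hθ]
    exact eAinf n
  have hcover : IsFpqcCover (fun b : ULift.{u} Bool => if b.down then U else (yon S).obj A)
      (fun b => match b with | ⟨true⟩ => j ≫ θ | ⟨false⟩ => f ≫ θ) := by
    refine isFpqcCover_of_etale_family (fun b => ?_) fun z => ?_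
    · rcases b with ⟨_ | _⟩
      · exact repWith_of_isPullback (sA n) (hfe n)
      · exact repWith_of_isPullback (sU n) (hje n)
    · rcases mem_range_map_of_elemDistSq (hWsq n) (Points.map (cL.π.app n) z) with ⟨y, hy⟩ | ⟨y, hy⟩
      · obtain ⟨r, -, hr⟩ := exists_point_of_isPullback (sU n) y z hy
        exact ⟨⟨true⟩, r, hr⟩
      · obtain ⟨r, -, hr⟩ := exists_point_of_isPullback (sA n) y z hy
        exact ⟨⟨false⟩, r, hr⟩
  have hθiso : IsIso θ := by
    refine (isLocalOnBase_fpqc_isomorphisms _ _ hL (fun b => ?_) hcover θ hX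
      (fun b => if b.down then U else (yon S).obj A) (fun b => 𝟙 _)
      (fun b => match b with | ⟨true⟩ => j | ⟨false⟩ => f) (fun b => ?_) (fun b => ?_)).2 fun b => ?_
    · rcases b with ⟨_ | _⟩ <;> [exact IsAlgSpace.yon_obj _; exact hU]
    · rcases b with ⟨_ | _⟩ <;> [exact IsAlgSpace.yon_obj _; exact hU]
    · rcases b with ⟨_ | _⟩ <;> assumption
    · exact MorphismProperty.isomorphisms.infer_property _
  exact ⟨{
    I := P.J
    D := DW
    π := cXW.π
    isLimit := hcL.ofIsoLimit (Cone.ext (asIso θ).symm fun a => by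
      show cL.π.app a = inv θ ≫ χ a
      rw [← hθ, IsIso.inv_hom_id_assoc])
    alg := hWalg
    affine := hWaff
    qc := fun a => (hWprop a).1
    qs := fun a => (hWprop a).2.1
    lfp := fun a => (hWprop a).2.2 }⟩

/-- The glueing step. -/
theorem exists_sys_step (hS : IsTerminal S) [QuasiSeparatedSpace S] [IsLocallyNoetherian S] {X U : Sp S}
    (hX : IsAlgSpace X) (hXs : IsQuasiSeparatedSp X) (hU : IsAlgSpace U) (hUc : IsQuasiCompactSp U) {A : Over S}
    [IsAffine A.left] {j : U ⟶ X} {f : (yon S).obj A ⟶ X} (hsq : IsElemDistSq j f) (σ : Sys U) :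
    Nonempty (Sys X) := by
  have hje : RepWith @Etale j :=
    repWith_le (fun _ _ k (_ : IsOpenImmersion k) => inferInstanceAs (Etale k)) hsq.1
  have hfe : RepWith @Etale f := by simpa using hsq.2.1 (𝟙 _) (repWith_of_isIso _)
  obtain ⟨R, w, k, sq⟩ := hsq.1.1 f
  haveI : IsOpenImmersion w.left := hsq.1.2 f k w sq
  have hk : RepWith @Etale k := repWith_of_isPullback sq.flip hfe
  have hks : IsSeparatedMor k :=
    isSeparatedMor_of_isPullback sq.flip (AbsInt.isSeparatedMor_of_isSeparatedSp f isSeparatedSp_yon_affine)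
  haveI : CompactSpace R.left := by
    haveI := compactSpace_points_of_isQuasiCompactSp hUc
    obtain ⟨U₀, a₀, hU₀, ha₀, ha₀s⟩ := exists_affine_atlas hU
    haveI := hU₀
    obtain ⟨T, r₂, r₁', sqT⟩ := hX.representable_from_yon (a₀ ≫ j) f
    obtain ⟨r₁, rfl⟩ := (yon S).map_surjective r₁'
    haveI : CompactSpace T.left := compactSpace_of_isPullback' hXs sqT
    have h₁ : CompactSpace (Points (pullback j f)) :=
      compactSpace_points_pullback (κ := Unit) (fun _ => a₀)
        (fun x => ⟨(), surjective_map_of_repWith le_rfl ha₀s x⟩)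
        (fun _ => compactSpace_points_of_isPullback sqT)
    haveI := h₁
    exact compactSpace_of_points (compactSpace_points_of_cover (κ := Unit) (fun _ => sq.isoPullback.inv)
      (fun _ => h₁) fun z => ⟨(), Points.map sq.isoPullback.hom z, by
        rw [← Points.map_comp, Iso.hom_inv_id, Points.map_id]⟩)
  obtain ⟨P⟩ := exists_pieces hS σ w k hk hks
  exact exists_sys_of_pieces hX hU hsq sq P

end Groth.Agent.H12AlgSp.Approx
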