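import Groth.Agent.H12AlgSp.Approx.Base
import Groth.Agent.S10696
import Mathlib.CategoryTheory.Limits.Shapes.Pullback.Connected
import Mathlib.CategoryTheory.Filtered.Connected

/-!
# Approximating systems, and glueing
-/

set_option autoImplicit false
set_option linter.style.haveILetI false
set_option maxHeartbeats 800000
set_option backward.isDefEq.respectTransparency false
universe u

open CategoryTheory CategoryTheory.Limits AlgebraicGeometry Opposite
open AlgSp Groth.Agent.H13AlgSp

namespace Groth.Agent.H12AlgSp.Approx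

variable {S : Scheme.{u}}

/-- An approximation of a space by spaces of finite presentation over the base. -/
structure Sys (X : Sp S) where
  /-- The index set. -/
  I : Type u
  [preorder : Preorder I]
  [directed : IsDirected I (fun a b => a ≤ b)]
  [nonempty : Nonempty I]
  /-- The system. -/
  D : Iᵒᵖ ⥤ Sp S
  /-- The projections. -/
  π : (Functor.const Iᵒᵖ).obj X ⟶ D
  isLimit : IsLimit (Cone.mk X π)
  alg : ∀ i, IsAlgSpace (D.obj i)
  affine : ∀ (i j : Iᵒᵖ) (φ : i ⟶ j), IsAffineMor (D.map φ)
  qc : ∀ i, IsQuasiCompactSp (D.obj i)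
  qs : ∀ i, IsQuasiSeparatedSp (D.obj i)
  lfp : ∀ i, LocP @LocallyOfFinitePresentation (strMap (D.obj i))

attribute [instance] Sys.preorder Sys.directed Sys.nonempty

/-- Glueing a space and a scheme along an open of the scheme which is separated and étale over the space. -/
theorem exists_glue {U : Sp S} (hU : IsAlgSpace U) {A P : Over S} (q : P ⟶ A) [IsOpenImmersion q.left]
    (f' : (yon S).obj P ⟶ U) (he : RepWith @Etale f') (hs : IsSeparatedMor f') :
    ∃ (W : Sp S) (j : U ⟶ W) (f : (yon S).obj A ⟶ W), IsAlgSpace W ∧ IsElemDistSq j f ∧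
      IsPullback f' ((yon S).map q) j f := by
  obtain ⟨W, j, f, -, sq, hsq⟩ := Groth.Agent.S10696.result (U := ⟨U, hU⟩) (V := ⟨(yon S).obj A, IsAlgSpace.yon_obj A⟩)
    (V' := ⟨(yon S).obj P, IsAlgSpace.yon_obj P⟩) (InducedCategory.homMk ((yon S).map q))
    ((repWith_yon_map_iff @IsOpenImmersion q).2 ‹_›) (InducedCategory.homMk f') hs (fun _ φ hφ => repWith_comp hφ he)
  exact ⟨W.obj, j.hom, f.hom, W.property, hsq, sq.flip⟩

/-- An equifibred map of affine systems is cartesian at the limit. -/
theorem isPullback_of_isLimit {J : Type u} [SmallCategory J] [IsCofiltered J] {DU DX : J ⥤ Sp S}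
    (α : DU ⟶ DX) {cU : Cone DU} (hcU : IsLimit cU) {cX : Cone DX} (hcX : IsLimit cX) (θ : cU.pt ⟶ cX.pt)
    (hθ : ∀ j, θ ≫ cX.π.app j = cU.π.app j ≫ α.app j)
    (sq : ∀ {j k : J} (a : j ⟶ k), IsPullback (DU.map a) (α.app j) (α.app k) (DX.map a)) (n : J) :
    IsPullback (cU.π.app n) θ (α.app n) (cX.π.app n) := by
  obtain ⟨P, qn, p, sqP⟩ : ∃ (P : Sp S) (qn : P ⟶ DU.obj n) (p : P ⟶ cX.pt),
      IsPullback qn p (α.app n) (cX.π.app n) := ⟨_, _, _, IsPullback.of_hasPullback _ _⟩
  have hpr : ∀ j : Over n, ∃ r : P ⟶ DU.obj j.left, r ≫ DU.map j.hom = qn ∧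
      r ≫ α.app j.left = p ≫ cX.π.app j.left := fun j => by
    obtain ⟨r, h₁, h₂⟩ := (sq j.hom).exists_lift qn (p ≫ cX.π.app j.left)
      (by rw [sqP.w, Category.assoc, cX.w])
    exact ⟨r, h₁, h₂⟩
  choose r hr₁ hr₂ using hpr
  let F : Over n ⥤ J := Over.forget n
  haveI : CategoryTheory.IsConnected (Over n) := IsCofiltered.isConnected _
  let cP : Cone (F ⋙ DU) :=
    { pt := P
      π := { app := r
             naturality := fun j k a => by
               refine (Category.id_comp _).trans ((sq k.hom).hom_ext ?_ ?_)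
               · rw [hr₁, Category.assoc]
                 change qn = r j ≫ DU.map a.left ≫ DU.map k.hom
                 rw [← DU.map_comp, Over.w a, hr₁]
               · rw [hr₂, Category.assoc]
                 change _ = r j ≫ DU.map a.left ≫ α.app k.left
                 rw [α.naturality, reassoc_of% (hr₂ j)]
                 change _ = p ≫ cX.π.app j.left ≫ DX.map a.left
                 rw [cX.w] } }
  have hP : IsLimit cP := by
    refine isLimitOfIsPullbackOfIsConnected (Functor.whiskerLeft F α) cP (cX.whisker F)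
      { hom := p, w := fun j => (hr₂ j).symm } (fun j => ?_)
      ((Functor.Initial.isLimitWhiskerEquiv F cX).symm hcX)
    refine IsPullback.of_right (h₁₂ := DU.map j.hom) (v₁₃ := α.app n) (h₂₂ := DX.map j.hom) ?_ (hr₂ j) (sq j.hom)
    change IsPullback (r j ≫ DU.map j.hom) p (α.app n) (cX.π.app j.left ≫ DX.map j.hom)
    rw [hr₁, cX.w]
    exact sqP
  have hUl : IsLimit (cU.whisker F) := (Functor.Initial.isLimitWhiskerEquiv F cU).symm hcU
  let e : P ≅ cU.pt := hP.conePointUniqueUpToIso hUl
  have he : ∀ j : Over n, e.hom ≫ cU.π.app j.left = r j := fun j =>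
    hP.conePointUniqueUpToIso_hom_comp hUl j
  have hn : e.hom ≫ cU.π.app n = qn := by
    have h := he (Over.mk (𝟙 n))
    have h' := hr₁ (Over.mk (𝟙 n))
    rw [show DU.map (Over.mk (𝟙 n)).hom = 𝟙 _ from DU.map_id n] at h'
    exact h.trans ((Category.comp_id _).symm.trans h')
  refine sqP.of_iso e (Iso.refl _) (Iso.refl _) (Iso.refl _) (by simp [hn]) ?_ (by simp) (by simp)
  simp only [Iso.refl_hom, Category.comp_id]
  refine ((Functor.Initial.isLimitWhiskerEquiv F cX).symm hcX).hom_ext fun j => ?_
  change p ≫ cX.π.app j.left = (e.hom ≫ θ) ≫ cX.π.app j.left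
  rw [Category.assoc, hθ, reassoc_of% (he j), hr₂]

end Groth.Agent.H12AlgSp.Approx
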