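import Groth.Agent.H12AlgSp.Approx.StageEtale
import Groth.Agent.H12AlgSp.Approx.SchemeSystem
import Groth.Agent.H12AlgSp.Approx.Cofinal
import Groth.Agent.H12AlgSp.Approx.Sys
import Groth.Agent.H18HTop.SpecLiftDVR

/-!
# The pieces of an approximation of a glued space
-/

set_option autoImplicit false
set_option linter.style.haveILetI false
set_option maxHeartbeats 1600000
set_option backward.isDefEq.respectTransparency false
universe u

open CategoryTheory CategoryTheory.Limits AlgebraicGeometry Opposite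
open AlgSp Groth.Agent.H13AlgSp

namespace Groth.Agent.H12AlgSp.Approx

variable {S : Scheme.{u}}

/-- Compatible systems approximating the pieces of a glueing datum. -/
structure Pieces {U : Sp S} (σ : Sys U) {A R : Over S} (w : R ⟶ A) (k : (yon S).obj R ⟶ U) where
  /-- The index set. -/
  J : Type u
  [preorder : Preorder J]
  [directed : IsDirected J (fun a b => a ≤ b)]
  [nonempty : Nonempty J]
  /-- The map of indices. -/
  α : J →o σ.I
  cofinal : ∀ i, ∃ j, i ≤ α j
  /-- The system approximating the scheme. -/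
  A' : Jᵒᵖ ⥤ Over S
  /-- The projections. -/
  pA : (Functor.const Jᵒᵖ).obj A ⟶ A'
  isLimitA : IsLimit (Cone.mk A pA)
  affineA : ∀ (a b : Jᵒᵖ) (φ : a ⟶ b), IsAffineHom (A'.map φ).left
  compactA : ∀ a, CompactSpace (A'.obj a).left
  qsA : ∀ a, QuasiSeparatedSpace (A'.obj a).left
  lfpA : ∀ a, LocallyOfFinitePresentation (A'.obj a).hom
  /-- The overlaps. -/
  P : Jᵒᵖ → Over S
  /-- The inclusions of the overlaps. -/
  incl : ∀ a, P a ⟶ A'.obj a
  openIncl : ∀ a, IsOpenImmersion (incl a).left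
  compactP : ∀ a, CompactSpace (P a).left
  /-- The maps of the overlaps to the space. -/
  pr : ∀ a, (yon S).obj (P a) ⟶ σ.D.obj (op (α a.unop))
  etalePr : ∀ a, RepWith @Etale (pr a)
  sepPr : ∀ a, IsSeparatedMor (pr a)
  /-- Transition maps of the overlaps. -/
  τ : ∀ {a b : Jᵒᵖ}, (a ⟶ b) → (P a ⟶ P b)
  τ_incl : ∀ {a b : Jᵒᵖ} (φ : a ⟶ b), τ φ ≫ incl b = incl a ≫ A'.map φ
  range_incl : ∀ {a b : Jᵒᵖ} (φ : a ⟶ b) (x : (A'.obj a).left),
    (A'.map φ).left x ∈ Set.range (incl b).left → x ∈ Set.range (incl a).left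
  sqτ : ∀ {a b : Jᵒᵖ} (φ : a ⟶ b),
    IsPullback ((yon S).map (τ φ)) (pr a) (pr b) (σ.D.map (homOfLE (α.mono φ.unop.le)).op)
  /-- The map from the overlap. -/
  ρ : ∀ a, R ⟶ P a
  ρ_incl : ∀ a, ρ a ≫ incl a = w ≫ pA.app a
  range_proj : ∀ a (x : A.left), (pA.app a).left x ∈ Set.range (incl a).left → x ∈ Set.range w.left
  sqρ : ∀ a, IsPullback ((yon S).map (ρ a)) k (pr a) (σ.π.app (op (α a.unop)))

attribute [instance] Pieces.preorder Pieces.directed Pieces.nonempty

/-- The pieces exist. -/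
theorem exists_pieces (hS : IsTerminal S) [QuasiSeparatedSpace S] [IsLocallyNoetherian S] {U : Sp S} (σ : Sys U)
    {A R : Over S} [CompactSpace A.left] [QuasiSeparatedSpace A.left] (w : R ⟶ A) [IsOpenImmersion w.left]
    [CompactSpace R.left] (k : (yon S).obj R ⟶ U) (hk : RepWith @Etale k) (hks : IsSeparatedMor k) :
    Nonempty (Pieces σ w k) := by
  haveI : QuasiSeparatedSpace R.left := w.left.isOpenEmbedding.quasiSeparatedSpace
  obtain ⟨i, Wi, wi, g, hwe, hws, hWc, hWs, hWl, sq⟩ :=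
    exists_etale_stage (c := Cone.mk U σ.π) σ.alg σ.affine σ.isLimit σ.qc σ.qs σ.lfp k hk hks
  haveI := hWc
  obtain ⟨K, wk, cK, hcK, eK, t, hKa, ht, hKsq, hKπ⟩ :=
    exists_overlap_system (c := Cone.mk U σ.π) σ.affine σ.isLimit i.unop wi sq
  have hwke : ∀ a, RepWith @Etale (wk a) := fun a => repWith_of_isPullback (ht a).2 hwe
  have hwks : ∀ a, IsSeparatedMor (wk a) := fun a => isSeparatedMor_of_isPullback (ht a).2 hws
  have hKc : ∀ a, CompactSpace (K.obj a).left := fun a =>
    haveI := (ht a).1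
    QuasiCompact.compactSpace_of_compactSpace (t a).left
  have hKl : ∀ a, LocallyOfFinitePresentation (K.obj a).hom := fun a =>
    lfp_hom_of_locP (strMap_ext (wk a ≫ strMap (σ.D.obj (op a.unop.1))) (strMap _) ▸
      locP_comp etLocal_lfp (IsAlgSpace.yon_obj _) (σ.alg _) (IsAlgSpace.yon_obj _)
        (locP_of_repWith etLocal_lfp
          (repWith_le (fun _ _ f (_ : Etale f) => inferInstanceAs (LocallyOfFinitePresentation f)) (hwke a)))
        (σ.lfp _))
  let I₀ := {l : σ.I // i.unop ≤ l}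
  haveI : Nonempty I₀ := ⟨⟨i.unop, le_rfl⟩⟩
  haveI : IsDirected I₀ (fun a b => a ≤ b) := ⟨fun a b => by
    obtain ⟨l, ha, hb⟩ := σ.directed.directed a.1 b.1
    exact ⟨⟨l, a.2.trans ha⟩, ha, hb⟩⟩
  let e₀ : S ≅ Spec (CommRingCat.of (ULift.{u} ℤ)) := hS.uniqueUpToIso specULiftZIsTerminal
  have hft : ∀ a, CompactSpace ((K ⋙ Over.forget S).obj a) ∧
      LocallyOfFiniteType (IsTerminal.from specULiftZIsTerminal ((K ⋙ Over.forget S).obj a)) := fun a => by
    refine ⟨hKc a, ?_⟩
    rw [show IsTerminal.from specULiftZIsTerminal ((K ⋙ Over.forget S).obj a) = (K.obj a).hom ≫ e₀.hom from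
      specULiftZIsTerminal.hom_ext _ _]
    haveI := hKl a
    infer_instance
  obtain ⟨J, _, _, _, DS, cS, hcS, eS, α, V', φ, haffA, hftA, hpre, hV, hcof, hρ, hτ⟩ :=
    exists_relative_approximation A.left w.left.opensRange (isCompact_range w.left.continuous) I₀
      (K ⋙ Over.forget S) (fun a b φ => hKa a b φ) hft ((Over.forget S).mapCone cK) (isLimitOfPreserves _ hcK)
      ((Over.forget S).mapIso eK ≪≫ w.left.isoOpensRange)
  let A' : Jᵒᵖ ⥤ Over S :=
    { obj := fun a => Over.mk (hS.from (DS.obj a))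
      map := fun φ => Over.homMk (DS.map φ) (hS.hom_ext _ _)
      map_id := fun a => Over.OverMorphism.ext (DS.map_id a)
      map_comp := fun φ ψ => Over.OverMorphism.ext (DS.map_comp φ ψ) }
  let pA : (Functor.const Jᵒᵖ).obj A ⟶ A' :=
    { app := fun a => Over.homMk (eS.inv ≫ cS.π.app a) (hS.hom_ext _ _)
      naturality := fun a b φ => Over.OverMorphism.ext (by
        show 𝟙 _ ≫ eS.inv ≫ cS.π.app b = (eS.inv ≫ cS.π.app a) ≫ DS.map φ
        rw [Category.id_comp, Category.assoc, cS.w]) }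
  have hpAl : IsLimit (Cone.mk A pA) := by
    haveI : CategoryTheory.IsConnected Jᵒᵖ :=
      haveI := IsFiltered.isConnected J
      isConnected_op
    refine isLimitOfReflects (Over.forget S) (IsLimit.ofIsoLimit hcS ?_)
    exact Cone.ext eS fun a => by
      show cS.π.app a = eS.hom ≫ eS.inv ≫ cS.π.app a
      rw [Iso.hom_inv_id_assoc]
  let P : Jᵒᵖ → Over S := fun a => openOver (A'.obj a) (V' a.unop)
  let φ' : ∀ a : Jᵒᵖ, P a ≅ K.obj (op (α a.unop)) := fun a => Over.isoMk (φ a.unop) (hS.hom_ext _ _)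
  let pr : ∀ a : Jᵒᵖ, (yon S).obj (P a) ⟶ σ.D.obj (op (α a.unop).1) := fun a =>
    (yon S).map (φ' a).hom ≫ wk (op (α a.unop))
  choose τ hτ₁ hτ₂ using fun (a b : Jᵒᵖ) (f : a ⟶ b) => hτ a.unop b.unop f.unop.le
  choose ρ hρ₁ hρ₂ using fun a : Jᵒᵖ => hρ a.unop
  let α' : J →o σ.I := ⟨fun a => (α a).1, fun a b h => α.mono h⟩
  refine ⟨{
    J := J
    α := α'
    cofinal := fun l => by
      obtain ⟨m, hm₁, hm₂⟩ := σ.directed.directed i.unop l
      obtain ⟨a, ha⟩ := hcof ⟨m, hm₁⟩
      exact ⟨a, hm₂.trans ha⟩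
    A' := A'
    pA := pA
    isLimitA := hpAl
    affineA := haffA
    compactA := fun a => (hftA a).1
    qsA := fun a => ?_
    lfpA := fun a => ?_
    P := P
    incl := fun a => openIncl (A'.obj a) (V' a.unop)
    openIncl := fun a => inferInstanceAs (IsOpenImmersion (V' a.unop).ι)
    compactP := fun a => ?_
    pr := pr
    etalePr := fun a => MorphismProperty.RespectsIso.precomp _ ((yon S).map (φ' a).hom) _ (hwke _)
    sepPr := fun a => isSeparatedMor_of_isPullback
      (IsPullback.of_horiz_isIso (fst := (yon S).map (φ' a).hom) (g := 𝟙 _) ⟨by simp [pr]⟩) (hwks (op (α a.unop)))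
    τ := fun {a b} f => Over.homMk (τ a b f) (hS.hom_ext _ _)
    τ_incl := fun {a b} f => Over.OverMorphism.ext (hτ₁ a b f)
    range_incl := fun {a b} f x hx => ?_
    sqτ := fun {a b} f => ?_
    ρ := fun a => Over.homMk (w.left.isoOpensRange.hom ≫ ρ a) (hS.hom_ext _ _)
    ρ_incl := fun a => Over.OverMorphism.ext ?_
    range_proj := fun a x hx => ?_
    sqρ := fun a => ?_ }⟩
  · haveI := (hftA a).2
    haveI := H7Lim.Approx.isLocallyNoetherian_of_toZ (DS.obj a)
    show QuasiSeparatedSpace (DS.obj a)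
    infer_instance
  · show LocallyOfFinitePresentation (hS.from (DS.obj a))
    haveI := (hftA a).2
    rw [show hS.from (DS.obj a) = IsTerminal.from specULiftZIsTerminal (DS.obj a) ≫ e₀.inv from hS.hom_ext _ _]
    haveI : LocallyOfFiniteType (IsTerminal.from specULiftZIsTerminal (DS.obj a) ≫ e₀.inv) := inferInstance
    exact H18HTop.locallyOfFinitePresentation_of_noetherian _
  · haveI : CompactSpace ((K ⋙ Over.forget S).obj (op (α a.unop))) := hKc (op (α a.unop))
    exact ((φ a.unop).symm.hom.homeomorph).compactSpace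
  · change DS.map f x ∈ Set.range (V' b.unop).ι at hx
    rw [Scheme.Opens.range_ι] at hx
    show x ∈ Set.range (V' a.unop).ι
    rw [Scheme.Opens.range_ι, ← hpre a.unop b.unop f.unop.le]
    exact hx
  · refine IsPullback.of_iso (hKsq (op (α a.unop)) (op (α b.unop)) (homOfLE (α.mono f.unop.le)).op)
      ((yon S).mapIso (φ' a)).symm ((yon S).mapIso (φ' b)).symm (Iso.refl _) (Iso.refl _) ?_ ?_ ?_ ?_
    · simp only [Iso.symm_hom, Functor.mapIso_inv, ← Functor.map_comp]
      refine congrArg _ (Over.OverMorphism.ext ?_)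
      show _ ≫ (φ b.unop).inv = (φ a.unop).inv ≫ τ a b f
      rw [Iso.comp_inv_eq, Category.assoc, ← hτ₂ a b f, Iso.inv_hom_id_assoc]
      rfl
    · simp only [Iso.symm_hom, Functor.mapIso_inv, Iso.refl_hom, Category.comp_id, pr]
      rw [← Category.assoc, ← Functor.map_comp, Iso.inv_hom_id, CategoryTheory.Functor.map_id, Category.id_comp]
    · simp only [Iso.symm_hom, Functor.mapIso_inv, Iso.refl_hom, Category.comp_id, pr]
      rw [← Category.assoc, ← Functor.map_comp, Iso.inv_hom_id, CategoryTheory.Functor.map_id, Category.id_comp]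
    · rfl
  · show (w.left.isoOpensRange.hom ≫ ρ a) ≫ (V' a.unop).ι = w.left ≫ eS.inv ≫ cS.π.app a
    rw [Category.assoc, hρ₁, ← Category.assoc, Scheme.Hom.isoOpensRange_hom_ι]
  · have h := hV a.unop
    change (eS.inv ≫ cS.π.app a) x ∈ Set.range (V' a.unop).ι at hx
    rw [Scheme.Opens.range_ι] at hx
    change x ∈ (w.left.opensRange : Set A.left)
    rw [← h]
    exact hx
  · refine IsPullback.of_iso (hKπ (op (α a.unop))) (Iso.refl _) ((yon S).mapIso (φ' a)).symm (Iso.refl _) (Iso.refl _)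
      ?_ ?_ ?_ ?_
    · simp only [Iso.refl_hom, Category.id_comp, Iso.symm_hom, Functor.mapIso_inv, ← Functor.map_comp]
      refine congrArg _ (Over.OverMorphism.ext ?_)
      show (eK.inv.left ≫ (cK.π.app _).left) ≫ (φ a.unop).inv = w.left.isoOpensRange.hom ≫ ρ a
      rw [Iso.comp_inv_eq, Category.assoc, hρ₂]
      simp
    · simp
    · simp only [Iso.symm_hom, Functor.mapIso_inv, Iso.refl_hom, Category.comp_id, pr]
      rw [← Category.assoc, ← Functor.map_comp, Iso.inv_hom_id, CategoryTheory.Functor.map_id, Category.id_comp]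
    · simp [α']

end Groth.Agent.H12AlgSp.Approx
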